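import Cfsg.Agent.H752.TFiveCo
import Cfsg.Agent.H106.MBase

/-!
# The middle pair rows `p = 5` of the groups `McL`, `Co3`, `Co2`, `Co1` (helper752)

The pairs found in `McLPairs`, `CoOnePairs` have a product of order prime to 5, so they are middle pairs.
-/

set_option autoImplicit false

namespace Cfsg.Agent.H752.MFiveCo

open Cfsg Subgroup Cfsg.Agent.SporadicStructure.Co0Base Cfsg.Agent.CoOneType.CoEval
open Cfsg.Agent.CpAutCoOneFive Cfsg.Agent.CpAutCoOneFive.Mat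
open Cfsg.Agent.CpAutCoOneFive.Elem (a b c d)
open Cfsg.Agent.H533.T5 Cfsg.Agent.H957.T5M Cfsg.Agent.H106.MB
open Cfsg.Agent.H752.TFiveCo Cfsg.Agent.SporadicA Cfsg.Agent.SporadicStructure.Co0Matrix

universe u

/-- a product of order prime to `p` gives a middle pair -/
theorem mpair_of_coprime {G : Type*} [Group G] {S : Subgroup G} {p : ℕ} {x y g : G} (hg : g ∈ S) {n : ℕ}
    (hn : Nat.Coprime n p) (h1 : (x * (g * y * g⁻¹)) ^ n = 1) (h2 : x * (g * y * g⁻¹) ≠ 1) : MPair p S x y := by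
  refine ⟨g, hg, 1, 1, fun m h3 => h2 ?_⟩
  rw [pow_one, pow_one] at h3
  have h4 := pow_gcd_eq_one.mpr ⟨h1, h3⟩
  rwa [(Nat.Coprime.pow_right m hn : Nat.gcd n (p ^ m) = 1), pow_one] at h4

section mcl

open Cfsg.Agent.H752.McLPairs Cfsg.Agent.CpAutCoOneFive.Nf Cfsg.Agent.CpAutCoOneFive.Cls

theorem pair_rv_le {S : Subgroup Co0} (ha : a ∈ S) (hb : b ∈ S) (hk : k ∈ S) {i j : ℕ} (hij : i ≤ j) (hj : j < 7) :
    MPair 5 S (rv i) (rv j) := by
  have h := good_all hij hj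
  unfold good at h
  rw [Bool.and_eq_true, Bool.and_eq_true] at h
  obtain ⟨⟨h1, h2⟩, h3⟩ := h
  have hw : vl (wd i j) = rv i * (vl (gt i j).1 * rv j * (vl (gt i j).1)⁻¹) := by
    unfold wd
    rw [vl_append, vl_append, vl_append, vl_iw (gt_lt i (by omega) j hj)]
    unfold rv
    simp only [mul_assoc]
  refine mpair_of_coprime (g := vl (gt i j).1) (vl_mem ha hb hk _) (n := (gt i j).2) ?_ ?_ ?_
  · rw [Nat.coprime_comm, Nat.Prime.coprime_iff_not_dvd five]
    intro hd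
    have h4 : (gt i j).2 % 5 = 0 := Nat.mod_eq_zero_of_dvd hd
    rw [h4] at h3
    exact absurd h3 (by decide)
  · rw [← hw, ← vl_flatten]
    exact eq_one_of_oneB rep3 h1
  · rw [← hw]
    intro h4
    have h5 := ne_one_of_neB rep3 h2
    apply h5
    rw [map_prod_pr]
    change pr (vl (wd i j)) = 1
    rw [h4]
    exact map_one _

theorem pair_rv {S : Subgroup Co0} (ha : a ∈ S) (hb : b ∈ S) (hk : k ∈ S) {i j : ℕ} (hi : i < 7) (hj : j < 7) :
    MPair 5 S (rv i) (rv j) := by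
  rcases le_total i j with h | h
  · exact pair_rv_le ha hb hk h hj
  · exact (pair_rv_le ha hb hk h hi).symm

theorem pair_P3 {S : Subgroup Co0} (ha : a ∈ S) (hb : b ∈ S) (hk : k ∈ S) {x y : Co0} (hx : x ∈ P3 quad)
    (hx1 : x ≠ 1) (hy : y ∈ P3 quad) (hy1 : y ≠ 1) : MPair 5 S x y := by
  obtain ⟨i, hi, n, w, hw, h1⟩ := exists_rep ha hb hx hx1
  obtain ⟨j, hj, m, v, hv, h2⟩ := exists_rep ha hb hy hy1
  have h3 := pair_rv ha hb hk hi hj
  rw [← h1, ← h2] at h3
  exact MPair.of_pow n m ((h3.conj_left hw).conj_right hv)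

/-- **All pairs of elements of order five of a subgroup with Sylow subgroup `P3`.** -/
theorem pair_all {S : Subgroup Co0} (ha : a ∈ S) (hb : b ∈ S) (hk : k ∈ S) (hS : ¬ 5 ^ 4 ∣ Nat.card ↥S) {x y : Co0}
    (hxS : x ∈ S) (hyS : y ∈ S) (hx : orderOf x = 5) (hy : orderOf y = 5) : MPair 5 S x y := by
  have hfin : Finite Co0 := CpAutBig.CoZero.finite_co0
  have hP : P3 quad ≤ S := by
    rintro _ ⟨i, m, j, rfl⟩
    unfold N E
    rw [pw_zero, mul_one]
    have hcS : c ∈ S := by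
      rw [← rv0]
      exact vl_mem ha hb hk _
    exact mul_mem (mul_mem (pow_mem ha _) (pow_mem hcS _)) (pow_mem hb _)
  have hcard : ¬ 5 * Nat.card ↥(P3 quad) ∣ Nat.card ↥S := by
    rw [card_P3]
    exact hS
  have hone : ∀ z : Co0, orderOf z = 5 → z ≠ 1 := by
    rintro z hz rfl
    rw [orderOf_one] at hz
    norm_num at hz
  obtain ⟨w, hw, h1⟩ := conj_into five hP isPGroup_P3 hcard (by rw [← hx, pow_orderOf_eq_one]) hxS
  obtain ⟨v, hv, h2⟩ := conj_into five hP isPGroup_P3 hcard (by rw [← hy, pow_orderOf_eq_one]) hyS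
  have h3 := pair_P3 ha hb hk h1 (fun h => hone x hx (by
    rwa [mul_inv_eq_one, mul_eq_left] at h)) h2 (fun h => hone y hy (by
    rwa [mul_inv_eq_one, mul_eq_left] at h))
  exact (h3.conj_left hw).conj_right hv

/-- the same in a group isomorphic to `S` -/
theorem pair_group {G : Type*} [Group G] {S : Subgroup Co0} (e : G ≃* ↥S) (ha : a ∈ S) (hb : b ∈ S) (hk : k ∈ S)
    (hG : ¬ 5 ^ 4 ∣ Nat.card G) {x y : G} (hx : orderOf x = 5) (hy : orderOf y = 5) :
    MPair 5 (⊤ : Subgroup G) x y := by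
  let φ : G →* Co0 := S.subtype.comp e.toMonoidHom
  have hφ : Function.Injective φ := S.subtype_injective.comp e.injective
  refine MPair.of_hom φ (T := S) ?_ (pair_all ha hb hk (by rwa [← Nat.card_congr e.toEquiv]) (e x).2 (e y).2 ?_ ?_)
  · intro s hs
    exact ⟨e.symm ⟨s, hs⟩, mem_top _, congrArg Subtype.val (e.apply_symm_apply ⟨s, hs⟩)⟩
  · rw [← hx]
    exact orderOf_injective φ hφ x
  · rw [← hy]
    exact orderOf_injective φ hφ y

/-- **the row from an isomorphism with a subgroup of `Co0` containing `a, b, k`** -/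
theorem mrow_of {G : Type*} [Group G] [Finite G] [IsSimpleGroup G] {S : Subgroup Co0} (e : G ≃* ↥S) (ha : a ∈ S)
    (hb : b ∈ S) (hk : k ∈ S) (hG : ¬ 5 ^ 4 ∣ Nat.card G) (hp : ¬ (Nat.card G).Prime)
    (hinn : ∀ α : MulAut G, orderOf α = 5 → α ∈ (MulAut.conj : G →* MulAut G).range) : MRow 5 G :=
  MRow.of_inner (not_comm_of_card hp) hinn fun _ _ hx hy => pair_group e ha hb hk hG hx hy

theorem mrow_co2 (K : Type u) [Group K] [Finite K] [IsSimpleGroup K] (h : Spor.IsoCo2 K) : MRow 5 K := by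
  obtain ⟨e⟩ := h
  obtain ⟨hv, hn, ha, hb, hk⟩ := exists_vec fix32a fix32b fixK32
  obtain ⟨s⟩ := stab_equiv (Or.inl rfl) norm_leechU (w := ⟨vec l32, hv⟩) hn
  have hcard : Nat.card K = 42305421312000 := by
    rw [Nat.card_congr e.toEquiv, Schreier.CoTwoStab.card]
  refine mrow_of ((e.trans equivCo2).trans s) ha hb hk (by rw [hcard]; norm_num) (by rw [hcard]; norm_num) ?_
  intro α _
  obtain ⟨g, hg⟩ := KFacts.CoTwo.Main.allInner_iso e α
  exact ⟨g, hg.symm⟩

theorem mrow_co3 (K : Type u) [Group K] [Finite K] [IsSimpleGroup K] (h : Spor.IsoCo3 K) : MRow 5 K := by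
  obtain ⟨e⟩ := h
  obtain ⟨hv, hn, ha, hb, hk⟩ := exists_vec fix48a fix48b fixK48
  obtain ⟨s⟩ := stab_equiv (Or.inr (Or.inl rfl)) norm_leechV (w := ⟨vec l48, hv⟩) hn
  have hcard : Nat.card K = 495766656000 := by
    rw [Nat.card_congr (e.trans SporRec.Co3.Model.equivCo3.symm).toEquiv, SporRec.Co3.Chain.isCo3_G3.2]
  refine mrow_of ((e.trans equivCo3).trans s) ha hb hk (by rw [hcard]; norm_num) (by rw [hcard]; norm_num) ?_
  intro α _
  obtain ⟨g, hg⟩ := KFacts.Co3.Sheet.inner_of (e.trans SporRec.Co3.Model.equivCo3.symm).symm α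
  exact ⟨g, hg.symm⟩

theorem mrow_mcl (K : Type u) [Group K] [Finite K] [IsSimpleGroup K] (h : Spor.IsoMcL K) : MRow 5 K := by
  obtain ⟨-, -, hcard, ⟨L⟩⟩ := TypeM.FactsMcL.facts h
  obtain ⟨e⟩ := h
  obtain ⟨hv, -, ha, hb, hk⟩ := exists_vec fix32a fix32b fixK32
  obtain ⟨hv', -, ha', hb', hk'⟩ := exists_vec fix48a fix48b fixK48
  obtain ⟨s⟩ := equivStd hv hv'
  refine mrow_of ((e.trans equivMcL).trans s) ⟨ha', ha⟩ ⟨hb', hb⟩ ⟨hk', hk⟩ (by rw [hcard]; norm_num)
    (by rw [hcard]; norm_num) ?_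
  intro α hα
  exact UGT.End.McLOuter.inner_of_odd L hcard α (by rw [hα]; decide)

end mcl

section co1

open Cfsg.Agent.H752.CoOnePairs Cfsg.Agent.CpAutCoOneFive.Cls

theorem pair_rv_le1 {i j : ℕ} (hij : i ≤ j) (hj : j < 3) : MPair 5 (⊤ : Subgroup Spor.Co1) (rv i) (rv j) := by
  have h := good_all hij hj
  unfold good at h
  rw [Bool.and_eq_true, Bool.and_eq_true] at h
  obtain ⟨⟨h1, h2⟩, h3⟩ := h
  have hw : vl (wd i j) = rv i * (vl (gt i j).1 * rv j * (vl (gt i j).1)⁻¹) := by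
    unfold wd
    rw [vl_append, vl_append, vl_append, vl_iw (gt_lt i (by omega) j hj)]
    unfold rv
    simp only [mul_assoc]
  refine mpair_of_coprime (g := vl (gt i j).1) (mem_top _) (n := (gt i j).2) ?_ ?_ ?_
  · rw [Nat.coprime_comm, Nat.Prime.coprime_iff_not_dvd five]
    intro hd
    have h4 : (gt i j).2 % 5 = 0 := Nat.mod_eq_zero_of_dvd hd
    rw [h4] at h3
    exact absurd h3 (by decide)
  · rw [← hw, ← vl_flatten]
    exact eq_one_of_relB rep h1
  · rw [← hw]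
    exact ne_one_of_neB rep h2

theorem pair_rv1 {i j : ℕ} (hi : i < 3) (hj : j < 3) : MPair 5 (⊤ : Subgroup Spor.Co1) (rv i) (rv j) := by
  rcases le_total i j with h | h
  · exact pair_rv_le1 h hj
  · exact (pair_rv_le1 h hi).symm

theorem exists_nat_pow {G : Type*} [Group G] {x : G} (hx : orderOf x = 5) (n : ℤ) : ∃ m : ℕ, x ^ n = x ^ m := by
  have h : IsOfFinOrder x := orderOf_pos_iff.1 (by rw [hx]; norm_num)
  obtain ⟨m, hm⟩ := (h.mem_powers_iff_mem_zpowers).2 (⟨n, rfl⟩ : x ^ n ∈ Subgroup.zpowers x)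
  exact ⟨m, hm.symm⟩

/-- **All pairs of elements of order five of `Co1`.** -/
theorem pair_co1 {x y : Spor.Co1} (hx : orderOf x = 5) (hy : orderOf y = 5) :
    MPair 5 (⊤ : Subgroup Spor.Co1) x y := by
  obtain ⟨i, hi, n, w, h1⟩ := exists_rep hx
  obtain ⟨j, hj, m, v, h2⟩ := exists_rep hy
  obtain ⟨n', hn⟩ := exists_nat_pow hx n
  obtain ⟨m', hm⟩ := exists_nat_pow hy m
  have h3 := pair_rv1 hi hj
  rw [← h1, ← h2, hn, hm] at h3
  exact MPair.of_pow n' m' ((h3.conj_left (mem_top w)).conj_right (mem_top v))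

theorem mrow_co1 (K : Type u) [Group K] [Finite K] [IsSimpleGroup K] (h : Spor.IsoCo1 K) : MRow 5 K := by
  obtain ⟨e⟩ := h
  have hcard : Nat.card K = 4157776806543360000 := by
    rw [Nat.card_congr e.toEquiv, S0399.result.2]
  refine MRow.of_inner (not_comm_of_card (by rw [hcard]; norm_num)) ?_ ?_
  · intro α _
    obtain ⟨s, hs⟩ := ConwayFacts.AutCo1.inner_of_equiv e α
    exact ⟨s, MulEquiv.ext fun g => by rw [hs, MulAut.conj_apply]⟩
  · intro x y hx hy
    refine MPair.of_hom e.toMonoidHom (T := ⊤) ?_ (pair_co1 ?_ ?_)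
    · intro z _
      exact ⟨e.symm z, mem_top _, e.apply_symm_apply z⟩
    · rw [← hx]
      exact orderOf_injective e.toMonoidHom e.injective x
    · rw [← hy]
      exact orderOf_injective e.toMonoidHom e.injective y

end co1

end Cfsg.Agent.H752.MFiveCo
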