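import Cfsg.Agent.CoOneType.CoEval
import Cfsg.Agent.CoOneType.CoFast

/-!
Explicit matrices (times 8) of two further elements of `Co0`: `a`, of order 3 modulo `-1`, commuting with `x` and `y`
modulo `-1`; and `c`, with `c (x y⁻¹) c⁻¹ = (x y⁻¹)³ (a w d e f)³` modulo `-1`.
-/

set_option autoImplicit false

namespace Cfsg.Agent.H752.CoOneSPData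

open Cfsg Cfsg.Agent.CoOneType Cfsg.Agent.SporadicA Cfsg.Agent.SporadicStructure.Co0Matrix Cfsg.Agent.CoOneType.CoEval

/-- Rows of `a`. -/
def aR : List (List ℤ) :=
  [[4,-4,0,4,0,0,0,0,0,0,4,0,0,0,0,0,0,0,0,0,0,0,0,0],
  [4,4,0,4,0,0,0,0,0,0,-4,0,0,0,0,0,0,0,0,0,0,0,0,0],
  [0,0,4,0,4,0,0,4,0,0,0,0,-4,0,0,0,0,0,0,0,0,0,0,0],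
  [-4,-4,0,4,0,0,0,0,0,0,-4,0,0,0,0,0,0,0,0,0,0,0,0,0],
  [0,0,-4,0,4,0,0,4,0,0,0,0,4,0,0,0,0,0,0,0,0,0,0,0],
  [0,0,0,0,0,4,0,0,0,0,0,-4,0,0,0,4,0,0,4,0,0,0,0,0],
  [0,0,0,0,0,0,4,0,4,0,0,0,0,4,0,0,0,0,0,0,0,0,0,-4],
  [0,0,-4,0,-4,0,0,4,0,0,0,0,-4,0,0,0,0,0,0,0,0,0,0,0],
  [0,0,0,0,0,0,-4,0,4,0,0,0,0,4,0,0,0,0,0,0,0,0,0,4],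
  [0,0,0,0,0,0,0,0,0,4,0,0,0,0,0,0,0,-4,0,4,0,4,0,0],
  [-4,4,0,4,0,0,0,0,0,0,4,0,0,0,0,0,0,0,0,0,0,0,0,0],
  [0,0,0,0,0,4,0,0,0,0,0,4,0,0,0,4,0,0,-4,0,0,0,0,0],
  [0,0,4,0,-4,0,0,4,0,0,0,0,4,0,0,0,0,0,0,0,0,0,0,0],
  [0,0,0,0,0,0,-4,0,-4,0,0,0,0,4,0,0,0,0,0,0,0,0,0,-4],
  [0,0,0,0,0,0,0,0,0,0,0,0,0,0,4,0,4,0,0,0,4,0,-4,0],
  [0,0,0,0,0,-4,0,0,0,0,0,-4,0,0,0,4,0,0,-4,0,0,0,0,0],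
  [0,0,0,0,0,0,0,0,0,0,0,0,0,0,-4,0,4,0,0,0,-4,0,-4,0],
  [0,0,0,0,0,0,0,0,0,4,0,0,0,0,0,0,0,4,0,-4,0,4,0,0],
  [0,0,0,0,0,-4,0,0,0,0,0,4,0,0,0,4,0,0,4,0,0,0,0,0],
  [0,0,0,0,0,0,0,0,0,-4,0,0,0,0,0,0,0,4,0,4,0,4,0,0],
  [0,0,0,0,0,0,0,0,0,0,0,0,0,0,-4,0,4,0,0,0,4,0,4,0],
  [0,0,0,0,0,0,0,0,0,-4,0,0,0,0,0,0,0,-4,0,-4,0,4,0,0],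
  [0,0,0,0,0,0,0,0,0,0,0,0,0,0,4,0,4,0,0,0,-4,0,4,0],
  [0,0,0,0,0,0,4,0,-4,0,0,0,0,4,0,0,0,0,0,0,0,0,0,4]]

/-- Columns of `a`. -/
def aC : List (List ℤ) :=
  [[4,4,0,-4,0,0,0,0,0,0,-4,0,0,0,0,0,0,0,0,0,0,0,0,0],
  [-4,4,0,-4,0,0,0,0,0,0,4,0,0,0,0,0,0,0,0,0,0,0,0,0],
  [0,0,4,0,-4,0,0,-4,0,0,0,0,4,0,0,0,0,0,0,0,0,0,0,0],
  [4,4,0,4,0,0,0,0,0,0,4,0,0,0,0,0,0,0,0,0,0,0,0,0],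
  [0,0,4,0,4,0,0,-4,0,0,0,0,-4,0,0,0,0,0,0,0,0,0,0,0],
  [0,0,0,0,0,4,0,0,0,0,0,4,0,0,0,-4,0,0,-4,0,0,0,0,0],
  [0,0,0,0,0,0,4,0,-4,0,0,0,0,-4,0,0,0,0,0,0,0,0,0,4],
  [0,0,4,0,4,0,0,4,0,0,0,0,4,0,0,0,0,0,0,0,0,0,0,0],
  [0,0,0,0,0,0,4,0,4,0,0,0,0,-4,0,0,0,0,0,0,0,0,0,-4],
  [0,0,0,0,0,0,0,0,0,4,0,0,0,0,0,0,0,4,0,-4,0,-4,0,0],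
  [4,-4,0,-4,0,0,0,0,0,0,4,0,0,0,0,0,0,0,0,0,0,0,0,0],
  [0,0,0,0,0,-4,0,0,0,0,0,4,0,0,0,-4,0,0,4,0,0,0,0,0],
  [0,0,-4,0,4,0,0,-4,0,0,0,0,4,0,0,0,0,0,0,0,0,0,0,0],
  [0,0,0,0,0,0,4,0,4,0,0,0,0,4,0,0,0,0,0,0,0,0,0,4],
  [0,0,0,0,0,0,0,0,0,0,0,0,0,0,4,0,-4,0,0,0,-4,0,4,0],
  [0,0,0,0,0,4,0,0,0,0,0,4,0,0,0,4,0,0,4,0,0,0,0,0],
  [0,0,0,0,0,0,0,0,0,0,0,0,0,0,4,0,4,0,0,0,4,0,4,0],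
  [0,0,0,0,0,0,0,0,0,-4,0,0,0,0,0,0,0,4,0,4,0,-4,0,0],
  [0,0,0,0,0,4,0,0,0,0,0,-4,0,0,0,-4,0,0,4,0,0,0,0,0],
  [0,0,0,0,0,0,0,0,0,4,0,0,0,0,0,0,0,-4,0,4,0,-4,0,0],
  [0,0,0,0,0,0,0,0,0,0,0,0,0,0,4,0,-4,0,0,0,4,0,-4,0],
  [0,0,0,0,0,0,0,0,0,4,0,0,0,0,0,0,0,4,0,4,0,4,0,0],
  [0,0,0,0,0,0,0,0,0,0,0,0,0,0,-4,0,-4,0,0,0,4,0,4,0],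
  [0,0,0,0,0,0,-4,0,4,0,0,0,0,-4,0,0,0,0,0,0,0,0,0,4]]

theorem ok_a : Ok aR aC := CoFast.ok_of_okZ (by decide +kernel)

/-- Rows of `c`. -/
def cR : List (List ℤ) :=
  [[-2,2,0,0,0,-2,0,2,0,-2,2,-2,-4,-2,0,0,2,2,2,2,0,0,0,0],
  [0,0,-2,-2,-2,0,2,0,2,0,0,0,-2,0,-2,2,0,0,0,-4,2,2,-2,-2],
  [2,-2,0,-4,0,-2,0,2,0,-2,2,2,0,2,0,0,-2,-2,2,2,0,0,0,0],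
  [2,2,0,0,0,2,0,2,0,2,2,-2,0,2,4,0,2,-2,2,-2,0,0,0,0],
  [2,2,0,0,4,-2,0,2,0,-2,-2,2,0,-2,0,0,2,-2,-2,-2,0,0,0,0],
  [0,0,-2,2,2,0,-2,0,2,0,4,0,2,0,-2,2,0,0,0,0,2,-2,-2,2],
  [0,-4,2,2,2,0,2,0,2,0,0,0,-2,0,2,2,0,0,0,0,2,-2,2,-2],
  [0,0,-2,2,2,0,2,0,-2,0,0,0,-2,4,-2,-2,0,0,0,0,2,2,2,2],
  [0,0,2,-2,2,4,-2,0,-2,0,0,0,-2,0,-2,-2,0,0,0,0,2,-2,-2,-2],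
  [-2,-2,0,0,0,-2,-4,-2,0,-2,-2,-2,0,2,0,0,2,-2,2,-2,0,0,0,0],
  [0,0,-2,-2,2,0,2,-4,-2,0,0,0,-2,0,2,2,0,0,0,0,-2,-2,-2,2],
  [-4,0,2,-2,2,0,2,0,2,0,0,0,2,0,2,-2,0,0,0,0,2,2,-2,2],
  [0,0,2,2,-2,0,-2,0,-2,0,0,4,-2,0,2,2,0,0,0,0,2,2,-2,2],
  [-2,-2,0,0,0,-2,0,2,-4,2,2,-2,0,-2,0,0,-2,-2,-2,-2,0,0,0,0],
  [0,0,2,2,-2,0,2,0,2,0,0,0,-2,0,-2,-2,0,-4,0,0,-2,-2,-2,2],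
  [2,-2,0,0,0,-2,0,2,0,2,-2,-2,0,2,0,0,2,2,-2,2,0,0,-4,0],
  [-2,-2,0,0,0,2,0,2,0,-2,2,2,0,2,0,0,2,2,-2,-2,-4,0,0,0],
  [0,0,-2,2,2,0,-2,0,2,0,0,0,-2,0,2,-2,-4,0,0,0,-2,2,-2,-2],
  [-2,2,0,0,0,-2,0,2,0,2,-2,2,0,2,0,0,-2,2,2,-2,0,-4,0,0],
  [-2,2,0,0,0,-2,0,-2,0,2,2,2,0,2,0,0,2,-2,-2,2,0,0,0,-4],
  [2,-2,0,0,0,-2,0,-2,0,2,2,2,0,-2,0,-4,2,2,2,-2,0,0,0,0],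
  [0,0,2,-2,2,0,-2,0,2,4,0,0,-2,0,-2,2,0,0,0,0,-2,2,2,2],
  [0,0,2,2,2,0,2,0,-2,0,0,0,2,0,-2,2,0,0,4,0,-2,2,-2,-2],
  [-2,-2,-4,0,0,2,0,2,0,2,-2,2,0,-2,0,0,2,-2,2,2,0,0,0,0]]

/-- Columns of `c`. -/
def cC : List (List ℤ) :=
  [[-2,0,2,2,2,0,0,0,0,-2,0,-4,0,-2,0,2,-2,0,-2,-2,2,0,0,-2],
  [2,0,-2,2,2,0,-4,0,0,-2,0,0,0,-2,0,-2,-2,0,2,2,-2,0,0,-2],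
  [0,-2,0,0,0,-2,2,-2,2,0,-2,2,2,0,2,0,0,-2,0,0,0,2,2,-4],
  [0,-2,-4,0,0,2,2,2,-2,0,-2,-2,2,0,2,0,0,2,0,0,0,-2,2,0],
  [0,-2,0,0,4,2,2,2,2,0,2,2,-2,0,-2,0,0,2,0,0,0,2,2,0],
  [-2,0,-2,2,-2,0,0,0,4,-2,0,0,0,-2,0,-2,2,0,-2,-2,-2,0,0,2],
  [0,2,0,0,0,-2,2,2,-2,-4,2,2,-2,0,2,0,0,-2,0,0,0,-2,2,0],
  [2,0,2,2,2,0,0,0,0,-2,-4,0,0,2,0,2,2,0,2,-2,-2,0,0,2],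
  [0,2,0,0,0,2,2,-2,-2,0,-2,2,-2,-4,2,0,0,2,0,0,0,2,-2,0],
  [-2,0,-2,2,-2,0,0,0,0,-2,0,0,0,2,0,2,-2,0,2,2,2,4,0,2],
  [2,0,2,2,-2,4,0,0,0,-2,0,0,0,2,0,-2,2,0,-2,2,2,0,0,-2],
  [-2,0,2,-2,2,0,0,0,0,-2,0,0,4,-2,0,-2,2,0,2,2,2,0,0,2],
  [-4,-2,0,0,0,2,-2,-2,-2,0,-2,2,-2,0,-2,0,0,-2,0,0,0,-2,2,0],
  [-2,0,2,2,-2,0,0,4,0,2,0,0,0,-2,0,2,2,0,2,2,-2,0,0,-2],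
  [0,-2,0,4,0,-2,2,-2,-2,0,2,2,2,0,-2,0,0,2,0,0,0,-2,-2,0],
  [0,2,0,0,0,2,2,-2,-2,0,2,-2,2,0,-2,0,0,-2,0,0,-4,2,2,0],
  [2,0,-2,2,2,0,0,0,0,2,0,0,0,-2,0,2,2,-4,-2,2,2,0,0,2],
  [2,0,-2,-2,-2,0,0,0,0,-2,0,0,0,-2,-4,2,2,0,2,-2,2,0,0,-2],
  [2,0,2,2,-2,0,0,0,0,2,0,0,0,-2,0,-2,-2,0,2,-2,2,0,4,2],
  [2,-4,2,-2,-2,0,0,0,0,-2,0,0,0,-2,0,2,-2,0,-2,2,-2,0,0,2],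
  [0,2,0,0,0,2,2,2,2,0,-2,2,2,0,-2,0,-4,-2,0,0,0,-2,-2,0],
  [0,2,0,0,0,-2,-2,2,-2,0,-2,2,2,0,-2,0,0,2,-4,0,0,2,2,0],
  [0,-2,0,0,0,-2,2,2,-2,0,-2,-2,-2,0,-2,-4,0,-2,0,0,0,2,-2,0],
  [0,-2,0,0,0,2,-2,2,-2,0,2,2,2,0,2,0,0,-2,0,-4,0,2,-2,0]]

theorem ok_c : Ok cR cC := CoFast.ok_of_okZ (by decide +kernel)

end Cfsg.Agent.H752.CoOneSPData
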