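import Cfsg.Agent.H802.FusBasic
import Cfsg.Agent.H759.FusNormal

/-!
# Maps of a fusion system as functions on the ambient group (helper752)

`Mp F P f` says that the function `f : Ω → Ω` restricted to `P` is a map of the fusion system `F`. This avoids
dependent types in compositions, restrictions and inverses.
-/

set_option autoImplicit false

namespace Cfsg.Agent.H752

open Cfsg Cfsg.FusionSystem

variable {Ω : Type*} [Group Ω] {S : Subgroup Ω}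

/-- `f` restricted to `P` is a map of `F`. -/
def Mp (F : FusionSystem S) (P : Subgroup Ω) (f : Ω → Ω) : Prop :=
  ∃ φ ∈ F.Hom P, ∀ (x : Ω) (hx : x ∈ P), φ ⟨x, hx⟩ = f x

/-- Extension of a homomorphism on `P` by `1` outside `P`. -/
noncomputable def ex {P : Subgroup Ω} (φ : P → Ω) : Ω → Ω := by
  classical
  exact fun x => if hx : x ∈ P then φ ⟨x, hx⟩ else 1

theorem ex_apply {P : Subgroup Ω} (φ : P → Ω) {x : Ω} (hx : x ∈ P) : ex φ x = φ ⟨x, hx⟩ := by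
  unfold ex
  exact dif_pos hx

theorem ex_coe {P : Subgroup Ω} (φ : P → Ω) (x : P) : ex φ x = φ x := ex_apply φ x.2

variable {F : FusionSystem S} {P Q R : Subgroup Ω} {f g h : Ω → Ω}

theorem mp_of_mem {φ : P →* Ω} (hφ : φ ∈ F.Hom P) (hf : ∀ (x : Ω) (hx : x ∈ P), f x = φ ⟨x, hx⟩) :
    Mp F P f := ⟨φ, hφ, fun x hx => (hf x hx).symm⟩

theorem mp_ex {φ : P →* Ω} (hφ : φ ∈ F.Hom P) : Mp F P (ex φ) :=
  mp_of_mem hφ fun _ hx => ex_apply _ hx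

theorem Mp.mem_hom (h : Mp F P f) {φ : P →* Ω} (hφ : ∀ (x : Ω) (hx : x ∈ P), φ ⟨x, hx⟩ = f x) :
    φ ∈ F.Hom P := by
  obtain ⟨ψ, hψ, h1⟩ := h
  have : φ = ψ := MonoidHom.ext fun x => (hφ x x.2).trans (h1 x x.2).symm
  rw [this]
  exact hψ

theorem Mp.le (h : Mp F P f) : P ≤ S := by
  obtain ⟨φ, hφ, -⟩ := h
  exact (F.le_of_mem hφ).1

theorem Mp.mem (h : Mp F P f) {x : Ω} (hx : x ∈ P) : f x ∈ S := by
  obtain ⟨φ, hφ, h1⟩ := h
  rw [← h1 x hx]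
  exact (F.le_of_mem hφ).2 _

theorem Mp.mul (h : Mp F P f) {x y : Ω} (hx : x ∈ P) (hy : y ∈ P) : f (x * y) = f x * f y := by
  obtain ⟨φ, hφ, h1⟩ := h
  rw [← h1 x hx, ← h1 y hy, ← h1 _ (mul_mem hx hy), ← map_mul]
  rfl

theorem Mp.one (h : Mp F P f) : f 1 = 1 := by
  obtain ⟨φ, hφ, h1⟩ := h
  rw [← h1 1 (one_mem P)]
  exact map_one φ

theorem Mp.inv (h : Mp F P f) {x : Ω} (hx : x ∈ P) : f x⁻¹ = (f x)⁻¹ := by
  obtain ⟨φ, hφ, h1⟩ := h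
  rw [← h1 x hx, ← h1 _ (inv_mem hx), ← map_inv]
  rfl

theorem Mp.inj (h : Mp F P f) {x y : Ω} (hx : x ∈ P) (hy : y ∈ P) (hxy : f x = f y) : x = y := by
  obtain ⟨φ, hφ, h1⟩ := h
  rw [← h1 x hx, ← h1 y hy] at hxy
  exact congrArg Subtype.val (F.injective_of_mem hφ hxy)

theorem Mp.congr (h : Mp F P f) (he : ∀ x ∈ P, g x = f x) : Mp F P g := by
  obtain ⟨φ, hφ, h1⟩ := h
  exact ⟨φ, hφ, fun x hx => (h1 x hx).trans (he x hx).symm⟩

theorem Mp.res (h : Mp F P f) (hR : R ≤ P) : Mp F R f := by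
  obtain ⟨φ, hφ, h1⟩ := h
  exact ⟨_, H802.restrict_mem hφ hR, fun x hx => h1 x (hR hx)⟩

theorem Mp.comp (hf : Mp F P f) (hg : Mp F Q g) (h : ∀ x ∈ P, f x ∈ Q) :
    Mp F P (fun x => g (f x)) := by
  obtain ⟨φ, hφ, h1⟩ := hf
  obtain ⟨ψ, hψ, h2⟩ := hg
  refine ⟨_, F.comp_mem hφ hψ (fun x => by rw [h1 x x.2]; exact h x x.2), fun x hx => ?_⟩
  show ψ ⟨φ ⟨x, hx⟩, _⟩ = _
  rw [h2, h1]

theorem mp_conj (F : FusionSystem S) (hP : P ≤ S) {s : Ω} (hs : s ∈ S) :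
    Mp F P (fun x => s * x * s⁻¹) :=
  ⟨_, F.conj_mem hP hs, fun _ _ => rfl⟩

theorem mp_id (F : FusionSystem S) (hP : P ≤ S) : Mp F P (fun x => x) :=
  (mp_conj F hP (one_mem S)).congr fun x _ => by simp

/-- Inverse of a map. -/
theorem Mp.symm (hf : Mp F P f) (hg : ∀ y ∈ R, ∃ x ∈ P, f x = y ∧ g y = x) : Mp F R g := by
  obtain ⟨φ, hφ, h1⟩ := hf
  have hR : R ≤ φ.range := by
    intro y hy
    obtain ⟨x, hx, h2, -⟩ := hg y hy
    exact ⟨⟨x, hx⟩, (h1 x hx).trans h2⟩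
  obtain ⟨ψ, hψ, h⟩ := H759.exists_inv F hφ hR
  refine ⟨ψ, hψ, fun y hy => ?_⟩
  obtain ⟨x, hx, h2, h3⟩ := hg y hy
  have hx' : φ ⟨x, hx⟩ ∈ R := by rw [h1 x hx, h2]; exact hy
  have h4 := h ⟨x, hx⟩ hx'
  have h5 : (⟨φ ⟨x, hx⟩, hx'⟩ : R) = ⟨y, hy⟩ := Subtype.ext ((h1 x hx).trans h2)
  rw [h5] at h4
  rw [h4, h3]

/-- The image of a subgroup under a map of the system, as a subgroup. -/
theorem Mp.exists_image (hf : Mp F P f) (hR : R ≤ P) :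
    ∃ T : Subgroup Ω, (∀ y, y ∈ T ↔ ∃ x ∈ R, f x = y) ∧ T ≤ S ∧ Nat.card T = Nat.card R := by
  obtain ⟨φ, hφ, h1⟩ := hf
  have hr := H802.restrict_mem hφ hR
  refine ⟨(φ.comp (Subgroup.inclusion hR)).range, fun y => ⟨?_, ?_⟩, H802.range_le_of_mem hr, ?_⟩
  · rintro ⟨x, rfl⟩
    exact ⟨x, x.2, (h1 x (hR x.2)).symm⟩
  · rintro ⟨x, hx, rfl⟩
    exact ⟨⟨x, hx⟩, h1 x (hR hx)⟩
  · exact (H802.isConj_card_eq (H802.isConj_range hr)).symm

/-- A left inverse of a map, defined on the whole of `Ω`. -/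
theorem Mp.exists_symm (hf : Mp F P f) (hR : R ≤ P) {T : Subgroup Ω}
    (hT : ∀ y, y ∈ T ↔ ∃ x ∈ R, f x = y) :
    ∃ g : Ω → Ω, Mp F T g ∧ (∀ x ∈ R, g (f x) = x) ∧ (∀ y ∈ T, g y ∈ R ∧ f (g y) = y) := by
  classical
  have hch : ∀ y ∈ T, ∃ x, x ∈ R ∧ f x = y := fun y hy => by
    obtain ⟨x, hx, h1⟩ := (hT y).1 hy
    exact ⟨x, hx, h1⟩
  choose! g hg1 hg2 using hch
  have h3 : ∀ x ∈ R, g (f x) = x := fun x hx => by
    have hy : f x ∈ T := (hT _).2 ⟨x, hx, rfl⟩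
    exact hf.inj (hR (hg1 _ hy)) (hR hx) (hg2 _ hy)
  refine ⟨g, (hf.res hR).symm fun y hy => ⟨g y, hg1 y hy, hg2 y hy, rfl⟩, h3,
    fun y hy => ⟨hg1 y hy, hg2 y hy⟩⟩

theorem Mp.pow (h : Mp F P f) {x : Ω} (hx : x ∈ P) (n : ℕ) : f (x ^ n) = f x ^ n := by
  induction n with
  | zero => rw [pow_zero, pow_zero, h.one]
  | succ n ih => rw [pow_succ, pow_succ, h.mul (pow_mem hx n) hx, ih]

/-! ### Automorphisms -/

theorem mp_iff_autGroup (hP : P ≤ S) (α : MulAut P) :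
    α ∈ F.autGroup P ↔ Mp F P (ex fun x => ((α x : P) : Ω)) := by
  rw [H802.mem_autGroup_iff F hP]
  constructor
  · intro h
    exact mp_of_mem h fun x hx => ex_apply _ hx
  · intro h
    exact h.mem_hom fun x hx => (ex_apply (fun x => ((α x : P) : Ω)) hx).symm

theorem mp_of_autGroup (hP : P ≤ S) {α : MulAut P} (hα : α ∈ F.autGroup P)
    (hf : ∀ (x : Ω) (hx : x ∈ P), f x = (α ⟨x, hx⟩ : P)) : Mp F P f :=
  ((mp_iff_autGroup hP α).1 hα).congr fun x hx => by rw [hf x hx, ex_apply _ hx]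

theorem Mp.mem_autGroup (h : Mp F P f) {α : MulAut P}
    (hf : ∀ (x : Ω) (hx : x ∈ P), f x = (α ⟨x, hx⟩ : P)) : α ∈ F.autGroup P :=
  (mp_iff_autGroup h.le α).2 (h.congr fun x hx => by rw [hf x hx, ex_apply _ hx])

/-- A map of the system from a finite `P` to itself is an automorphism in the system. -/
theorem Mp.exists_aut [Finite P] (h : Mp F P f) (hm : ∀ x ∈ P, f x ∈ P) :
    ∃ α ∈ F.autGroup P, ∀ (x : Ω) (hx : x ∈ P), f x = (α ⟨x, hx⟩ : P) := by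
  obtain ⟨φ, hφ, h1⟩ := h
  have hr : φ.range = P := H802.range_eq_of_mapsTo hφ fun x => by rw [h1 x x.2]; exact hm x x.2
  obtain ⟨α, hα, h2⟩ := H802.exists_aut hφ hr
  exact ⟨α, hα, fun x hx => by rw [h2, h1]⟩

/-- A map of the system from a finite `P` to itself is onto. -/
theorem Mp.surj [Finite P] (h : Mp F P f) (hm : ∀ x ∈ P, f x ∈ P) {y : Ω} (hy : y ∈ P) :
    ∃ x ∈ P, f x = y := by
  obtain ⟨α, -, h2⟩ := h.exists_aut hm
  refine ⟨(α.symm ⟨y, hy⟩ : P), (α.symm ⟨y, hy⟩).2, ?_⟩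
  rw [h2 _ (α.symm ⟨y, hy⟩).2]
  show ((α (α.symm ⟨y, hy⟩) : P) : Ω) = y
  rw [MulEquiv.apply_symm_apply]

/-! ### Strongly closed subgroups -/

theorem mp_mem_of_stronglyClosed {T : Subgroup Ω} (hT : F.StronglyClosed T) (h : Mp F P f)
    {x : Ω} (hx : x ∈ P) (hxT : x ∈ T) : f x ∈ T := by
  obtain ⟨φ, hφ, h1⟩ := h
  rw [← h1 x hx]
  exact H759.StronglyClosed.apply_mem hT hφ (x := ⟨x, hx⟩) hxT

theorem mp_mem_of_stronglyClosed' {T : Subgroup Ω} (hT : F.StronglyClosed T) (h : Mp F P f)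
    {x : Ω} (hx : x ∈ P) (hxT : f x ∈ T) : x ∈ T := by
  obtain ⟨φ, hφ, h1⟩ := h
  rw [← h1 x hx] at hxT
  exact H759.StronglyClosed.mem_of_apply_mem hT hφ (x := ⟨x, hx⟩) hxT

theorem stronglyClosed_of_mp {T : Subgroup Ω} (hTS : T ≤ S)
    (h : ∀ (P : Subgroup Ω) (f : Ω → Ω), Mp F P f → P ≤ T → ∀ x ∈ P, f x ∈ T) :
    F.StronglyClosed T := by
  refine ⟨hTS, fun R hR φ hφ x => ?_⟩
  have := h R (ex φ) (mp_ex hφ) hR x x.2
  rwa [ex_coe] at this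

/-! ### Induction -/

/-- The downward induction principle of `H759.saturated_induction`, for functions. -/
theorem mp_induction (F : FusionSystem S) [Finite S] {p : ℕ} [Fact p.Prime] (hS : IsPGroup p S)
    (hF : F.IsSaturated p) (M : Subgroup Ω → (Ω → Ω) → Prop)
    (h_congr : ∀ (P : Subgroup Ω) (f g : Ω → Ω), Mp F P f → M P f → (∀ x ∈ P, g x = f x) → M P g)
    (h_res : ∀ (P R : Subgroup Ω) (f : Ω → Ω), Mp F P f → M P f → R ≤ P → M R f)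
    (h_comp : ∀ (P Q : Subgroup Ω) (f g : Ω → Ω), Mp F P f → Mp F Q g → M P f → M Q g →
      (∀ x ∈ P, f x ∈ Q) → M P (fun x => g (f x)))
    (h_inv : ∀ (P R : Subgroup Ω) (f g : Ω → Ω), Mp F P f → M P f → Mp F R g →
      (∀ y ∈ R, ∃ x ∈ P, f x = y ∧ g y = x) → M R g)
    (h_aut : ∀ Q : Subgroup Ω, F.IsFullyAutomized p Q → F.IsReceptive Q →
      (∀ (R : Subgroup Ω) (f : Ω → Ω), Mp F R f → Nat.card Q < Nat.card R → M R f) →
      ∀ α ∈ F.autGroup Q, ∀ f : Ω → Ω, (∀ (x : Ω) (hx : x ∈ Q), f x = (α ⟨x, hx⟩ : Q)) → M Q f) :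
    ∀ (P : Subgroup Ω) (f : Ω → Ω), Mp F P f → M P f := by
  have key := H759.saturated_induction F hS hF (fun P φ => M P (ex φ))
    (fun P R φ χ hφ hM hR hχ => by
      refine h_congr R (ex φ) _ ((mp_ex hφ).res hR) (h_res P R _ (mp_ex hφ) hM hR) fun x hx => ?_
      rw [ex_apply _ hx, ex_apply _ (hR hx), hχ ⟨x, hx⟩])
    (fun P Q φ ψ χ hφ hψ hMφ hMψ hχ => by
      have hPQ : ∀ x ∈ P, ex φ x ∈ Q := fun x hx => by
        obtain ⟨h1, -⟩ := hχ ⟨x, hx⟩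
        rw [ex_apply _ hx]
        exact h1
      refine h_congr P _ _ ((mp_ex hφ).comp (mp_ex hψ) hPQ)
        (h_comp P Q _ _ (mp_ex hφ) (mp_ex hψ) hMφ hMψ hPQ) fun x hx => ?_
      obtain ⟨h1, h2⟩ := hχ ⟨x, hx⟩
      rw [ex_apply _ hx, h2, ex_apply (φ : P → Ω) hx, ex_apply _ h1])
    (fun P R φ χ hφ hM hχ hinv => by
      refine h_inv P R _ _ (mp_ex hφ) hM (mp_ex hχ) fun y hy => ?_
      obtain ⟨x, h1, h2⟩ := hinv ⟨y, hy⟩
      exact ⟨x, x.2, by rw [ex_coe, h1], by rw [ex_apply _ hy, h2]⟩)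
    (fun Q hQa hQr IH α hα => by
      refine h_aut Q hQa hQr (fun R f hf hlt => ?_) α hα _ fun x hx => ex_apply _ hx
      obtain ⟨φ, hφ, h1⟩ := hf
      refine h_congr R (ex φ) f (mp_ex hφ) (IH R φ hφ hlt) fun x hx => ?_
      rw [ex_apply _ hx, h1])
  intro P f hf
  obtain ⟨φ, hφ, h1⟩ := hf
  refine h_congr P (ex φ) f (mp_ex hφ) (key P φ hφ) fun x hx => ?_
  rw [ex_apply _ hx, h1]

/-! ### Inclusions of systems -/

theorem mp_mono {T : Subgroup Ω} {E : FusionSystem T} (hEF : E.IsSubsystemOf F) (h : Mp E P f) :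
    Mp F P f := by
  obtain ⟨φ, hφ, h1⟩ := h
  exact ⟨φ, hEF P hφ, h1⟩

theorem isSubsystemOf_of_mp {T : Subgroup Ω} {E : FusionSystem T}
    (h : ∀ (P : Subgroup Ω) (f : Ω → Ω), Mp E P f → Mp F P f) : E.IsSubsystemOf F := by
  intro P φ hφ
  exact (h P (ex φ) (mp_ex hφ)).mem_hom fun x hx => (ex_apply _ hx).symm

end Cfsg.Agent.H752
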