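import Cfsg.Agent.H752.CoOnePairs
import Cfsg.Agent.H533.T5.SporDefs
import Cfsg.Agent.UGT.End.McLOuter
import Cfsg.Agent.TypeM.FactsMcL
import Cfsg.Agent.KFacts.CoTwo.Main
import Cfsg.Agent.KFacts.Co3.Sheet
import Cfsg.Agent.SporRec.Co3.Model
import Cfsg.Agent.SporRec.Co3.Chain
import Cfsg.Agent.ConwayFacts.AutCo1
import Cfsg.Agent.Schreier.CoTwoStab
import Cfsg.Agent.S1575
import Cfsg.Agent.S0399

/-!
# The weak pair rows `p = 5` of the groups `McL`, `Co3`, `Co2`, `Co1` (helper752)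

Fields `mcl`, `co3`, `co2`, `co1` of `Cfsg.Agent.H533.T5.SporBig`.
-/

set_option autoImplicit false

namespace Cfsg.Agent.H752.TFiveCo

open Cfsg Subgroup Cfsg.Agent.SporadicStructure.Co0Base Cfsg.Agent.CoOneType.CoEval
open Cfsg.Agent.SporadicA Cfsg.Agent.SporadicStructure.Co0Matrix
open Cfsg.Agent.CpAutCoOneFive Cfsg.Agent.CpAutCoOneFive.Mat
open Cfsg.Agent.CpAutCoOneFive.Elem (a b c d)
open Cfsg.Agent.H533.T5 Cfsg.Agent.H752.McLPairs

universe u

theorem not_comm_of_card {G : Type*} [Group G] [Finite G] [IsSimpleGroup G] (h : ¬ (Nat.card G).Prime) :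
    ¬ IsMulCommutative G := by
  intro hc
  let inst : CommGroup G := { (inferInstance : Group G) with mul_comm := hc.is_comm.comm }
  exact h (IsSimpleGroup.prime_card (α := G))

/-! ### The vectors -/

/-- a vector fixed by `a`, `b` and `k` -/
theorem exists_vec {l : List ℤ} {n : ℤ} (h1 : fixB [0] l n = true) (h2 : fixB [1] l n = true)
    (h3 : fixK l = true) : ∃ hv : vec l ∈ leechLattice, sqNorm (vec l) = n ∧
      a ∈ MulAction.stabilizer Co0 (⟨vec l, hv⟩ : leechLattice) ∧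
      b ∈ MulAction.stabilizer Co0 (⟨vec l, hv⟩ : leechLattice) ∧
      k ∈ MulAction.stabilizer Co0 (⟨vec l, hv⟩ : leechLattice) := by
  obtain ⟨hv, hn, ha⟩ := Elem.exists_fixed h1
  obtain ⟨_, _, hb⟩ := Elem.exists_fixed h2
  refine ⟨hv, hn, ?_, ?_, ?_⟩
  · rw [MulAction.mem_stabilizer_iff]
    simp only [List.map_cons, List.map_nil, List.prod_cons, List.prod_nil, mul_one] at ha
    exact ha
  · rw [MulAction.mem_stabilizer_iff]
    simp only [List.map_cons, List.map_nil, List.prod_cons, List.prod_nil, mul_one] at hb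
    exact hb
  · rw [MulAction.mem_stabilizer_iff]
    have hl : l.length = 24 := by
      unfold fixB at h1
      rw [Bool.and_eq_true] at h1
      exact Nat.eq_of_beq_eq_true h1.2
    have h5 := (fold_spec rep3 [2] (l := l) (v := ⟨vec l, hv⟩) hl.le rfl).2
    rw [eqL_eq h3] at h5
    apply Subtype.ext
    simp only [List.map_cons, List.map_nil, List.prod_cons, List.prod_nil, mul_one] at h5
    exact h5

/-! ### The Sylow argument -/

/-- **the row from an isomorphism with a subgroup of `Co0` containing `a, b, k`** -/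
theorem row_of {G : Type*} [Group G] [Finite G] [IsSimpleGroup G] {S : Subgroup Co0} (e : G ≃* ↥S) (ha : a ∈ S)
    (hb : b ∈ S) (hk : k ∈ S) (hG : ¬ 5 ^ 4 ∣ Nat.card G) (hp : ¬ (Nat.card G).Prime)
    (hinn : ∀ α : MulAut G, orderOf α = 5 → α ∈ (MulAut.conj : G →* MulAut G).range) : WRow 5 G :=
  WRow.of_inner (not_comm_of_card hp) hinn fun _ _ hx hy => pair_group e ha hb hk hG hx hy

/-- `Co2` as a stabilizer -/
def equivCo2 : Spor.Co2 ≃* ↥(MulAction.stabilizer Co0 Spor.leechU) where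
  toFun g := ⟨⟨(g : Equiv.Perm leechLattice), g.2.1⟩, g.2.2⟩
  invFun g := ⟨((g : Co0) : Equiv.Perm leechLattice), ⟨(g : Co0).2, g.2⟩⟩
  left_inv _ := rfl
  right_inv _ := rfl
  map_mul' _ _ := rfl

/-- `Co3` as a stabilizer -/
def equivCo3 : Spor.Co3 ≃* ↥(MulAction.stabilizer Co0 Spor.leechV) where
  toFun g := ⟨⟨(g : Equiv.Perm leechLattice), g.2.1⟩, g.2.2⟩
  invFun g := ⟨((g : Co0) : Equiv.Perm leechLattice), ⟨(g : Co0).2, g.2⟩⟩
  left_inv _ := rfl
  right_inv _ := rfl
  map_mul' _ _ := rfl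

/-- `McL` as a stabilizer -/
def equivMcL : Spor.McL ≃* ↥(MulAction.stabilizer Co0 Spor.leechV ⊓ MulAction.stabilizer Co0 Spor.leechU) where
  toFun g := ⟨⟨(g : Equiv.Perm leechLattice), g.2.1.1⟩, ⟨g.2.1.2, g.2.2⟩⟩
  invFun g := ⟨((g : Co0) : Equiv.Perm leechLattice), ⟨⟨(g : Co0).2, g.2.1⟩, g.2.2⟩⟩
  left_inv _ := rfl
  right_inv _ := rfl
  map_mul' _ _ := rfl

theorem norm_leechU : sqNorm (Spor.leechU : GolayPt → ℤ) = 32 := by
  change sqNorm Spor.vecU = 32
  decide +kernel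

theorem norm_leechV : sqNorm (Spor.leechV : GolayPt → ℤ) = 48 := by
  change sqNorm Spor.vecV = 48
  decide +kernel

/-- conjugate stabilizers -/
theorem stab_equiv {n : ℤ} (hn : n = 32 ∨ n = 48 ∨ n = 64) {v w : leechLattice}
    (hv : sqNorm (v : GolayPt → ℤ) = n) (hw : sqNorm (w : GolayPt → ℤ) = n) :
    Nonempty (↥(MulAction.stabilizer Co0 v) ≃* ↥(MulAction.stabilizer Co0 w)) := by
  obtain ⟨g, hg⟩ := CpAutBig.CoZero.exists_smul_eq hn v w hv hw
  exact ⟨MulAction.stabilizerEquivStabilizer (g := g) (a := v) (b := w) hg.symm⟩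

/-! ### `Co2` -/

theorem co2 (K : Type u) [Group K] [Finite K] [IsSimpleGroup K] (h : Spor.IsoCo2 K) : WRow 5 K := by
  obtain ⟨e⟩ := h
  obtain ⟨hv, hn, ha, hb, hk⟩ := exists_vec fix32a fix32b fixK32
  obtain ⟨s⟩ := stab_equiv (Or.inl rfl) norm_leechU (w := ⟨vec l32, hv⟩) hn
  have hcard : Nat.card K = 42305421312000 := by
    rw [Nat.card_congr e.toEquiv, Schreier.CoTwoStab.card]
  refine row_of ((e.trans equivCo2).trans s) ha hb hk (by rw [hcard]; norm_num) (by rw [hcard]; norm_num) ?_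
  intro α _
  obtain ⟨g, hg⟩ := KFacts.CoTwo.Main.allInner_iso e α
  exact ⟨g, hg.symm⟩

/-! ### `Co3` -/

theorem co3 (K : Type u) [Group K] [Finite K] [IsSimpleGroup K] (h : Spor.IsoCo3 K) : WRow 5 K := by
  obtain ⟨e⟩ := h
  obtain ⟨hv, hn, ha, hb, hk⟩ := exists_vec fix48a fix48b fixK48
  obtain ⟨s⟩ := stab_equiv (Or.inr (Or.inl rfl)) norm_leechV (w := ⟨vec l48, hv⟩) hn
  have hcard : Nat.card K = 495766656000 := by
    rw [Nat.card_congr (e.trans SporRec.Co3.Model.equivCo3.symm).toEquiv, SporRec.Co3.Chain.isCo3_G3.2]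
  refine row_of ((e.trans equivCo3).trans s) ha hb hk (by rw [hcard]; norm_num) (by rw [hcard]; norm_num) ?_
  intro α _
  obtain ⟨g, hg⟩ := KFacts.Co3.Sheet.inner_of (e.trans SporRec.Co3.Model.equivCo3.symm).symm α
  exact ⟨g, hg.symm⟩

/-! ### `McL` -/

theorem map_stab (g : Co0) (v w : leechLattice) :
    (MulAction.stabilizer Co0 v ⊓ MulAction.stabilizer Co0 w).map (MulAut.conj g).toMonoidHom =
      MulAction.stabilizer Co0 (g • v) ⊓ MulAction.stabilizer Co0 (g • w) := by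
  ext z
  rw [mem_map]
  constructor
  · rintro ⟨y, ⟨h1, h2⟩, rfl⟩
    have h1' : y • v = v := h1
    have h2' : y • w = w := h2
    refine ⟨?_, ?_⟩
    · change (g * y * g⁻¹) • g • v = g • v
      rw [← mul_smul, inv_mul_cancel_right, mul_smul, h1']
    · change (g * y * g⁻¹) • g • w = g • w
      rw [← mul_smul, inv_mul_cancel_right, mul_smul, h2']
  · rintro ⟨h1, h2⟩
    have h1' : z • g • v = g • v := h1
    have h2' : z • g • w = g • w := h2
    refine ⟨g⁻¹ * z * g, ⟨?_, ?_⟩, ?_⟩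
    · change (g⁻¹ * z * g) • v = v
      rw [mul_smul, mul_smul, h1', inv_smul_smul]
    · change (g⁻¹ * z * g) • w = w
      rw [mul_smul, mul_smul, h2', inv_smul_smul]
    · change g * (g⁻¹ * z * g) * g⁻¹ = z
      group

theorem smul_sub' (g : Co0) (v w : leechLattice) : g • (v - w) = g • v - g • w := by
  have h1 := co0_smul_add g (v - w) w
  rw [sub_add_cancel] at h1
  rw [h1, add_sub_cancel_right]

/-- the stabilizer of `v` and `v - w` -/
theorem stab_sub (v w : leechLattice) : MulAction.stabilizer Co0 v ⊓ MulAction.stabilizer Co0 (w - v) =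
    MulAction.stabilizer Co0 w ⊓ MulAction.stabilizer Co0 v := by
  ext g
  rw [mem_inf, mem_inf, MulAction.mem_stabilizer_iff, MulAction.mem_stabilizer_iff, MulAction.mem_stabilizer_iff,
    smul_sub']
  constructor
  · rintro ⟨h1, h2⟩
    rw [h1, sub_left_inj] at h2
    exact ⟨h2, h1⟩
  · rintro ⟨h1, h2⟩
    exact ⟨h2, by rw [h1, h2]⟩

/-- two pairs of vectors of norms 48 and 32 with inner product 24 have conjugate stabilizers -/
theorem pair_equiv {v w v' w' : leechLattice} (hv : sqNorm (v : GolayPt → ℤ) = 32)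
    (hw : sqNorm ((w - v : leechLattice) : GolayPt → ℤ) = 32)
    (hd : dotInt (v : GolayPt → ℤ) ((w - v : leechLattice) : GolayPt → ℤ) = -8)
    (hv' : sqNorm (v' : GolayPt → ℤ) = 32) (hw' : sqNorm ((w' - v' : leechLattice) : GolayPt → ℤ) = 32)
    (hd' : dotInt (v' : GolayPt → ℤ) ((w' - v' : leechLattice) : GolayPt → ℤ) = -8) :
    Nonempty (↥(MulAction.stabilizer Co0 w ⊓ MulAction.stabilizer Co0 v) ≃*
      ↥(MulAction.stabilizer Co0 w' ⊓ MulAction.stabilizer Co0 v')) := by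
  obtain ⟨g, hg⟩ := S0400.result v v' hv hv'
  have h1 : sqNorm ((g • (w - v) : leechLattice) : GolayPt → ℤ) = 32 := by rw [co0_sqNorm, hw]
  have h2 : dotInt (v' : GolayPt → ℤ) ((g • (w - v) : leechLattice) : GolayPt → ℤ) = -8 := by
    rw [← hg, co0_dotInt, hd]
  obtain ⟨t, ht1, ht2⟩ := S1575.result v' (g • (w - v)) (w' - v') hv' h1 hw' h2 hd'
  have h3 : (MulAction.stabilizer Co0 w ⊓ MulAction.stabilizer Co0 v).map (MulAut.conj (t * g)).toMonoidHom =
      MulAction.stabilizer Co0 w' ⊓ MulAction.stabilizer Co0 v' := by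
    rw [← stab_sub v w, map_stab, mul_smul, mul_smul, hg, ht1, ht2, stab_sub]
  exact ⟨((MulAction.stabilizer Co0 w ⊓ MulAction.stabilizer Co0 v).equivMapOfInjective
    (MulAut.conj (t * g)).toMonoidHom (MulAut.conj (t * g)).injective).trans (MulEquiv.subgroupCongr h3)⟩

theorem neg_stab (v : leechLattice) : MulAction.stabilizer Co0 (-v) = MulAction.stabilizer Co0 v := by
  ext g
  have h1 : g • (-v) = -(g • v) := by
    have h2 := smul_sub' g 0 v
    have h3 : g • (0 : leechLattice) = 0 := by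
      have h4 := co0_smul_add g (0 : leechLattice) 0
      rw [add_zero] at h4
      exact left_eq_add.1 h4
    rwa [h3, zero_sub, zero_sub] at h2
  rw [MulAction.mem_stabilizer_iff, MulAction.mem_stabilizer_iff, h1, neg_inj]

theorem equivStd (hv32 : vec l32 ∈ leechLattice) (hv48 : vec l48 ∈ leechLattice) :
    Nonempty (↥(MulAction.stabilizer Co0 Spor.leechV ⊓ MulAction.stabilizer Co0 Spor.leechU) ≃*
      ↥(MulAction.stabilizer Co0 (⟨vec l48, hv48⟩ : leechLattice) ⊓
        MulAction.stabilizer Co0 (⟨vec l32, hv32⟩ : leechLattice))) := by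
  rw [← neg_stab Spor.leechU]
  refine pair_equiv (v := -Spor.leechU) (w := Spor.leechV) (v' := ⟨vec l32, hv32⟩) (w' := ⟨vec l48, hv48⟩) ?_ ?_ ?_
    ?_ ?_ ?_
  · change sqNorm (-Spor.vecU) = 32
    decide +kernel
  · change sqNorm (Spor.vecV - -Spor.vecU) = 32
    decide +kernel
  · change dotInt (-Spor.vecU) (Spor.vecV - -Spor.vecU) = -8
    decide +kernel
  · change sqNorm (vec l32) = 32
    decide +kernel
  · change sqNorm (vec l48 - vec l32) = 32
    decide +kernel
  · change dotInt (vec l32) (vec l48 - vec l32) = -8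
    decide +kernel

theorem mcl (K : Type u) [Group K] [Finite K] [IsSimpleGroup K] (h : Spor.IsoMcL K) : WRow 5 K := by
  obtain ⟨-, -, hcard, ⟨L⟩⟩ := TypeM.FactsMcL.facts h
  obtain ⟨e⟩ := h
  obtain ⟨hv, -, ha, hb, hk⟩ := exists_vec fix32a fix32b fixK32
  obtain ⟨hv', -, ha', hb', hk'⟩ := exists_vec fix48a fix48b fixK48
  obtain ⟨s⟩ := equivStd hv hv'
  refine row_of ((e.trans equivMcL).trans s) ⟨ha', ha⟩ ⟨hb', hb⟩ ⟨hk', hk⟩ (by rw [hcard]; norm_num)
    (by rw [hcard]; norm_num) ?_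
  intro α hα
  exact UGT.End.McLOuter.inner_of_odd L hcard α (by rw [hα]; decide)

/-! ### `Co1` -/

theorem co1 (K : Type u) [Group K] [Finite K] [IsSimpleGroup K] (h : Spor.IsoCo1 K) : WRow 5 K := by
  obtain ⟨e⟩ := h
  have hcard : Nat.card K = 4157776806543360000 := by
    rw [Nat.card_congr e.toEquiv, S0399.result.2]
  refine WRow.of_inner (not_comm_of_card (by rw [hcard]; norm_num)) ?_ ?_
  · intro α _
    obtain ⟨s, hs⟩ := ConwayFacts.AutCo1.inner_of_equiv e α
    exact ⟨s, MulEquiv.ext fun g => by rw [hs, MulAut.conj_apply]⟩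
  · intro x y hx hy
    refine WPair.of_hom e.toMonoidHom (T := ⊤) ?_ (CoOnePairs.pair_co1 ?_ ?_)
    · intro z _
      exact ⟨e.symm z, mem_top _, e.apply_symm_apply z⟩
    · rw [← hx]
      exact orderOf_injective e.toMonoidHom e.injective x
    · rw [← hy]
      exact orderOf_injective e.toMonoidHom e.injective y

end Cfsg.Agent.H752.TFiveCo
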