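import Cfsg.Agent.H752.Fx33.Data

/-!
# `PSL(3, 3)`: no proper subgroup of even order all of whose non-identity elements fix at most 4 cosets
(task 2053, for S3002, S2993)
-/

set_option autoImplicit false
set_option maxRecDepth 10000

namespace Cfsg.Agent.H752.LThree

open Matrix Cfsg.Agent.H254.Ev

/-- the standard involution -/
def d0 : M := !![2, 0, 0; 0, 2, 0; 0, 0, 1]

theorem full_of_d0 {K : Set M} (hK : PK K) (h : d0 ∈ K) : Full K := by
  refine main 0 (by rw [tab_length]; omega) K hK ?_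
  have h1 : tab.getD 0 [] = [⟨2, 0, 0, 0, 2, 0, 0, 0, 1⟩] := rfl
  rw [h1]
  intro g hg
  rw [List.mem_singleton] at hg
  rw [hg]
  exact h

/-- an involution is diagonalizable -/
theorem conj_diag {m : M} (h : m * m = 1) : ∃ (P P' : M) (d : Fin 3 → ZMod 3), P * P' = 1 ∧ m = P * diagonal d * P' ∧
    ∀ i, d i = 1 ∨ d i = -1 := by
  have htop : ⨆ a, Module.End.eigenspace (Matrix.toLin' m) a = ⊤ := by
    refine Cfsg.Agent.H956.EigBasis.iSup_eigenspace_of_prod _ {1, -1} ?_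
    rw [Finset.prod_insert (by decide), Finset.prod_singleton]
    have h1 : Matrix.toLin' m * Matrix.toLin' m = 1 := by
      have h2 : Matrix.toLin' m * Matrix.toLin' m = Matrix.toLin' (m * m) := (Matrix.toLin'_mul m m).symm
      rw [h2, h, Matrix.toLin'_one]
      rfl
    simp only [map_mul, map_sub, map_neg, map_one, Polynomial.aeval_X]
    rw [sub_neg_eq_add, sub_mul, mul_add, one_mul, mul_one, h1]
    abel
  obtain ⟨S, d, hd⟩ := Cfsg.Agent.H956.EigBasis.exists_conj_diagonal m htop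
  have hS : (S : M) * ((S⁻¹ : GL (Fin 3) (ZMod 3)) : M) = 1 := by rw [← Units.val_mul, mul_inv_cancel, Units.val_one]
  refine ⟨_, _, d, hS, hd, ?_⟩
  have hS' := mul_eq_one_comm.1 hS
  have h2 : (S : M) * (diagonal d * diagonal d) * ((S⁻¹ : GL (Fin 3) (ZMod 3)) : M) = (S : M) * (1 : M) * ((S⁻¹ : GL (Fin 3) (ZMod 3)) : M) := by
    rw [cj_mul hS', ← hd, h, mul_one, hS]
  have h3 := cj_inj hS' h2
  rw [Matrix.diagonal_mul_diagonal] at h3
  intro i
  have h4 := congrFun (congrFun h3 i) i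
  rw [Matrix.diagonal_apply_eq, Matrix.one_apply_eq] at h4
  have key : ∀ r : ZMod 3, r * r = 1 → r = 1 ∨ r = -1 := by decide
  exact key _ h4

/-- the three arrangements -/
def dgP : Fin 3 → M := ![
  1,
  !![1, 0, 0; 0, 0, 1; 0, 1, 0],
  !![0, 0, 1; 0, 1, 0; 1, 0, 0]]

theorem dgP_sq : ∀ l, dgP l * dgP l = 1 := by decide +kernel

theorem diag_cases : ∀ d : Fin 3 → ZMod 3, (∀ i, d i = 1 ∨ d i = -1) → d 0 * d 1 * d 2 = 1 →
    (diagonal d : M) = 1 ∨ ∃ l, (diagonal d : M) = dgP l * d0 * dgP l := by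
  decide +kernel

theorem conj_d0 {m : M} (h : m * m = 1) (hd : m.det = 1) (h1 : m ≠ 1) :
    ∃ P P' : M, P * P' = 1 ∧ m = P * d0 * P' := by
  obtain ⟨P, P', d, hP, hm, hd'⟩ := conj_diag h
  have h3 : d 0 * d 1 * d 2 = 1 := by
    have h5 : (diagonal d : M).det = 1 := by rw [← det_cj hP, ← hm, hd]
    rw [Matrix.det_diagonal, Fin.prod_univ_three] at h5
    exact h5
  rcases diag_cases d hd' h3 with h4 | ⟨l, h4⟩
  · exact absurd (by rw [hm, h4, mul_one, hP]) h1
  · refine ⟨P * dgP l, dgP l * P', ?_, ?_⟩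
    · calc P * dgP l * (dgP l * P') = P * (dgP l * dgP l) * P' := by simp only [mul_assoc]
        _ = 1 := by rw [dgP_sq, mul_one, hP]
    · rw [hm, h4]; simp only [mul_assoc]

theorem full_of_invol {K : Set M} (hK : PK K) {m : M} (hm : m ∈ K) (h : m * m = 1) (hd : m.det = 1) (h1 : m ≠ 1) :
    Full K := by
  obtain ⟨P, P', hP, hmP⟩ := conj_d0 h hd h1
  refine Full.of_conj hP (full_of_d0 (hK.conj hP) ?_)
  rw [mem_cjM, ← hmP]; exact hm

theorem eq_top_zmod {H : Subgroup PSL3} (hH : FixLE 4 H) (h2 : 2 ∣ Nat.card H) : H = ⊤ := by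
  haveI : Fact (Nat.Prime 2) := ⟨Nat.prime_two⟩
  obtain ⟨t, ht⟩ := exists_prime_orderOf_dvd_card' (G := H) 2 h2
  have ht2 : orderOf (t : PSL3) = 2 := by rw [Subgroup.orderOf_coe]; exact ht
  obtain ⟨g, hg⟩ := pr_surj (t : PSL3)
  have htt : (t : PSL3) * t = 1 := by rw [← sq, ← ht2]; exact pow_orderOf_eq_one _
  have ht1 : (t : PSL3) ≠ 1 := by
    intro h
    rw [h, orderOf_one] at ht2; omega
  apply top_of_full
  refine full_of_invol (PK_of hH) (m := toM g) ⟨g, rfl, by rw [hg]; exact t.2⟩ ?_ (det_toM g) ?_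
  · rw [← toM_mul]
    exact (pr_eq_one _).1 (by rw [map_mul, hg, htt])
  · intro h
    exact ht1 (by rw [← hg]; exact (pr_eq_one _).2 h)

/-- `FixLE k` is invariant under isomorphisms -/
theorem fixLE_comap {G G' : Type*} [Group G] [Group G'] (e : G ≃* G') {k : ℕ} {H : Subgroup G'} (h : FixLE k H) :
    FixLE k (H.comap e.toMonoidHom) := by
  letI act : MulAction G (G' ⧸ H) := MulAction.compHom _ e.toMonoidHom
  have hsm : ∀ (g : G) (x : G' ⧸ H), g • x = e g • x := fun _ _ => rfl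
  have htr : MulAction.IsPretransitive G (G' ⧸ H) := by
    refine ⟨fun x y => ?_⟩
    obtain ⟨g, hg⟩ := MulAction.exists_smul_eq G' x y
    refine ⟨e.symm g, ?_⟩
    rw [hsm, MulEquiv.apply_symm_apply]; exact hg
  have hst : MulAction.stabilizer G ((1 : G') : G' ⧸ H) = H.comap e.toMonoidHom := by
    ext g
    rw [MulAction.mem_stabilizer_iff, hsm, ← MulAction.mem_fixedBy, mk_mem_fixedBy]
    simp
  intro g hg
  rw [← hst, ncard_fixedBy_quot htr]
  refine h (e g) ?_
  intro h1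
  apply hg
  rw [← map_one e] at h1
  exact e.injective h1

/-- **`FixLE 4 H`, `2 ∣ |H|` give `H = ⊤` in `PSL(3, 3)`** -/
theorem eq_top {F : Type*} [Field F] [Fintype F] (h : Fintype.card F = 3)
    {H : Subgroup (Matrix.ProjectiveSpecialLinearGroup (Fin 3) F)} (hH : FixLE 4 H)
    (h2 : 2 ∣ Nat.card H) : H = ⊤ := by
  obtain ⟨e⟩ : Nonempty (PSL3 ≃* Matrix.ProjectiveSpecialLinearGroup (Fin 3) F) :=
    ⟨Cfsg.Agent.LieClassical.FieldTransfer.pslCongr (FiniteField.ringEquivOfCardEq (K := ZMod 3) (K' := F)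
      (by rw [h, ZMod.card]))⟩
  have h3 := eq_top_zmod (fixLE_comap e hH) (by
    have h4 : Nat.card (H.comap e.toMonoidHom) = Nat.card H :=
      Nat.card_congr (e.toEquiv.subtypeEquiv (fun g => by simp [Subgroup.mem_comap]))
    rw [h4]; exact h2)
  rw [eq_top_iff]
  intro x _
  have h4 : e.symm x ∈ H.comap e.toMonoidHom := by rw [h3]; trivial
  rw [Subgroup.mem_comap] at h4
  simpa using h4

/-- **Task 2053**, `k = 4` -/
theorem noEx_psl3_three (F : Type*) [Field F] [Fintype F] (h : Fintype.card F = 3) :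
    ∀ H : Subgroup (Matrix.ProjectiveSpecialLinearGroup (Fin 3) F), FixLE 4 H → 2 ∣ Nat.card H →
      ¬ ∃ g : Matrix.ProjectiveSpecialLinearGroup (Fin 3) F, g ≠ 1 ∧
        (MulAction.fixedBy (Matrix.ProjectiveSpecialLinearGroup (Fin 3) F ⧸ H) g).ncard = 4 := by
  rintro H hH h2 ⟨g, hg, hg4⟩
  exact ne_top_of_exact (by norm_num) hg4 (eq_top h hH h2)

/-- `k = 3` -/
theorem noEx_psl3_three' (F : Type*) [Field F] [Fintype F] (h : Fintype.card F = 3) :
    ∀ H : Subgroup (Matrix.ProjectiveSpecialLinearGroup (Fin 3) F), FixLE 3 H → 2 ∣ Nat.card H →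
      ¬ ∃ g : Matrix.ProjectiveSpecialLinearGroup (Fin 3) F, g ≠ 1 ∧
        (MulAction.fixedBy (Matrix.ProjectiveSpecialLinearGroup (Fin 3) F ⧸ H) g).ncard = 3 := by
  rintro H hH h2 ⟨g, hg, hg4⟩
  exact ne_top_of_exact (by norm_num) hg4 (eq_top h (fun x hx => (hH x hx).trans (by norm_num)) h2)

end Cfsg.Agent.H752.LThree
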