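import Cfsg.Agent.H254.FxTools
import Cfsg.Agent.H410.RealTw
import Cfsg.Agent.S1152
import Cfsg.Agent.S1157
import Cfsg.Agent.ClassicalGeometry.PSL2Basic

/-!
# Fixity 3: the Suzuki groups and the Ree groups (helper752, task 2115)

`noTI3_sz`, `noTI3_ree`.
-/

set_option autoImplicit false

namespace Cfsg.Agent.H752.FxSzRee

open Subgroup Cfsg Cfsg.Agent.H254.Fx

/-- a real element of order > 2 has a normalizer of even order -/
theorem even_of_isConj {G : Type*} [Group G] [Finite G] {x : G} (hx : IsConj x x⁻¹) (h2 : x * x ≠ 1) :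
    2 ∣ Nat.card (normalizer (zpowers x : Set G)) := by
  obtain ⟨g, hg⟩ := isConj_iff.1 hx
  have hj : g * x * g⁻¹ = x ^ (orderOf x - 1) := by
    rw [hg]
    apply inv_eq_of_mul_eq_one_right
    rw [← pow_succ']
    have := orderOf_pos x
    rw [Nat.sub_add_cancel this, pow_orderOf_eq_one]
  have hN : g ∈ normalizer (zpowers x : Set G) := mem_normalizer_of_conj hj
  have ho : orderOf g ∣ Nat.card (normalizer (zpowers x : Set G)) := orderOf_dvd_card_of_mem hN
  refine dvd_trans ?_ ho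
  by_contra hodd
  have hcop : Nat.Coprime (orderOf g) 2 := by
    rw [Nat.coprime_comm, Nat.prime_two.coprime_iff_not_dvd]; exact hodd
  obtain ⟨k, hk⟩ := exists_pow_eq_self_of_coprime (n := 2) (x := g) hcop.symm
  have h3 : g ^ 2 * x * (g ^ 2)⁻¹ = x := by
    have e : g ^ 2 * x * (g ^ 2)⁻¹ = g * (g * x * g⁻¹) * g⁻¹ := by rw [pow_two]; group
    rw [e, hg]
    have e2 : g * x⁻¹ * g⁻¹ = (g * x * g⁻¹)⁻¹ := by group
    rw [e2, hg, inv_inv]
  have h4 : Commute (g ^ 2) x := by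
    show g ^ 2 * x = x * g ^ 2
    calc g ^ 2 * x = g ^ 2 * x * (g ^ 2)⁻¹ * g ^ 2 := by group
      _ = x * g ^ 2 := by rw [h3]
  have h5 : Commute g x := by
    rw [← hk]; exact h4.pow_left k
  have h6 : x⁻¹ = x := by
    rw [← hg, h5.eq]; group
  apply h2
  nth_rewrite 1 [← h6]
  exact inv_mul_cancel x

theorem kill_of_real {G : Type*} [Group G] [Finite G] {r : ℕ} (h5 : 5 ≤ r) (h : H410.RealTw.RealElt r G) :
    Kill 3 r G := by
  obtain ⟨x, hx, hc⟩ := h
  refine Or.inl ⟨x, hx, Or.inr (Or.inr (Or.inr (Or.inr (Or.inl ⟨rfl, even_of_isConj hc ?_⟩))))⟩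
  intro h1
  have h2 : orderOf x ∣ 2 := orderOf_dvd_of_pow_eq_one (by rw [pow_two]; exact h1)
  rw [hx] at h2
  have := Nat.le_of_dvd (by norm_num) h2
  omega

/-- **Suzuki groups** -/
theorem noTI3_sz {G : Type*} [Group G] [Finite G] (h : Cfsg.Lie.IsoSuzuki G) : NoTI 3 G := by
  obtain ⟨F, _, _, m, hm, hF, ⟨e⟩⟩ := h
  have hfin : Finite ↥(Cfsg.Lie.Sz F (2 ^ (m + 1))) := Finite.of_equiv G e.toEquiv
  refine NoTI.congr e.symm (noTI3_of (fun h3 => ?_) (fun r hr h5 hd => ?_))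
  · exfalso
    obtain ⟨e'⟩ := Cfsg.Agent.OddCyclic.ClaimC.SzIso.iso (F := F) hm hF
    have hcard := Cfsg.Agent.S0324.result (F := F) hm hF
    rw [← Nat.card_congr e'.toEquiv, hcard] at h3
    have hq : (2 ^ (2 * m + 1)) % 3 = 2 := by
      rw [pow_succ, pow_mul, Nat.mul_mod, Nat.pow_mod]
      norm_num
    have hq1 : 1 ≤ 2 ^ (2 * m + 1) := Nat.one_le_pow _ _ (by norm_num)
    generalize 2 ^ (2 * m + 1) = q at *
    obtain ⟨s, rfl⟩ : ∃ s, q = 3 * s + 2 := ⟨q / 3, by omega⟩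
    rcases Nat.prime_three.dvd_mul.1 h3 with h3 | h3
    · rcases Nat.prime_three.dvd_mul.1 h3 with h3 | h3
      · have := Nat.prime_three.dvd_of_dvd_pow h3
        omega
      · have e1 : (3 * s + 2) ^ 2 + 1 = 3 * (3 * s ^ 2 + 4 * s + 1) + 2 := by ring
        rw [e1] at h3
        omega
    · omega
  · haveI : Fact r.Prime := ⟨hr⟩
    exact kill_of_real h5 (H410.RealTw.real_sz hm hF (by omega) hd)

/-- Ree groups have commuting elements of orders 2 and 3. -/
theorem exists_three_comm {K : Type} [Field K] [Fintype K] {m : ℕ} (hm : 1 ≤ m)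
    (hK : Fintype.card K = 3 ^ (2 * m + 1)) :
    ∃ x t : ↥(Cfsg.Lie.twistedG2 K (3 ^ m)), orderOf x = 3 ∧ orderOf t = 2 ∧ t * x = x * t := by
  obtain ⟨a, haH, ha1, ha2⟩ := Cfsg.Agent.S1157.exists_involution hK
  obtain ⟨⟨e⟩, -⟩ := Cfsg.Agent.S1152.result hK a haH ha1 ha2
  have h3 : Fact (Nat.Prime 3) := ⟨Nat.prime_three⟩
  have hodd : Odd (Fintype.card K) := by rw [hK]; exact Odd.pow (by decide)
  have hd : 3 ∣ Nat.card (Matrix.ProjectiveSpecialLinearGroup (Fin 2) K) := by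
    have h1 := Cfsg.Agent.ClassicalGeometry.PSL2Basic.card_PSL2_odd (F := K) hodd
    have h2 : 3 ∣ Nat.card (Matrix.ProjectiveSpecialLinearGroup (Fin 2) K) * 2 := by
      rw [h1, hK]
      exact Dvd.dvd.mul_right (dvd_pow_self 3 (by omega)) _
    rcases Nat.prime_three.dvd_mul.1 h2 with h2 | h2
    · exact h2
    · omega
  obtain ⟨y, hy⟩ := exists_prime_orderOf_dvd_card' 3 hd
  refine ⟨(e.symm (1, y) : centralizer ({a} : Set _)), a, ?_, ?_, ?_⟩
  · rw [Subgroup.orderOf_coe, MulEquiv.orderOf_eq, Prod.orderOf_mk, orderOf_one, hy]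
    rfl
  · exact orderOf_eq_prime (by rw [pow_two]; exact ha2) ha1
  · exact (mem_centralizer_singleton_iff.1 (e.symm (1, y)).2).symm

/-- **Ree groups** -/
theorem noTI3_ree {G : Type*} [Group G] [Finite G] (h : Cfsg.Lie.IsoRee G) : NoTI 3 G := by
  obtain ⟨K, _, _, m, hm, hK, ⟨e⟩⟩ := h
  have hfin : Finite ↥(Cfsg.Lie.twistedG2 K (3 ^ m)) := Finite.of_equiv G e.toEquiv
  refine NoTI.congr e.symm ?_
  intro D h
  have h27 : 27 ∣ Nat.card ↥(Cfsg.Lie.twistedG2 K (3 ^ m)) := by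
    rw [Cfsg.Agent.LieRecognition.ReeFinal.card hK]
    refine Dvd.dvd.mul_right (Dvd.dvd.mul_right ?_ _) _
    rw [← pow_mul]
    exact pow_dvd_pow 3 (show 3 ≤ (2 * m + 1) * 3 by omega)
  have h3 : ¬ 3 ∣ Nat.card D := by
    intro h3
    obtain ⟨x, t, hx, ht, hc⟩ := exists_three_comm hm hK
    rcases h.three h3 with ⟨P, hP⟩ | h9
    · obtain ⟨g, hg⟩ := exists_conj_of_sylow_le Nat.prime_three hP hx
      have hx1 : g * x * g⁻¹ ≠ 1 := by
        intro h1
        have h2 : x = 1 := by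
          have : x = g⁻¹ * (g * x * g⁻¹) * g := by group
          rw [this, h1]; group
        rw [h2, orderOf_one] at hx
        omega
      have ht' : g * t * g⁻¹ ∈ normalizer (zpowers (g * x * g⁻¹) : Set ↥(Cfsg.Lie.twistedG2 K (3 ^ m))) := by
        refine mem_normalizer_of_comm ?_
        calc g * t * g⁻¹ * (g * x * g⁻¹) = g * (t * x) * g⁻¹ := by group
          _ = g * (x * t) * g⁻¹ := by rw [hc]
          _ = g * x * g⁻¹ * (g * t * g⁻¹) := by group
      have h2 : 2 ∣ Nat.card (normalizer (zpowers (g * x * g⁻¹) : Set ↥(Cfsg.Lie.twistedG2 K (3 ^ m)))) := by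
        have := orderOf_dvd_card_of_mem ht'
        rwa [show orderOf (g * t * g⁻¹) = 2 by rw [← ht]; exact (MulAut.conj g).orderOf_eq t] at this
      exact h.not_two (by rw [zpowers_le]; exact hg) (zpowers_ne_bot' hx1) le_rfl h2
    · haveI : Fact (Nat.Prime 3) := ⟨Nat.prime_three⟩
      obtain ⟨P⟩ : Nonempty (Sylow 3 ↥(Cfsg.Lie.twistedG2 K (3 ^ m))) := inferInstance
      have h1 := (h9 P).1
      have h2 : 3 ^ 3 ∣ Nat.card P := P.pow_dvd_card_of_pow_dvd_card h27
      rw [h1] at h2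
      omega
  have hne : Nat.card D ≠ 1 := by
    intro h1
    exact h.ne (Subgroup.eq_bot_of_card_eq D h1)
  have h5 : ∀ s : ℕ, s.Prime → s ∣ Nat.card D → 5 ≤ s := by
    intro s hs hsd
    by_contra hlt
    have h12 : s = 2 ∨ s = 3 ∨ s = 4 := by have := hs.two_le; omega
    rcases h12 with h12 | h12 | h12
    · have h4 := h.odd
      rw [← Nat.not_even_iff_odd, even_iff_two_dvd] at h4
      exact h4 (h12 ▸ hsd)
    · exact h3 (h12 ▸ hsd)
    · rw [h12] at hs; revert hs; decide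
  have hmin := Nat.minFac_prime hne
  haveI : Fact (Nat.card D).minFac.Prime := ⟨hmin⟩
  have h5' := h5 _ hmin (Nat.minFac_dvd _)
  refine h.not_kill h3 hmin h5' (Nat.minFac_dvd _) ?_
    (kill_of_real h5' (H410.RealTw.real_ree hm hK (by omega) (by omega)
      ((Nat.minFac_dvd _).trans (card_subgroup_dvd_card D))))
  intro t ht _ htd
  exact Nat.minFac_le_of_dvd ht.two_le htd

end Cfsg.Agent.H752.FxSzRee
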