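import Cfsg.Agent.H752.PPow

/-!
# The extension condition; subsystems of `p`-power index are normal (helper752)
-/

set_option autoImplicit false

namespace Cfsg.Agent.H752

open Cfsg Cfsg.FusionSystem

variable {Ω : Type*} [Group Ω] {S T : Subgroup Ω} {F : FusionSystem S} {E : FusionSystem T} {p : ℕ}

/-- The extension condition for the automorphism `a` of `T`. -/
def ExtC (F : FusionSystem S) (T : Subgroup Ω) (a : Ω → Ω) : Prop :=
  ∃ b, Mp F (T ⊔ centralizerIn S T) b ∧ (∀ x ∈ T, b x = a x) ∧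
    ∀ c ∈ centralizerIn S T, c⁻¹ * b c ∈ T ⊓ Subgroup.centralizer (T : Set Ω)

/-- A map on `A ⊔ B` that carries `A` and `B` into `R` has image in `R`. -/
theorem Mp.mem_sup {A B R : Subgroup Ω} {f : Ω → Ω} (h : Mp F (A ⊔ B) f)
    (hA : ∀ x ∈ A, f x ∈ R) (hB : ∀ x ∈ B, f x ∈ R) : ∀ x ∈ A ⊔ B, f x ∈ R := by
  obtain ⟨φ, hφ, h1⟩ := h
  intro x hx
  rw [← h1 x hx]
  exact H759.hom_sup_mem (fun y hy hy' => by rw [h1]; exact hA y hy)
    (fun y hy hy' => by rw [h1]; exact hB y hy) ⟨x, hx⟩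

theorem ExtC.maps (hTS : T ≤ S) {b : Ω → Ω} {c : Ω} (hc : c ∈ centralizerIn S T)
    (h : c⁻¹ * b c ∈ T ⊓ Subgroup.centralizer (T : Set Ω)) : b c ∈ centralizerIn S T := by
  have h1 : b c = c * (c⁻¹ * b c) := by group
  rw [h1]
  exact mul_mem hc ⟨hTS h.1, h.2⟩

theorem ExtC.maps_sup (hTS : T ≤ S) {a b : Ω → Ω} (hb : Mp F (T ⊔ centralizerIn S T) b)
    (ha : ∀ x ∈ T, a x ∈ T) (h1 : ∀ x ∈ T, b x = a x)
    (h2 : ∀ c ∈ centralizerIn S T, c⁻¹ * b c ∈ T ⊓ Subgroup.centralizer (T : Set Ω)) :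
    ∀ x ∈ T ⊔ centralizerIn S T, b x ∈ T ⊔ centralizerIn S T := by
  refine hb.mem_sup (fun x hx => ?_) (fun c hc => ?_)
  · rw [h1 x hx]
    exact (le_sup_left : T ≤ T ⊔ centralizerIn S T) (ha x hx)
  · exact (le_sup_right : centralizerIn S T ≤ _) (ExtC.maps hTS hc (h2 c hc))

theorem ExtC.comp (hTS : T ≤ S) {f g : Ω → Ω} (hfm : ∀ x ∈ T, f x ∈ T) (hf : ExtC F T f)
    (hg : ExtC F T g) : ExtC F T (fun x => g (f x)) := by
  obtain ⟨b, hb, h1, h2⟩ := hf
  obtain ⟨b', hb', h1', h2'⟩ := hg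
  have hm := ExtC.maps_sup hTS hb hfm h1 h2
  refine ⟨_, hb.comp hb' hm, fun x hx => ?_, fun c hc => ?_⟩
  · show b' (b x) = g (f x)
    rw [h1 x hx, h1' _ (hfm x hx)]
  · have h3 := h2 c hc
    have h4 := h2' _ (ExtC.maps hTS hc h3)
    have h5 : c⁻¹ * b' (b c) = (c⁻¹ * b c) * ((b c)⁻¹ * b' (b c)) := by group
    show c⁻¹ * b' (b c) ∈ _
    rw [h5]
    exact mul_mem h3 h4

theorem ExtC.congr {f g : Ω → Ω} (hf : ExtC F T f) (h : ∀ x ∈ T, g x = f x) : ExtC F T g := by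
  obtain ⟨b, hb, h1, h2⟩ := hf
  exact ⟨b, hb, fun x hx => (h1 x hx).trans (h x hx).symm, h2⟩

theorem ExtC.symm [Finite S] (hTS : T ≤ S) {f g : Ω → Ω} (hfm : ∀ x ∈ T, f x ∈ T)
    (hf : ExtC F T f) (hg : ∀ x ∈ T, g (f x) = x) (hsurj : ∀ y ∈ T, ∃ x ∈ T, f x = y) :
    ExtC F T g := by
  obtain ⟨b, hb, h1, h2⟩ := hf
  have hm := ExtC.maps_sup hTS hb hfm h1 h2
  have hfin : Finite (T ⊔ centralizerIn S T : Subgroup Ω) := H802.finite_of_le hb.le
  have hfin2 : Finite (centralizerIn S T) := H802.finite_of_le inf_le_left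
  obtain ⟨b', hb', h3, h4⟩ := hb.exists_symm le_rfl (T := T ⊔ centralizerIn S T) fun y =>
    ⟨fun hy => hb.surj hm hy, fun ⟨x, hx, h⟩ => h ▸ hm x hx⟩
  refine ⟨b', hb', fun y hy => ?_, fun c hc => ?_⟩
  · obtain ⟨x, hx, rfl⟩ := hsurj y hy
    rw [hg x hx, ← h1 x hx]
    exact h3 x ((le_sup_left : T ≤ _) hx)
  · obtain ⟨d, hd, rfl⟩ := (hb.res (le_sup_right : centralizerIn S T ≤ _)).surj
      (fun c hc => ExtC.maps hTS hc (h2 c hc)) hc
    rw [h3 d ((le_sup_right : centralizerIn S T ≤ _) hd)]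
    have h5 : (b d)⁻¹ * d = (d⁻¹ * b d)⁻¹ := by group
    rw [h5]
    exact inv_mem (h2 d hd)

theorem ExtC.conj (hTS : T ≤ S) {t : Ω} (ht : t ∈ T) : ExtC F T (fun x => t * x * t⁻¹) := by
  refine ⟨_, mp_conj F (sup_le hTS inf_le_left) (hTS ht), fun x _ => rfl, fun c hc => ?_⟩
  have h1 := Subgroup.mem_centralizer_iff.1 hc.2 t ht
  have h2 : c⁻¹ * (t * c * t⁻¹) = 1 := by
    rw [h1]
    group
  show c⁻¹ * (t * c * t⁻¹) ∈ _
  rw [h2]
  exact one_mem _

/-- Every automorphism in `F` of a strongly closed `T` extends to `T C_S(T)`. -/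
theorem exists_extension_centralizer [Finite S] (hF : F.IsSaturated p) (hT : F.StronglyClosed T)
    {α : MulAut T} (hα : α ∈ F.autGroup T) :
    ∃ β ∈ F.autGroup (T ⊔ centralizerIn S T),
      Restr (le_sup_left : T ≤ T ⊔ centralizerIn S T) α β ∧
      ∀ (c : Ω) (hc : c ∈ centralizerIn S T),
        ((β ⟨c, (le_sup_right : centralizerIn S T ≤ _) hc⟩ : ↥(T ⊔ centralizerIn S T)) : Ω) ∈
          centralizerIn S T := by
  have hTS : T ≤ S := hT.1
  have hfT : Finite T := H802.finite_of_le hTS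
  obtain ⟨-, hrec⟩ := automized_receptive_of_stronglyClosed hF hT
  have hαm := (H802.mem_autGroup_iff F hTS α).1 hα
  have hr : (T.subtype.comp α.toMonoidHom).range = T :=
    H802.range_eq_of_mapsTo hαm fun x => (α x).2
  obtain ⟨ψ, hψ, hψe⟩ := hrec.2 T _ hαm hr
  have h1 : T ≤ extender S T (T.subtype.comp α.toMonoidHom) :=
    H802.le_extender hTS (H802.hom_apply_mem hαm)
  have h2 : centralizerIn S T ≤ extender S T (T.subtype.comp α.toMonoidHom) :=
    H802.centralizerIn_le_extender S T _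
  have hmp : Mp F (T ⊔ centralizerIn S T) (ex ψ) := (mp_ex hψ).res (sup_le h1 h2)
  have hTm : ∀ (x : Ω) (hx : x ∈ T), ex ψ x = ((α ⟨x, hx⟩ : T) : Ω) := by
    intro x hx
    rw [ex_apply _ (h1 hx)]
    exact hψe x hx (h1 hx)
  have hCm : ∀ x ∈ centralizerIn S T, ex ψ x ∈ centralizerIn S T := by
    intro x hx
    rw [ex_apply _ (h2 hx)]
    exact H802.apply_mem_centralizerIn hψ h1 hr (fun y hy => hψe y hy _) ⟨x, h2 hx⟩ hx.2
  have hm : ∀ x ∈ T ⊔ centralizerIn S T, ex ψ x ∈ T ⊔ centralizerIn S T := by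
    refine hmp.mem_sup (fun x hx => ?_) (fun x hx => ?_)
    · rw [hTm x hx]
      exact (le_sup_left : T ≤ _) (α _).2
    · exact (le_sup_right : centralizerIn S T ≤ _) (hCm x hx)
  have hfin : Finite (T ⊔ centralizerIn S T : Subgroup Ω) := H802.finite_of_le hmp.le
  obtain ⟨β, hβ, hβe⟩ := hmp.exists_aut hm
  refine ⟨β, hβ, fun x hx => ?_, fun c hc => ?_⟩
  · rw [← hβe x ((le_sup_left : T ≤ _) hx), hTm x hx]
  · rw [← hβe c ((le_sup_right : centralizerIn S T ≤ _) hc)]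
    exact hCm c hc

/-- The extension condition for all of `Aut_E(T)` from elements of order prime to `p`. -/
theorem extC_of_prime [Finite S] [Fact p.Prime] (hS : IsPGroup p S)
    (hE : E.IsSaturated p) (hTS : T ≤ S)
    (hprime : ∀ α ∈ E.autGroup T, Nat.Coprime (orderOf α) p →
      ExtC F T (ex fun x => ((α x : T) : Ω))) (a : Ω → Ω) (ha : Mp E T a) : ExtC F T a := by
  have hfT : Finite T := H802.finite_of_le hTS
  have hTp : IsPGroup p T := hS.to_le hTS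
  have key : ∀ (P : Subgroup Ω) (f : Ω → Ω), Mp E P f → P = T → ExtC F T f := by
    refine mp_generation E hTp hE (fun P f => P = T → ExtC F T f) ?_ ?_ ?_ ?_ ?_ ?_
    · rintro P f g - h he rfl
      exact (h rfl).congr he
    · rintro P R f hf h hR rfl
      exact h (le_antisymm hf.le hR)
    · rintro P Q f g hf hg h1 h2 hPQ rfl
      have hQ : Q = P := by
        apply le_antisymm hg.le
        intro y hy
        obtain ⟨x, hx, rfl⟩ := hf.surj (fun x hx => hf.mem hx) hy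
        exact hPQ x hx
      exact (h1 rfl).comp hTS (fun x hx => hf.mem hx) (h2 hQ)
    · rintro P R f g hf h1 hg hinv rfl
      have hP : P = R := by
        apply le_antisymm hf.le
        intro y hy
        obtain ⟨y', hy', rfl⟩ := hg.surj (fun x hx => hg.mem hx) hy
        obtain ⟨x, hx, hxy, hgy⟩ := hinv y' hy'
        rw [hgy]
        exact hx
      subst hP
      refine (h1 rfl).symm hTS (fun x hx => hf.mem hx) (fun x hx => ?_)
        (fun y hy => hf.surj (fun x hx => hf.mem hx) hy)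
      obtain ⟨x', hx', hxx, hgx⟩ := hinv (f x) (hf.mem hx)
      rw [hgx]
      exact hf.inj hx' hx hxx
    · rintro P hP s hs rfl
      exact ExtC.conj hTS hs
    · rintro Q - - α hα hc f hf rfl
      exact (hprime α hα hc).congr fun x hx => by rw [ex_apply _ hx, hf x hx]
  exact key T a ha rfl

/-- The characterisation of normal subsystems in terms of functions. -/
theorem isNormalIn_iff [Finite S] (hTS : T ≤ S) : E.IsNormalIn F p ↔
    E.IsSaturated p ∧ F.IsSaturated p ∧ E.IsInvariantIn F ∧ ∀ a, Mp E T a → ExtC F T a := by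
  have hfT : Finite T := H802.finite_of_le hTS
  constructor
  · rintro ⟨⟨h1, h2, h3⟩, h4⟩
    refine ⟨h1, h2, h3, fun a ha => ?_⟩
    obtain ⟨α, hα, hαa⟩ := ha.exists_aut fun x hx => ha.mem hx
    obtain ⟨β, hβ, h5, h6⟩ := h4 α hα
    have hsupS : T ⊔ centralizerIn S T ≤ S := sup_le hTS inf_le_left
    refine ⟨_, (mp_iff_autGroup hsupS β).1 hβ, fun x hx => ?_, fun c hc => ?_⟩
    · rw [ex_apply _ ((le_sup_left : T ≤ _) hx), hαa x hx]
      exact h5 ⟨x, hx⟩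
    · rw [ex_apply _ ((le_sup_right : centralizerIn S T ≤ T ⊔ centralizerIn S T) hc)]
      exact h6 ⟨c, (le_sup_right : centralizerIn S T ≤ T ⊔ centralizerIn S T) hc⟩ hc
  · rintro ⟨h1, h2, h3, h4⟩
    refine ⟨⟨h1, h2, h3⟩, fun α hα => ?_⟩
    have hα' := (mp_iff_autGroup le_rfl α).1 hα
    obtain ⟨b, hb, h5, h6⟩ := h4 _ hα'
    have hfin : Finite (T ⊔ centralizerIn S T : Subgroup Ω) := H802.finite_of_le hb.le
    obtain ⟨β, hβ, hβe⟩ := hb.exists_aut (ExtC.maps_sup hTS hb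
      (fun x hx => hα'.mem hx) h5 h6)
    refine ⟨β, hβ, fun x => ?_, fun c hc => ?_⟩
    · rw [show Subgroup.inclusion (le_sup_left : T ≤ T ⊔ centralizerIn S T) x =
        ⟨x, (le_sup_left : T ≤ T ⊔ centralizerIn S T) x.2⟩ from rfl, ← hβe _ _, h5 x x.2, ex_coe]
    · have h7 := h6 c hc
      rwa [hβe c c.2] at h7

/-- **Subsystems of `p`-power index over a normal subgroup are normal.** -/
theorem isNormalIn_of_pPowerIndex [Finite S] [Fact p.Prime] (hS : IsPGroup p S)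
    (hF : F.IsSaturated p) (hTS : T ≤ S) (hTn : ∀ s ∈ S, ∀ t ∈ T, s * t * s⁻¹ ∈ T)
    (hT : F.hyperfocalSubgroup p ≤ T) (hE : E.IsSaturated p) (hEi : E.HasPPowerIndexIn F p) :
    E.IsNormalIn F p := by
  have hfT : Finite T := H802.finite_of_le hTS
  have hTp : IsPGroup p T := hS.to_le hTS
  have hsc := stronglyClosed_of_hyperfocal_le hS hF hTS hTn hT
  have hprime : ∀ P : Subgroup Ω, P ≤ T → ∀ α ∈ F.autGroup P, Nat.Coprime (orderOf α) p →
      α ∈ E.autGroup P := fun P hP α hα hc =>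
    hEi.2.2 P hP ⟨⟨α, hα⟩, mem_residual hα hc, rfl⟩
  have hI := invC_of_prime hTp hE hsc hEi.1 hprime
  have hFr := fratC_of_prime hS hF hsc hI hprime
  rw [isNormalIn_iff hTS]
  refine ⟨hE, hF, isInvariantIn_iff.2 ⟨hEi.1, hsc, hI, fun P f hPT hf =>
    (hFr P f hf).res (le_inf le_rfl hPT)⟩, fun a ha => ?_⟩
  refine extC_of_prime hS hE hTS (fun α hα hc => ?_) a ha
  have hαF : α ∈ F.autGroup T := by
    rw [mp_iff_autGroup hTS]
    exact mp_mono hEi.1 ((mp_iff_autGroup le_rfl α).1 hα)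
  obtain ⟨β₀, hβ₀, hr₀, hC₀⟩ := exists_extension_centralizer hF hsc hαF
  have hfin : Finite (T ⊔ centralizerIn S T : Subgroup Ω) :=
    H802.finite_of_le (sup_le hTS inf_le_left)
  have hsupS : T ⊔ centralizerIn S T ≤ S := sup_le hTS inf_le_left
  obtain ⟨j, hr, hcop⟩ := hr₀.exists_coprime hc
  have hβ : β₀ ^ j ∈ F.autGroup (T ⊔ centralizerIn S T) := Subgroup.zpow_mem _ hβ₀ j
  refine ⟨_, (mp_iff_autGroup hsupS _).1 hβ, fun x hx => ?_, fun c hc' => ?_⟩
  · rw [ex_apply _ ((le_sup_left : T ≤ _) hx), ex_apply _ hx]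
    exact hr x hx
  · have hc2 : c ∈ T ⊔ centralizerIn S T := (le_sup_right : centralizerIn S T ≤ _) hc'
    rw [ex_apply _ hc2]
    have h1 : c⁻¹ * (((β₀ ^ j) ⟨c, hc2⟩ : ↥(T ⊔ centralizerIn S T)) : Ω) ∈ T :=
      hT (mem_hyperfocal hsupS hβ hcop ⟨c, hc2⟩)
    refine ⟨h1, Subgroup.mul_mem _ (Subgroup.inv_mem _ hc'.2) ?_⟩
    refine Subgroup.mem_centralizer_iff.2 fun t ht => ?_
    have h2 := hr _ (α⁻¹ ⟨t, ht⟩).2
    have h3 : (α ⟨((α⁻¹ ⟨t, ht⟩ : T) : Ω), (α⁻¹ ⟨t, ht⟩).2⟩ : T) = ⟨t, ht⟩ := by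
      show α (α⁻¹ ⟨t, ht⟩) = _
      rw [MulAut.apply_inv_self]
    rw [h3] at h2
    have h4 : ((⟨t, ht⟩ : T) : Ω) = t := rfl
    rw [h4] at h2
    rw [← h2, ← Subgroup.coe_mul, ← Subgroup.coe_mul, ← map_mul, ← map_mul]
    congr 2
    apply Subtype.ext
    exact Subgroup.mem_centralizer_iff.1 hc'.2 _ (α⁻¹ ⟨t, ht⟩).2

end Cfsg.Agent.H752
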