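import Cfsg.Agent.H752.McLPairsData
import Cfsg.Agent.CpAutCoOneFive.Cls
import Cfsg.Agent.H533.T5.Tools

/-!
# All pairs of elements of order five in a subgroup of `Co0` which contains `a, b, k` (helper752)

`pair_P3` : `x, y ∈ P3` non-trivial, `a, b, k ∈ S`: some `S`-conjugate of `y` generates with `x` a group which is not a
5-group;
`pair_all` : all pairs of elements of order five of `S`, if `5 ^ 4` does not divide the order of `S`.
-/

set_option autoImplicit false

namespace Cfsg.Agent.H752.McLPairs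

open Cfsg Subgroup Cfsg.Agent.SporadicStructure.Co0Base
open Cfsg.Agent.CoOneType.CoEval
open Cfsg.Agent.CpAutCoOneFive Cfsg.Agent.CpAutCoOneFive.Nf Cfsg.Agent.CpAutCoOneFive.Cls
open Cfsg.Agent.CpAutCoOneFive.Elem (a b c d)
open Cfsg.Agent.H533.T5

/-- an element of order prime to `p` gives a pair -/
theorem wpair_of_pow {G : Type*} [Group G] {S : Subgroup G} {p : ℕ} {x y g : G} (hg : g ∈ S) {n : ℕ}
    (hn : Nat.Coprime n p) (h1 : (x * (g * y * g⁻¹)) ^ n = 1) (h2 : x * (g * y * g⁻¹) ≠ 1) : WPair p S x y := by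
  refine ⟨g, hg, fun hP => h2 ?_⟩
  have hz : x * (g * y * g⁻¹) ∈ closure ({x, g * y * g⁻¹} : Set G) :=
    mul_mem (subset_closure (by simp)) (subset_closure (by simp))
  obtain ⟨m, hm⟩ := hP ⟨_, hz⟩
  have h3 : (x * (g * y * g⁻¹)) ^ p ^ m = 1 := by simpa using congrArg Subtype.val hm
  have h4 := pow_gcd_eq_one.mpr ⟨h1, h3⟩
  rwa [(Nat.Coprime.pow_right m hn : Nat.gcd n (p ^ m) = 1), pow_one] at h4

/-! ### Words -/

/-- the value of a word -/
def vl (w : List ℕ) : Co0 := (w.map f).prod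

theorem vl_append (u w : List ℕ) : vl (u ++ w) = vl u * vl w := by
  unfold vl
  rw [List.map_append, List.prod_append]

theorem vl_flatten (w : List ℕ) (n : ℕ) : vl (List.replicate n w).flatten = vl w ^ n := by
  induction n with
  | zero => simp [vl]
  | succ n ih => rw [List.replicate_succ, List.flatten_cons, vl_append, ih, pow_succ']

theorem f_il : ∀ i, i < 6 → f (il i) = (f i)⁻¹
  | 0, _ => rfl
  | 1, _ => rfl
  | 2, _ => rfl
  | 3, _ => (inv_inv _).symm
  | 4, _ => (inv_inv _).symm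
  | 5, _ => (inv_inv _).symm
  | _ + 6, h => absurd h (by omega)

theorem vl_iw : ∀ {w : List ℕ}, (∀ i ∈ w, i < 6) → vl (iw w) = (vl w)⁻¹ := by
  intro w
  induction w with
  | nil => intro _; simp [vl, iw]
  | cons i w ih =>
    intro h
    have h1 : iw (i :: w) = iw w ++ [il i] := by simp [iw]
    have h2 : vl (i :: w) = f i * vl w := by simp [vl]
    rw [h1, vl_append, h2, mul_inv_rev, ih (fun j hj => h j (List.mem_cons_of_mem _ hj))]
    congr 1
    unfold vl
    rw [List.map_cons, List.map_nil, List.prod_cons, List.prod_nil, mul_one, f_il i (h i List.mem_cons_self)]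

/-- the representative -/
def rv (i : ℕ) : Co0 := vl (rp i)

theorem gt_lt : ∀ i < 7, ∀ j < 7, ∀ t ∈ (gt i j).1, t < 6 := by decide +kernel

section sub

variable {S : Subgroup Co0} (ha : a ∈ S) (hb : b ∈ S) (hk : k ∈ S)

include ha hb hk

theorem f_mem : ∀ i, f i ∈ S
  | 0 => ha
  | 1 => hb
  | 2 => hk
  | 3 => inv_mem ha
  | 4 => inv_mem hb
  | _ + 5 => inv_mem hk

theorem vl_mem (w : List ℕ) : vl w ∈ S := by
  induction w with
  | nil => exact one_mem S
  | cons i w ih =>
    have h2 : vl (i :: w) = f i * vl w := by simp [vl]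
    rw [h2]
    exact mul_mem (f_mem ha hb hk i) ih

theorem pair_rv_le {i j : ℕ} (hij : i ≤ j) (hj : j < 7) : WPair 5 S (rv i) (rv j) := by
  have h := good_all hij hj
  unfold good at h
  rw [Bool.and_eq_true, Bool.and_eq_true] at h
  obtain ⟨⟨h1, h2⟩, h3⟩ := h
  have hw : vl (wd i j) = rv i * (vl (gt i j).1 * rv j * (vl (gt i j).1)⁻¹) := by
    unfold wd
    rw [vl_append, vl_append, vl_append, vl_iw (gt_lt i (by omega) j hj)]
    unfold rv
    simp only [mul_assoc]
  refine wpair_of_pow (g := vl (gt i j).1) (vl_mem ha hb hk _) (n := (gt i j).2) ?_ ?_ ?_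
  · rw [Nat.coprime_comm, Nat.Prime.coprime_iff_not_dvd five]
    intro hd
    have h4 : (gt i j).2 % 5 = 0 := Nat.mod_eq_zero_of_dvd hd
    rw [h4] at h3
    exact absurd h3 (by decide)
  · rw [← hw, ← vl_flatten]
    exact eq_one_of_oneB rep3 h1
  · rw [← hw]
    intro h4
    have h5 := ne_one_of_neB rep3 h2
    apply h5
    rw [map_prod_pr]
    change pr (vl (wd i j)) = 1
    rw [h4]
    exact map_one _

theorem pair_rv {i j : ℕ} (hi : i < 7) (hj : j < 7) : WPair 5 S (rv i) (rv j) := by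
  rcases le_total i j with h | h
  · exact pair_rv_le ha hb hk h hj
  · exact (pair_rv_le ha hb hk h hi).symm

end sub

/-! ### Reduction to the representatives -/

theorem rv0 : rv 0 = c := by
  unfold rv vl c
  simp only [rp, List.map_cons, List.map_nil, List.prod_cons, List.prod_nil, mul_one, f, mul_assoc]

theorem rv1 : rv 1 = b := by
  unfold rv vl
  simp only [rp, List.map_cons, List.map_nil, List.prod_cons, List.prod_nil, mul_one, f]

theorem rvs : ∀ j : ZMod 5, ∃ i < 7, rv i = a * pw b j := by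
  have h : ∀ j : ZMod 5, j = 0 ∨ j = 1 ∨ j = 2 ∨ j = 3 ∨ j = 4 := by decide
  intro j
  rcases h j with rfl | rfl | rfl | rfl | rfl
  · refine ⟨2, by norm_num, ?_⟩
    unfold rv vl
    simp only [rp, List.map_cons, List.map_nil, List.prod_cons, List.prod_nil, mul_one, f, pw_zero]
  · refine ⟨3, by norm_num, ?_⟩
    unfold rv vl
    simp only [rp, List.map_cons, List.map_nil, List.prod_cons, List.prod_nil, mul_one, f, pw_one]
  · refine ⟨4, by norm_num, ?_⟩
    have h1 : pw b 2 = b ^ 2 := rfl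
    unfold rv vl
    simp only [rp, List.map_cons, List.map_nil, List.prod_cons, List.prod_nil, mul_one, f, h1, pow_two]
  · refine ⟨5, by norm_num, ?_⟩
    have h1 : pw b 3 = b ^ 3 := rfl
    unfold rv vl
    simp only [rp, List.map_cons, List.map_nil, List.prod_cons, List.prod_nil, mul_one, f, h1, pow_succ, pow_zero,
      one_mul, mul_assoc]
  · refine ⟨6, by norm_num, ?_⟩
    have h1 : pw b 4 = b ^ 4 := rfl
    have h2 : b ^ 4 = b⁻¹ := by
      rw [eq_inv_iff_mul_eq_one, ← pow_succ]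
      exact Elem.b_pow
    unfold rv vl
    simp only [rp, List.map_cons, List.map_nil, List.prod_cons, List.prod_nil, mul_one, f, h1, h2]

/-- conjugation inside `P3` moves the exponent of `c` -/
def CS (S : Subgroup Co0) (x y : Co0) : Prop := ∃ w ∈ S, w * x * w⁻¹ = y

theorem CS.refl {S : Subgroup Co0} (x : Co0) : CS S x x := ⟨1, one_mem S, by group⟩

theorem CS.trans {S : Subgroup Co0} {x y z : Co0} (h1 : CS S x y) (h2 : CS S y z) : CS S x z := by
  obtain ⟨u, hu, rfl⟩ := h1
  obtain ⟨v, hv, rfl⟩ := h2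
  exact ⟨v * u, mul_mem hv hu, by group⟩

/-- the elements with `l = 0` -/
def N3 (i m j : ZMod 5) : Co0 := N a b c d i m 0 j

theorem csA {S : Subgroup Co0} (ha : a ∈ S) (i m j : ZMod 5) (n : ℕ) : CS S (N3 i m j) (N3 i (m + n * j) j) := by
  induction n with
  | zero => rw [Nat.cast_zero, zero_mul, add_zero]; exact CS.refl _
  | succ n ih =>
    refine ih.trans ⟨a, ha, ?_⟩
    unfold N3
    rw [moveA quad]
    congr 1
    push_cast
    ring

theorem csB {S : Subgroup Co0} (hb : b ∈ S) (i m j : ZMod 5) (n : ℕ) : CS S (N3 i m j) (N3 i (m + n * (-i)) j) := by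
  induction n with
  | zero => rw [Nat.cast_zero, zero_mul, add_zero]; exact CS.refl _
  | succ n ih =>
    refine ih.trans ⟨b, hb, ?_⟩
    unfold N3
    rw [moveB quad]
    congr 1
    · ring
    · push_cast; ring

theorem N3_mul (i m j i' m' j' : ZMod 5) : ∃ m'', N3 i m j * N3 i' m' j' = N3 (i + i') m'' (j + j') := by
  have key : ∀ n : ℕ, ∃ m'', b ^ n * E a c d i' m' 0 * (b ^ n)⁻¹ = E a c d i' m'' 0 := by
    intro n
    induction n with
    | zero => exact ⟨m', by group⟩
    | succ n ih =>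
      obtain ⟨m1, h1⟩ := ih
      refine ⟨m1 - i' + 2 * 0, ?_⟩
      have h2 := conj_b quad i' m1 0
      rw [mul_zero, add_zero] at h2
      rw [← h2, ← h1, pow_succ']
      group
  obtain ⟨m1, h1⟩ := key j.val
  refine ⟨m + m1, ?_⟩
  unfold N3 N
  have h2 : pw b j = b ^ j.val := rfl
  have h3 := E_mul quad.toTri i m 0 i' m1 0
  rw [add_zero] at h3
  rw [← h3, ← h1, pw_add quad.hb, h2]
  group

theorem N3_pow (i m j : ZMod 5) (n : ℕ) : ∃ m', N3 i m j ^ n = N3 (n * i) m' (n * j) := by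
  induction n with
  | zero =>
    refine ⟨0, ?_⟩
    rw [pow_zero, Nat.cast_zero, zero_mul, zero_mul]
    unfold N3 N
    rw [E_zero, pw_zero, mul_one]
  | succ n ih =>
    obtain ⟨m1, h1⟩ := ih
    obtain ⟨m2, h2⟩ := N3_mul (n * i) m1 (n * j) i m j
    refine ⟨m2, ?_⟩
    rw [pow_succ, h1, h2]
    congr 1 <;> (push_cast; ring)

theorem exists_inv (i : ZMod 5) (hi : i ≠ 0) : ∃ n : ℕ, (n : ZMod 5) * i = 1 := by
  have h : ∀ i : ZMod 5, i ≠ 0 → ∃ n ∈ List.range 5, (n : ZMod 5) * i = 1 := by decide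
  obtain ⟨n, -, hn⟩ := h i hi
  exact ⟨n, hn⟩

/-- every non-trivial element of `P3` has a power conjugate to a representative -/
theorem exists_rep {S : Subgroup Co0} (ha : a ∈ S) (hb : b ∈ S) {x : Co0} (hx : x ∈ P3 quad) (hx1 : x ≠ 1) :
    ∃ i < 7, ∃ n : ℕ, CS S (x ^ n) (rv i) := by
  obtain ⟨i, m, j, rfl⟩ := hx
  change N3 i m j ≠ 1 at hx1
  change ∃ i' < 7, ∃ n : ℕ, CS S (N3 i m j ^ n) (rv i')
  by_cases hi : i = 0
  · subst hi
    by_cases hj : j = 0
    · subst hj
      have hm : m ≠ 0 := by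
        rintro rfl
        apply hx1
        unfold N3 N
        rw [E_zero, pw_zero, mul_one]
      obtain ⟨n, hn⟩ := exists_inv m hm
      refine ⟨0, by norm_num, n, ?_⟩
      have h1 : N3 0 m 0 ^ n = c := by
        unfold N3 N
        rw [pw_zero, mul_one, E_pow quad.toTri, mul_zero, hn, E_c]
      rw [h1, rv0]
      exact CS.refl _
    · obtain ⟨n, hn⟩ := exists_inv j hj
      obtain ⟨m1, h1⟩ := N3_pow 0 m j n
      rw [mul_zero, hn] at h1
      obtain ⟨t, ht⟩ := exists_n m1 1 (by decide)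
      refine ⟨1, by norm_num, n, ?_⟩
      rw [h1]
      have h2 := csA ha 0 m1 1 t
      rw [ht] at h2
      have h3 : N3 0 0 1 = b := by
        unfold N3 N
        rw [E_zero, one_mul, pw_one]
      rwa [h3, ← rv1] at h2
  · obtain ⟨n, hn⟩ := exists_inv i hi
    obtain ⟨m1, h1⟩ := N3_pow i m j n
    rw [hn] at h1
    obtain ⟨t, ht⟩ := exists_n m1 (-1) (by decide)
    obtain ⟨i', hi', h4⟩ := rvs (n * j)
    refine ⟨i', hi', n, ?_⟩
    rw [h1]
    have h2 := csB hb 1 m1 (n * j) t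
    rw [ht] at h2
    have h3 : N3 1 0 (n * j) = a * pw b (n * j) := by
      unfold N3 N
      rw [E_a]
    rwa [h3, ← h4] at h2

/-- **All pairs in `P3`.** -/
theorem pair_P3 {S : Subgroup Co0} (ha : a ∈ S) (hb : b ∈ S) (hk : k ∈ S) {x y : Co0} (hx : x ∈ P3 quad)
    (hx1 : x ≠ 1) (hy : y ∈ P3 quad) (hy1 : y ≠ 1) : WPair 5 S x y := by
  obtain ⟨i, hi, n, w, hw, h1⟩ := exists_rep ha hb hx hx1
  obtain ⟨j, hj, m, v, hv, h2⟩ := exists_rep ha hb hy hy1
  have h3 := pair_rv ha hb hk hi hj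
  rw [← h1, ← h2] at h3
  have h4 := (h3.conj_left hw).conj_right hv
  refine WPair.of_pow (n : ℤ) (m : ℤ) ?_
  rwa [zpow_natCast, zpow_natCast]

/-- **All pairs of elements of order five of a subgroup with Sylow subgroup `P3`.** -/
theorem pair_all {S : Subgroup Co0} (ha : a ∈ S) (hb : b ∈ S) (hk : k ∈ S) (hS : ¬ 5 ^ 4 ∣ Nat.card ↥S) {x y : Co0}
    (hxS : x ∈ S) (hyS : y ∈ S) (hx : orderOf x = 5) (hy : orderOf y = 5) : WPair 5 S x y := by
  have hfin : Finite Co0 := CpAutBig.CoZero.finite_co0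
  have hP : P3 quad ≤ S := by
    rintro _ ⟨i, m, j, rfl⟩
    unfold N E
    rw [pw_zero, mul_one]
    have hcS : c ∈ S := by
      rw [← rv0]
      exact vl_mem ha hb hk _
    exact mul_mem (mul_mem (pow_mem ha _) (pow_mem hcS _)) (pow_mem hb _)
  have hcard : ¬ 5 * Nat.card ↥(P3 quad) ∣ Nat.card ↥S := by
    rw [card_P3]
    exact hS
  have hone : ∀ z : Co0, orderOf z = 5 → z ≠ 1 := by
    rintro z hz rfl
    rw [orderOf_one] at hz
    norm_num at hz
  obtain ⟨w, hw, h1⟩ := conj_into five hP isPGroup_P3 hcard (by rw [← hx, pow_orderOf_eq_one]) hxS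
  obtain ⟨v, hv, h2⟩ := conj_into five hP isPGroup_P3 hcard (by rw [← hy, pow_orderOf_eq_one]) hyS
  have h3 := pair_P3 ha hb hk h1 (fun h => hone x hx (by
    rwa [mul_inv_eq_one, mul_eq_left] at h)) h2 (fun h => hone y hy (by
    rwa [mul_inv_eq_one, mul_eq_left] at h))
  exact (h3.conj_left hw).conj_right hv

/-- the same in a group isomorphic to `S` -/
theorem pair_group {G : Type*} [Group G] {S : Subgroup Co0} (e : G ≃* ↥S) (ha : a ∈ S) (hb : b ∈ S) (hk : k ∈ S)
    (hG : ¬ 5 ^ 4 ∣ Nat.card G) {x y : G} (hx : orderOf x = 5) (hy : orderOf y = 5) :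
    WPair 5 (⊤ : Subgroup G) x y := by
  let φ : G →* Co0 := S.subtype.comp e.toMonoidHom
  have hφ : Function.Injective φ := S.subtype_injective.comp e.injective
  refine WPair.of_hom φ (T := S) ?_ (pair_all ha hb hk (by rwa [← Nat.card_congr e.toEquiv]) (e x).2 (e y).2 ?_ ?_)
  · intro s hs
    exact ⟨e.symm ⟨s, hs⟩, mem_top _, congrArg Subtype.val (e.apply_symm_apply ⟨s, hs⟩)⟩
  · rw [← hx]
    exact orderOf_injective φ hφ x
  · rw [← hy]
    exact orderOf_injective φ hφ y

end Cfsg.Agent.H752.McLPairs
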