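import Cfsg.Agent.H752.CoOnePairsData
import Cfsg.Agent.H752.McLPairs

/-!
# All pairs of elements of order five of `Co1` (helper752)
-/

set_option autoImplicit false

namespace Cfsg.Agent.H752.CoOnePairs

open Cfsg Subgroup Cfsg.Agent.SporadicStructure.Co0Base
open Cfsg.Agent.CoOneType.CoEval
open Cfsg.Agent.CpAutCoOneFive Cfsg.Agent.CpAutCoOneFive.Mat Cfsg.Agent.CpAutCoOneFive.Cls
open Cfsg.Agent.CpAutCoOneFive.Elem (a b c d)
open Cfsg.Agent.H533.T5

theorem pr_mul (g h : Co0) : pr (g * h) = pr g * pr h := map_mul (QuotientGroup.mk' (center Co0)) g h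

theorem pr_inv (g : Co0) : pr g⁻¹ = (pr g)⁻¹ := map_inv (QuotientGroup.mk' (center Co0)) g

theorem pr_pow (g : Co0) (n : ℕ) : pr (g ^ n) = pr g ^ n := map_pow (QuotientGroup.mk' (center Co0)) g n

theorem pr_zpow (g : Co0) (n : ℤ) : pr (g ^ n) = pr g ^ n := map_zpow (QuotientGroup.mk' (center Co0)) g n

theorem pr_one : pr (1 : Co0) = 1 := map_one (QuotientGroup.mk' (center Co0))

/-- the value of a word in `Co1` -/
def vl (w : List ℕ) : Spor.Co1 := (w.map fun i => pr (e i)).prod

theorem vl_append (u w : List ℕ) : vl (u ++ w) = vl u * vl w := by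
  unfold vl
  rw [List.map_append, List.prod_append]

theorem vl_flatten (w : List ℕ) (n : ℕ) : vl (List.replicate n w).flatten = vl w ^ n := by
  induction n with
  | zero => simp [vl]
  | succ n ih => rw [List.replicate_succ, List.flatten_cons, vl_append, ih, pow_succ']

theorem e_il {i : ℕ} (hi : i < 18) : e (il i) = (e i)⁻¹ := by
  unfold il
  interval_cases i <;> rfl

theorem vl_iw : ∀ {w : List ℕ}, (∀ i ∈ w, i < 18) → vl (iw w) = (vl w)⁻¹ := by
  intro w
  induction w with
  | nil => intro _; simp [vl, iw]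
  | cons i w ih =>
    intro h
    have h1 : iw (i :: w) = iw w ++ [il i] := by simp [iw]
    have h2 : vl (i :: w) = pr (e i) * vl w := by simp [vl]
    rw [h1, vl_append, h2, mul_inv_rev, ih (fun j hj => h j (List.mem_cons_of_mem _ hj))]
    congr 1
    unfold vl
    rw [List.map_cons, List.map_nil, List.prod_cons, List.prod_nil, mul_one, e_il (h i List.mem_cons_self), pr_inv]

/-- the representative -/
def rv (i : ℕ) : Spor.Co1 := vl (rp i)

theorem gt_lt : ∀ i < 3, ∀ j < 3, ∀ t ∈ (gt i j).1, t < 18 := by decide +kernel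

theorem pair_rv_le {i j : ℕ} (hij : i ≤ j) (hj : j < 3) : WPair 5 (⊤ : Subgroup Spor.Co1) (rv i) (rv j) := by
  have h := good_all hij hj
  unfold good at h
  rw [Bool.and_eq_true, Bool.and_eq_true] at h
  obtain ⟨⟨h1, h2⟩, h3⟩ := h
  have hw : vl (wd i j) = rv i * (vl (gt i j).1 * rv j * (vl (gt i j).1)⁻¹) := by
    unfold wd
    rw [vl_append, vl_append, vl_append, vl_iw (gt_lt i (by omega) j hj)]
    unfold rv
    simp only [mul_assoc]
  refine McLPairs.wpair_of_pow (g := vl (gt i j).1) (mem_top _) (n := (gt i j).2) ?_ ?_ ?_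
  · rw [Nat.coprime_comm, Nat.Prime.coprime_iff_not_dvd five]
    intro hd
    have h4 : (gt i j).2 % 5 = 0 := Nat.mod_eq_zero_of_dvd hd
    rw [h4] at h3
    exact absurd h3 (by decide)
  · rw [← hw, ← vl_flatten]
    exact eq_one_of_relB rep h1
  · rw [← hw]
    exact ne_one_of_neB rep h2

theorem pair_rv {i j : ℕ} (hi : i < 3) (hj : j < 3) : WPair 5 (⊤ : Subgroup Spor.Co1) (rv i) (rv j) := by
  rcases le_total i j with h | h
  · exact pair_rv_le h hj
  · exact (pair_rv_le h hi).symm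

theorem rv0 : rv 0 = pr a := by
  unfold rv vl
  simp only [rp, List.map_cons, List.map_nil, List.prod_cons, List.prod_nil, mul_one]
  rfl

theorem rv1 : rv 1 = pr c := by
  unfold rv vl c
  simp only [rp, List.map_cons, List.map_nil, List.prod_cons, List.prod_nil, mul_one, pr_mul, pr_inv, mul_assoc]
  rfl

theorem rv2 : rv 2 = pr d := by
  unfold rv vl
  simp only [rp, List.map_cons, List.map_nil, List.prod_cons, List.prod_nil, mul_one]
  rfl

/-- an element of order five of `Co1` comes from one of `Co0` -/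
theorem exists_lift {x : Spor.Co1} (hx : orderOf x = 5) : ∃ g : Co0, orderOf g = 5 ∧ pr g = x := by
  obtain ⟨g, rfl⟩ := QuotientGroup.mk'_surjective (center Co0) x
  have h1 : pr (g ^ 5) = 1 := by
    rw [pr_pow, ← hx]
    exact pow_orderOf_eq_one _
  have h2 : g ^ 5 ∈ center Co0 := (QuotientGroup.eq_one_iff _).mp h1
  have h3 : (g ^ 5) ^ 2 = 1 := by
    rcases SporadicA.Co0Basic.eq_one_or_neg_of_mem_center h2 with h4 | h4
    · rw [h4, one_pow]
    · rw [h4, pow_two]
      exact Subtype.ext (Equiv.ext fun v => neg_neg v)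
  refine ⟨g ^ 6, ?_, ?_⟩
  · refine Cls.orderOf_of ?_ ?_
    · rw [← pow_mul, show 6 * 5 = 5 * 2 * 3 by norm_num, pow_mul, pow_mul, h3, one_pow]
    · intro h4
      have h5 : pr (g ^ 6) = 1 := by rw [h4, pr_one]
      rw [pr_pow, pow_succ, ← pr_pow, h1, one_mul] at h5
      rw [show (QuotientGroup.mk' (center Co0)) g = 1 from h5, orderOf_one] at hx
      norm_num at hx
  · rw [pr_pow, pow_succ, ← pr_pow, h1, one_mul]

/-- a member of a cyclic group of order five has the generator as a power -/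
theorem exists_pow {G : Type*} [Group G] {u r : G} (hu : orderOf u = 5) (hr : orderOf r = 5) (h : u ∈ zpowers r) :
    ∃ n : ℤ, u ^ n = r := by
  have hfin : Finite (zpowers r) := Nat.finite_of_card_ne_zero (by rw [Nat.card_zpowers, hr]; norm_num)
  have h1 : zpowers u = zpowers r := by
    refine Subgroup.eq_of_le_of_card_ge (zpowers_le.2 h) ?_
    rw [Nat.card_zpowers, Nat.card_zpowers, hu, hr]
  have h2 : r ∈ zpowers u := by rw [h1]; exact mem_zpowers r
  exact mem_zpowers_iff.1 h2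

theorem exists_rep {x : Spor.Co1} (hx : orderOf x = 5) :
    ∃ i < 3, ∃ n : ℤ, ∃ w : Spor.Co1, w * x ^ n * w⁻¹ = rv i := by
  obtain ⟨g, hg, rfl⟩ := exists_lift hx
  have key : ∀ r : Co0, orderOf r = 5 → (∃ w : Co0, w * g * w⁻¹ ∈ zpowers r) →
      ∃ n : ℤ, ∃ w : Spor.Co1, w * pr g ^ n * w⁻¹ = pr r := by
    rintro r hr ⟨w, hw⟩
    have h1 : orderOf (w * g * w⁻¹) = 5 := by
      rw [← MulAut.conj_apply, MulEquiv.orderOf_eq, hg]
    obtain ⟨n, hn⟩ := exists_pow h1 hr hw
    refine ⟨n, pr w, ?_⟩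
    rw [← hn, conj_zpow, pr_mul, pr_mul, pr_inv, pr_zpow]
  rcases Cls.cases hg with h | h | h
  · obtain ⟨n, w, h1⟩ := key a Cls.orderOf_a h
    exact ⟨0, by norm_num, n, w, h1.trans rv0.symm⟩
  · obtain ⟨n, w, h1⟩ := key c Cls.orderOf_c h
    exact ⟨1, by norm_num, n, w, h1.trans rv1.symm⟩
  · obtain ⟨n, w, h1⟩ := key d Cls.orderOf_d h
    exact ⟨2, by norm_num, n, w, h1.trans rv2.symm⟩

/-- **All pairs of elements of order five of `Co1`.** -/
theorem pair_co1 {x y : Spor.Co1} (hx : orderOf x = 5) (hy : orderOf y = 5) :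
    WPair 5 (⊤ : Subgroup Spor.Co1) x y := by
  obtain ⟨i, hi, n, w, h1⟩ := exists_rep hx
  obtain ⟨j, hj, m, v, h2⟩ := exists_rep hy
  have h3 := pair_rv hi hj
  rw [← h1, ← h2] at h3
  exact WPair.of_pow n m ((h3.conj_left (mem_top w)).conj_right (mem_top v))

end Cfsg.Agent.H752.CoOnePairs
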