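import Cfsg.Agent.CpAutCoOneFive.Elem

/-!
# Pairs of elements of order five of `Co1` (helper752)

`a, c, d` represent the classes of subgroups of order five of `Co0`. For each pair `x, y` of them a word `g` is given
such that `x (g y g⁻¹)` has in `Co1` an order greater than one and prime to five.  Checked by the kernel.
-/

set_option autoImplicit false
set_option Elab.async false
set_option maxRecDepth 100000

namespace Cfsg.Agent.H752.CoOnePairs

open Cfsg Cfsg.Agent.SporadicStructure.Co0Base
open Cfsg.Agent.SporadicStructure.Co0Matrix Cfsg.Agent.CoOneType.CoEval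
open Cfsg.Agent.SporadicA
open Cfsg.Agent.CpAutCoOneFive.Mat Cfsg.Agent.CpAutCoOneFive

/-- the representatives `a, c, d` -/
def rp : ℕ → List ℕ
  | 0 => [0]
  | 1 => [0, 1, 9, 10]
  | _ => [2]

/-- the inverse letter -/
def il (i : ℕ) : ℕ := (i + 9) % 18

/-- the inverse word -/
def iw (w : List ℕ) : List ℕ := (w.map il).reverse

/-- the conjugating words and the orders -/
def gt : ℕ → ℕ → List ℕ × ℕ
  | 0, 0 => ([1, 7], 9)
  | 0, 1 => ([1, 8], 12)
  | 0, 2 => ([16], 12)
  | 1, 1 => ([6, 7], 11)
  | 1, 2 => ([12, 7], 9)
  | 2, 2 => ([3, 8], 9)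
  | _, _ => ([], 1)

/-- the word `x g y g⁻¹` -/
def wd (i j : ℕ) : List ℕ := rp i ++ ((gt i j).1 ++ (rp j ++ iw (gt i j).1))

/-- the word has in `Co1` the given order prime to five -/
def good (i j : ℕ) : Bool :=
  relB M (List.replicate (gt i j).2 (wd i j)).flatten && neB M (wd i j) && !(Nat.beq ((gt i j).2 % 5) 0)

theorem good00 : good 0 0 = true := by decide +kernel

theorem good01 : good 0 1 = true := by decide +kernel

theorem good02 : good 0 2 = true := by decide +kernel

theorem good11 : good 1 1 = true := by decide +kernel

theorem good12 : good 1 2 = true := by decide +kernel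

theorem good22 : good 2 2 = true := by decide +kernel

theorem good_all {i j : ℕ} (hij : i ≤ j) (hj : j < 3) : good i j = true := by
  interval_cases j
  · obtain rfl : i = 0 := by omega
    exact good00
  · interval_cases i
    · exact good01
    · exact good11
  · interval_cases i
    · exact good02
    · exact good12
    · exact good22

end Cfsg.Agent.H752.CoOnePairs
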