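import Cfsg.Agent.H752.Ext
import Cfsg.Agent.H802.FusGroup
import Cfsg.Agent.Lib.Cores

/-!
# Normal subsystems of the fusion system of a group with `C_G(O_p(G)) ≤ O_p(G)`: first part (helper752)

`CDat p S T Q E` collects what is used of `E ⊴ F_S(G)` over `T` with `Q = O_p(G)`.
-/

set_option autoImplicit false
set_option linter.unusedSectionVars false

namespace Cfsg.Agent.H752

open Cfsg Cfsg.FusionSystem
open scoped commutatorElement

/-- A normal subsystem `E` over `T` of the fusion system of `G`, with `Q = O_p(G)` self-centralizing. -/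
structure CDat {G : Type*} [Group G] (p : ℕ) (S T Q : Subgroup G) (E : FusionSystem T) : Prop where
  syl : H802.SylIn p S ⊤
  normal : Q.Normal
  pgroup : IsPGroup p Q
  max : ∀ N : Subgroup G, N.Normal → IsPGroup p N → N ≤ Q
  cent : Subgroup.centralizer (Q : Set G) ≤ Q
  QS : Q ≤ S
  le : T ≤ S
  sat : E.IsSaturated p
  sub : ∀ (P : Subgroup G) (f : G → G), Mp E P f → ∃ g : G, ∀ x ∈ P, f x = g * x * g⁻¹
  closed : ∀ (g x : G), x ∈ T → g * x * g⁻¹ ∈ S → g * x * g⁻¹ ∈ T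
  inv : ∀ (P : Subgroup G) (f : G → G) (g : G), Mp E P f → (∀ x ∈ P, f x ∈ P) →
    (∀ x ∈ P, g * x * g⁻¹ ∈ P) → Mp E P (fun y => g * f (g⁻¹ * y * g) * g⁻¹)
  ext : ∀ a, Mp E T a → ∃ g : G, (∀ x ∈ T, a x = g * x * g⁻¹) ∧
    ∀ c ∈ centralizerIn S T, c⁻¹ * (g * c * g⁻¹) ∈ T ⊓ Subgroup.centralizer (T : Set G)

/-- `g` commutes with `Q` modulo `Q ∩ T`. -/
def InC {G : Type*} [Group G] (Q T : Subgroup G) (g : G) : Prop :=
  ∀ q ∈ Q, g * q * g⁻¹ * q⁻¹ ∈ Q ⊓ T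

/-- The automorphism `α` of `P` is conjugation by `g`. -/
def Ind {G : Type*} [Group G] {P : Subgroup G} (g : G) (α : MulAut P) : Prop :=
  ∀ (x : G) (hx : x ∈ P), ((α ⟨x, hx⟩ : P) : G) = g * x * g⁻¹

section ind

variable {G : Type*} [Group G] {P : Subgroup G}

theorem Ind.one : Ind (1 : G) (1 : MulAut P) := by
  intro x hx
  show x = _
  simp

theorem Ind.mul {g h : G} {α β : MulAut P} (h1 : Ind g α) (h2 : Ind h β) :
    Ind (g * h) (α * β) := by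
  intro x hx
  rw [MulAut.mul_apply]
  have h3 := h1 _ (β ⟨x, hx⟩).2
  have h4 : (⟨((β ⟨x, hx⟩ : P) : G), (β ⟨x, hx⟩).2⟩ : P) = β ⟨x, hx⟩ := rfl
  rw [h4] at h3
  rw [h3, h2 x hx]
  group

theorem Ind.inv {g : G} {α : MulAut P} (h : Ind g α) : Ind g⁻¹ α⁻¹ := by
  intro x hx
  have h1 := h _ (α⁻¹ ⟨x, hx⟩).2
  have h2 : (α ⟨((α⁻¹ ⟨x, hx⟩ : P) : G), (α⁻¹ ⟨x, hx⟩).2⟩ : P) = ⟨x, hx⟩ := by
    show α (α⁻¹ ⟨x, hx⟩) = _
    rw [MulAut.apply_inv_self]
  rw [h2] at h1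
  have h3 : x = g * ((α⁻¹ ⟨x, hx⟩ : P) : G) * g⁻¹ := h1
  have h4 : g⁻¹ * x * g⁻¹⁻¹ = g⁻¹ * (g * ((α⁻¹ ⟨x, hx⟩ : P) : G) * g⁻¹) * g⁻¹⁻¹ := by rw [← h3]
  rw [h4]
  group

theorem Ind.pow {g : G} {α : MulAut P} (h : Ind g α) (n : ℕ) : Ind (g ^ n) (α ^ n) := by
  induction n with
  | zero => rw [pow_zero, pow_zero]; exact Ind.one
  | succ n ih => rw [pow_succ, pow_succ]; exact ih.mul h

theorem Ind.zpow {g : G} {α : MulAut P} (h : Ind g α) (n : ℤ) : Ind (g ^ n) (α ^ n) := by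
  cases n with
  | ofNat n => rw [Int.ofNat_eq_natCast, zpow_natCast, zpow_natCast]; exact h.pow n
  | negSucc n => rw [zpow_negSucc, zpow_negSucc]; exact (h.pow _).inv

theorem Ind.unique {g : G} {α β : MulAut P} (h : Ind g α) (h' : Ind g β) : α = β := by
  apply MulEquiv.ext
  intro x
  exact Subtype.ext ((h x x.2).trans (h' x x.2).symm)

/-- An inducing element of order prime to `p`, for an automorphism of order prime to `p`. -/
theorem Ind.exists_coprime [Finite G] {p : ℕ} [Fact p.Prime] {g : G} {α : MulAut P}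
    (h : Ind g α) (hα : Nat.Coprime (orderOf α) p) :
    ∃ j : ℤ, Ind (g ^ j) α ∧ Nat.Coprime (orderOf (g ^ j)) p := by
  obtain ⟨a, b, hab, ⟨k, hk⟩, hb⟩ := TwoFusion.PResidual.exists_pPart_mul_pPrimePart p g
  refine ⟨b, ?_, hb⟩
  have h1 := h.zpow a
  have h2 := h.zpow b
  have h3 : α = α ^ a * α ^ b := by
    have h4 := h1.mul h2
    rw [← hab] at h4
    exact h.unique h4
  have h5 : α ^ a = 1 := by
    rw [← orderOf_eq_one_iff]
    have h6 : orderOf (α ^ a) ∣ p ^ k := by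
      apply orderOf_dvd_of_pow_eq_one
      have h8 := h1.pow (p ^ k)
      rw [← hk, pow_orderOf_eq_one] at h8
      rw [← hk]
      exact h8.unique Ind.one
    have h7 : orderOf (α ^ a) ∣ orderOf α := orderOf_dvd_of_mem_zpowers ⟨a, rfl⟩
    exact Nat.eq_one_of_dvd_coprimes (Nat.Coprime.pow_right k hα) h7 h6
  rw [h5, one_mul] at h3
  rw [← h3] at h2
  exact h2

end ind

namespace CDat

variable {G : Type*} [Group G] [Finite G] {p : ℕ} [Fact p.Prime] {S T Q : Subgroup G}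
  {E : FusionSystem T}

theorem isPGroupT (D : CDat p S T Q E) : IsPGroup p T := D.syl.isPGroup.to_le D.le

theorem T_conj (D : CDat p S T Q E) {s t : G} (hs : s ∈ S) (ht : t ∈ T) : s * t * s⁻¹ ∈ T :=
  D.closed s t ht (mul_mem (mul_mem hs (D.le ht)) (S.inv_mem hs))

theorem Q0_conj (D : CDat p S T Q E) (g : G) {x : G} (hx : x ∈ Q ⊓ T) : g * x * g⁻¹ ∈ Q ⊓ T :=
  ⟨D.normal.conj_mem x hx.1 g, D.closed g x hx.2 (D.QS (D.normal.conj_mem x hx.1 g))⟩

theorem Q0_normal (D : CDat p S T Q E) : (Q ⊓ T).Normal := ⟨fun _ hx g => D.Q0_conj g hx⟩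

theorem Q0_conj' (D : CDat p S T Q E) (g : G) {x : G} (hx : x ∈ Q ⊓ T) : g⁻¹ * x * g ∈ Q ⊓ T := by
  have := D.Q0_conj g⁻¹ hx
  rwa [inv_inv] at this

/-! ### The group `C` -/

theorem inC_one : InC Q T (1 : G) := by
  intro q _
  have : (1 : G) * q * 1⁻¹ * q⁻¹ = 1 := by group
  rw [this]
  exact one_mem _

theorem inC_mul (D : CDat p S T Q E) {a b : G} (ha : InC Q T a) (hb : InC Q T b) :
    InC Q T (a * b) := by
  intro q hq
  have h1 : a * b * q * (a * b)⁻¹ * q⁻¹ =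
      (a * (b * q * b⁻¹ * q⁻¹) * a⁻¹) * (a * q * a⁻¹ * q⁻¹) := by group
  rw [h1]
  exact mul_mem (D.Q0_conj a (hb q hq)) (ha q hq)

theorem inC_inv (D : CDat p S T Q E) {a : G} (ha : InC Q T a) : InC Q T a⁻¹ := by
  intro q hq
  have h1 : a⁻¹ * q * a⁻¹⁻¹ * q⁻¹ = a⁻¹ * (a * q * a⁻¹ * q⁻¹)⁻¹ * a := by group
  rw [h1]
  exact D.Q0_conj' a ((Q ⊓ T).inv_mem (ha q hq))

theorem inC_conj (D : CDat p S T Q E) {a : G} (ha : InC Q T a) (g : G) :
    InC Q T (g * a * g⁻¹) := by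
  intro q hq
  have hq' : g⁻¹ * q * g ∈ Q := by
    have := D.normal.conj_mem q hq g⁻¹
    rwa [inv_inv] at this
  have h1 : g * a * g⁻¹ * q * (g * a * g⁻¹)⁻¹ * q⁻¹ =
      g * (a * (g⁻¹ * q * g) * a⁻¹ * (g⁻¹ * q * g)⁻¹) * g⁻¹ := by group
  rw [h1]
  exact D.Q0_conj g (ha _ hq')

theorem inC_T (D : CDat p S T Q E) {t : G} (ht : t ∈ T) : InC Q T t := by
  intro q hq
  refine ⟨mul_mem (D.normal.conj_mem q hq t) (Q.inv_mem hq), ?_⟩
  have h1 : t * q * t⁻¹ * q⁻¹ = t * (q * t⁻¹ * q⁻¹) := by group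
  rw [h1]
  exact mul_mem ht (D.T_conj (D.QS hq) (T.inv_mem ht))

/-- An element of `C` acting on `Q ∩ T` as an element of `Q` lies in `Q`. -/
theorem mem_Q (D : CDat p S T Q E) {x q : G} (hx : InC Q T x) (hq : q ∈ Q)
    (h : ∀ z ∈ Q ⊓ T, x * z * x⁻¹ = q * z * q⁻¹) : x ∈ Q := by
  let N : Subgroup G :=
    { carrier := {x | InC Q T x ∧ ∃ q ∈ Q, ∀ z ∈ Q ⊓ T, x * z * x⁻¹ = q * z * q⁻¹}
      one_mem' := ⟨inC_one, 1, one_mem _, fun z _ => rfl⟩
      mul_mem' := by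
        rintro a b ⟨ha, qa, hqa, h1⟩ ⟨hb, qb, hqb, h2⟩
        refine ⟨D.inC_mul ha hb, qa * qb, mul_mem hqa hqb, fun z hz => ?_⟩
        have h3 : a * b * z * (a * b)⁻¹ = a * (b * z * b⁻¹) * a⁻¹ := by group
        rw [h3, h2 z hz, h1 _ (D.Q0_conj qb hz)]
        group
      inv_mem' := by
        rintro a ⟨ha, qa, hqa, h1⟩
        refine ⟨D.inC_inv ha, qa⁻¹, Q.inv_mem hqa, fun z hz => ?_⟩
        have h2 := h1 _ (D.Q0_conj' qa hz)
        have h3 : qa * (qa⁻¹ * z * qa) * qa⁻¹ = z := by group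
        rw [h3] at h2
        calc a⁻¹ * z * a⁻¹⁻¹ = a⁻¹ * (a * (qa⁻¹ * z * qa) * a⁻¹) * a⁻¹⁻¹ := by rw [h2]
          _ = qa⁻¹ * z * qa⁻¹⁻¹ := by group }
  have hN : N.Normal := by
    refine ⟨?_⟩
    rintro a ⟨ha, qa, hqa, h1⟩ g
    refine ⟨D.inC_conj ha g, g * qa * g⁻¹, D.normal.conj_mem qa hqa g, fun z hz => ?_⟩
    have h2 := h1 _ (D.Q0_conj' g hz)
    calc g * a * g⁻¹ * z * (g * a * g⁻¹)⁻¹ = g * (a * (g⁻¹ * z * g) * a⁻¹) * g⁻¹ := by group
      _ = g * (qa * (g⁻¹ * z * g) * qa⁻¹) * g⁻¹ := by rw [h2]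
      _ = g * qa * g⁻¹ * z * (g * qa * g⁻¹)⁻¹ := by group
  obtain ⟨m, hm⟩ := IsPGroup.iff_card.1 D.pgroup
  have hexp : ∀ q ∈ Q, q ^ p ^ m = 1 := by
    intro q hq
    have h1 : (⟨q, hq⟩ : Q) ^ Nat.card Q = 1 := pow_card_eq_one'
    rw [hm] at h1
    exact congrArg Subtype.val h1
  have hNp : IsPGroup p N := by
    rintro ⟨x, hx, q, hq, hxq⟩
    have hpow : ∀ n : ℕ, ∀ z ∈ Q ⊓ T, x ^ n * z * (x ^ n)⁻¹ = q ^ n * z * (q ^ n)⁻¹ := by
      intro n
      induction n with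
      | zero => intro z _; simp
      | succ n ih =>
        intro z hz
        have h1 : x ^ (n + 1) * z * (x ^ (n + 1))⁻¹ = x ^ n * (x * z * x⁻¹) * (x ^ n)⁻¹ := by
          rw [pow_succ]; group
        rw [h1, hxq z hz, ih _ (D.Q0_conj q hz), pow_succ]
        group
    have hCpow : ∀ n : ℕ, InC Q T (x ^ n) := by
      intro n
      induction n with
      | zero => rw [pow_zero]; exact inC_one
      | succ n ih => rw [pow_succ]; exact D.inC_mul ih hx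
    set y := x ^ p ^ m with hy
    have hyc : ∀ z ∈ Q ⊓ T, y * z * y⁻¹ = z := by
      intro z hz
      rw [hpow _ z hz, hexp q hq]
      simp
    have hyC : InC Q T y := hCpow _
    have hyQ : y ^ p ^ m ∈ Subgroup.centralizer (Q : Set G) := by
      refine Subgroup.mem_centralizer_iff.2 fun w hw => ?_
      have ha := hyC w hw
      set a := y * w * y⁻¹ * w⁻¹ with hadef
      have hya : y * a * y⁻¹ = a := hyc a ha
      have hywa : y * w * y⁻¹ = a * w := by rw [hadef]; group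
      have hyw : ∀ n : ℕ, y ^ n * w * (y ^ n)⁻¹ = a ^ n * w := by
        intro n
        induction n with
        | zero => simp
        | succ n ih =>
          have h1 : y ^ (n + 1) * w * (y ^ (n + 1))⁻¹ = y * (y ^ n * w * (y ^ n)⁻¹) * y⁻¹ := by
            rw [pow_succ']; group
          have h2 : y * (a ^ n * w) * y⁻¹ = (y * a * y⁻¹) ^ n * (y * w * y⁻¹) := by
            rw [conj_pow]; group
          rw [h1, ih, h2, hya, hywa, pow_succ]
          group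
      have h3 := hyw (p ^ m)
      rw [hexp a ha.1, one_mul] at h3
      calc w * y ^ p ^ m = (y ^ p ^ m * w * (y ^ p ^ m)⁻¹) * y ^ p ^ m := by rw [h3]
        _ = y ^ p ^ m * w := by group
    refine ⟨m + m + m, Subtype.ext ?_⟩
    show x ^ p ^ (m + m + m) = 1
    rw [pow_add, pow_add, pow_mul, pow_mul, ← hy]
    exact hexp _ (D.cent hyQ)
  exact D.max N hN hNp ⟨hx, q, hq, h⟩

theorem mem_Q_of_centralizes (D : CDat p S T Q E) {x : G} (hx : InC Q T x)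
    (h : ∀ z ∈ Q ⊓ T, x * z * x⁻¹ = z) : x ∈ Q :=
  D.mem_Q hx (one_mem Q) fun z hz => by rw [h z hz]; simp

theorem mem_Q0_of_centralizes (D : CDat p S T Q E) {x : G} (hx : x ∈ T)
    (h : ∀ z ∈ Q ⊓ T, x * z * x⁻¹ = z) : x ∈ Q ⊓ T :=
  ⟨D.mem_Q_of_centralizes (D.inC_T hx) h, hx⟩

/-! ### `Q ∩ T` is normal in `E` -/

theorem stronglyClosed_of_normal (D : CDat p S T Q E) {N : Subgroup G} (hN : N.Normal) :
    E.StronglyClosed (N ⊓ T) := by
  refine stronglyClosed_of_mp inf_le_right fun P f hf hP x hx => ⟨?_, hf.mem hx⟩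
  obtain ⟨g, hg⟩ := D.sub P f hf
  rw [hg x hx]
  exact hN.conj_mem x (hP hx).1 g

theorem Q0_stronglyClosed (D : CDat p S T Q E) : E.StronglyClosed (Q ⊓ T) :=
  D.stronglyClosed_of_normal D.normal

theorem Q0_isNormal (D : CDat p S T Q E) : E.IsNormal (Q ⊓ T) := by
  have := D.normal
  have hnil : Group.IsNilpotent Q := D.pgroup.isNilpotent
  obtain ⟨n, hn⟩ := hnil.nilpotent'
  refine H759.isNormal_of_chain D.isPGroupT D.sat n
    (fun i => (Subgroup.upperCentralSeries Q i).map Q.subtype ⊓ T) ?_ ?_ ?_ ?_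
  · show (Subgroup.upperCentralSeries Q 0).map Q.subtype ⊓ T = ⊥
    rw [Subgroup.upperCentralSeries_zero, Subgroup.map_bot, bot_inf_eq]
  · show (Subgroup.upperCentralSeries Q n).map Q.subtype ⊓ T = Q ⊓ T
    rw [hn, ← MonoidHom.range_eq_map, Subgroup.range_subtype]
  · intro i _
    exact D.stronglyClosed_of_normal inferInstance
  · intro i _
    rw [Subgroup.commutator_le]
    rintro a ha _ ⟨⟨b, hb, rfl⟩, hbT⟩
    refine ⟨?_, ?_⟩
    · have hb' : b ∈ Subgroup.upperCentralSeries Q (i + 1) := hb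
      rw [Subgroup.mem_upperCentralSeries_succ_iff] at hb'
      refine ⟨⁅b, ⟨a, ha.1⟩⁆⁻¹, Subgroup.inv_mem _ (hb' ⟨a, ha.1⟩), ?_⟩
      rw [commutatorElement_inv]
      rfl
    · exact T.mul_mem (T.mul_mem (T.mul_mem ha.2 hbT) (T.inv_mem ha.2)) (T.inv_mem hbT)

end CDat

end Cfsg.Agent.H752
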