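import Cfsg.Agent.H752.ConstrA
import Cfsg.Agent.H802.FusNormalSub

/-!
# Normal subsystems of the fusion system of a group with `C_G(O_p(G)) ≤ O_p(G)`: second part (helper752)

The normal subgroup `M` of elements of `C` that induce on `Q ∩ T` an automorphism of `E`; it induces all of them.
-/

set_option autoImplicit false
set_option linter.unusedSectionVars false

namespace Cfsg.Agent.H752

open Cfsg Cfsg.FusionSystem

namespace CDat

variable {G : Type*} [Group G] [Finite G] {p : ℕ} [Fact p.Prime] {S T Q : Subgroup G}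
  {E : FusionSystem T}

/-- The subgroup `M`. -/
def M (D : CDat p S T Q E) : Subgroup G where
  carrier := {g | InC Q T g ∧ Mp E (Q ⊓ T) (fun x => g * x * g⁻¹)}
  one_mem' := ⟨inC_one, (mp_id E inf_le_right).congr fun x _ => by simp⟩
  mul_mem' := by
    rintro a b ⟨ha, ha'⟩ ⟨hb, hb'⟩
    refine ⟨D.inC_mul ha hb, (hb'.comp ha' fun x hx => D.Q0_conj b hx).congr fun x _ => ?_⟩
    group
  inv_mem' := by
    rintro a ⟨ha, ha'⟩
    refine ⟨D.inC_inv ha, ha'.symm fun y hy => ⟨a⁻¹ * y * a, D.Q0_conj' a hy, by group, ?_⟩⟩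
    group

theorem mem_M (D : CDat p S T Q E) {g : G} :
    g ∈ D.M ↔ InC Q T g ∧ Mp E (Q ⊓ T) (fun x => g * x * g⁻¹) := Iff.rfl

theorem M_normal (D : CDat p S T Q E) : D.M.Normal := by
  refine ⟨?_⟩
  rintro a ⟨ha, ha'⟩ g
  refine ⟨D.inC_conj ha g, (D.inv _ _ g ha' (fun x hx => D.Q0_conj a hx)
    (fun x hx => D.Q0_conj g hx)).congr fun x _ => ?_⟩
  group

theorem T_le_M (D : CDat p S T Q E) : T ≤ D.M := fun _ ht =>
  ⟨D.inC_T ht, mp_conj E inf_le_right ht⟩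

/-- The induced automorphism, in the system `E`. -/
theorem exists_ind {P : Subgroup G} {g : G} (h : Mp E P (fun x => g * x * g⁻¹)) (hm : ∀ x ∈ P, g * x * g⁻¹ ∈ P) :
    ∃ α ∈ E.autGroup P, Ind g α := by
  have hfT : Finite P := inferInstance
  obtain ⟨α, hα, h1⟩ := h.exists_aut hm
  exact ⟨α, hα, fun x hx => (h1 x hx).symm⟩

theorem exists_ind_of_aut (D : CDat p S T Q E) {P : Subgroup G} (hP : P ≤ T) {α : MulAut P}
    (hα : α ∈ E.autGroup P) : ∃ g : G, Ind g α := by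
  obtain ⟨g, hg⟩ := D.sub P _ ((mp_iff_autGroup hP α).1 hα)
  refine ⟨g, fun x hx => ?_⟩
  rw [← hg x hx, ex_apply _ hx]

/-- Conjugates of automorphisms of `E` by elements of `G` normalizing their source. -/
theorem aut_conj_mem (D : CDat p S T Q E) {P : Subgroup G} (hP : P ≤ T) {α κ : MulAut P}
    (hα : α ∈ E.autGroup P) {g : G} (hg : Ind g κ) : κ * α * κ⁻¹ ∈ E.autGroup P := by
  have h1 := D.inv P _ g ((mp_iff_autGroup hP α).1 hα)
    (fun x hx => by rw [ex_apply _ hx]; exact (α _).2)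
    (fun x hx => by rw [← hg x hx]; exact (κ _).2)
  refine h1.mem_autGroup fun x hx => ?_
  have h2 : g⁻¹ * x * g = ((κ⁻¹ ⟨x, hx⟩ : P) : G) := by
    rw [hg.inv x hx, inv_inv]
  show g * ex (fun x => ((α x : P) : G)) (g⁻¹ * x * g) * g⁻¹ = _
  rw [h2, ex_apply _ (κ⁻¹ ⟨x, hx⟩).2, ← hg _ (α _).2]
  rfl

/-- Commutators of elements of `T C_S(T)` with an element satisfying the extension condition. -/
theorem ext_comm {g t c : G} (hgT : g ∈ Subgroup.normalizer (T : Set G))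
    (ht : t ∈ T) (hc : c ∈ centralizerIn S T)
    (hgc : c⁻¹ * (g * c * g⁻¹) ∈ T ⊓ Subgroup.centralizer (T : Set G)) :
    g * (t * c) * g⁻¹ * (t * c)⁻¹ ∈ T := by
  have h1 : g * (t * c) * g⁻¹ * (t * c)⁻¹ =
      (g * t * g⁻¹) * (c * (c⁻¹ * (g * c * g⁻¹)) * c⁻¹) * t⁻¹ := by group
  have h2 : c * (c⁻¹ * (g * c * g⁻¹)) * c⁻¹ = c⁻¹ * (g * c * g⁻¹) := by
    have h3 := Subgroup.mem_centralizer_iff.1 hc.2 _ hgc.1
    rw [← h3]
    group
  rw [h1, h2]
  exact T.mul_mem (T.mul_mem ((Subgroup.mem_normalizer_iff.1 hgT t).1 ht) hgc.1) (T.inv_mem ht)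

/-- **Automorphisms of `T` in `E` of order prime to `p` are induced by elements of `M`.** -/
theorem exists_M_of_coprime (D : CDat p S T Q E) {α : MulAut T} (hα : α ∈ E.autGroup T)
    (hc : Nat.Coprime (orderOf α) p) : ∃ m ∈ D.M, Ind m α := by
  have hQn := D.normal
  have hQ0n := D.Q0_normal
  obtain ⟨g₀, hg₀, hg₀c⟩ := D.ext _ ((mp_iff_autGroup le_rfl α).1 hα)
  have hind₀ : Ind g₀ α := fun x hx => by rw [← hg₀ x hx, ex_apply _ hx]
  -- the elements satisfying the extension condition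
  let Z : Subgroup G := T ⊓ Subgroup.centralizer (T : Set G)
  have hZ : ∀ g ∈ Subgroup.normalizer (T : Set G), ∀ z ∈ Z, g * z * g⁻¹ ∈ Z := by
    intro g hg z hz
    refine ⟨(Subgroup.mem_normalizer_iff.1 hg z).1 hz.1, Subgroup.mem_centralizer_iff.2 fun y hy => ?_⟩
    have hy' : g⁻¹ * y * g ∈ T := by
      have := (Subgroup.mem_normalizer_iff.1
        ((Subgroup.normalizer (T : Set G)).inv_mem hg) y).1 hy
      simpa using this
    have h1 := Subgroup.mem_centralizer_iff.1 hz.2 _ hy'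
    calc y * (g * z * g⁻¹) = g * ((g⁻¹ * y * g) * z) * g⁻¹ := by group
      _ = g * (z * (g⁻¹ * y * g)) * g⁻¹ := by rw [h1]
      _ = g * z * g⁻¹ * y := by group
  let W : Subgroup G :=
    { carrier := {g | g ∈ Subgroup.normalizer (T : Set G) ∧
        ∀ c ∈ centralizerIn S T, c⁻¹ * (g * c * g⁻¹) ∈ Z}
      one_mem' := ⟨one_mem _, fun c _ => by
        have : c⁻¹ * (1 * c * 1⁻¹) = 1 := by group
        rw [this]
        exact Z.one_mem⟩
      mul_mem' := by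
        rintro a b ⟨ha, ha'⟩ ⟨hb, hb'⟩
        refine ⟨Subgroup.mul_mem _ ha hb, fun c hc => ?_⟩
        have h1 : c⁻¹ * (a * b * c * (a * b)⁻¹) =
            (c⁻¹ * (a * c * a⁻¹)) * (a * (c⁻¹ * (b * c * b⁻¹)) * a⁻¹) := by group
        rw [h1]
        exact Z.mul_mem (ha' c hc) (hZ a ha _ (hb' c hc))
      inv_mem' := by
        rintro a ⟨ha, ha'⟩
        refine ⟨Subgroup.inv_mem _ ha, fun c hc => ?_⟩
        have h2 : a⁻¹ * c * a⁻¹⁻¹ = c * (a⁻¹ * (c⁻¹ * (a * c * a⁻¹)) * a⁻¹⁻¹)⁻¹ := by group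
        rw [h2]
        have h3 : c⁻¹ * (c * (a⁻¹ * (c⁻¹ * (a * c * a⁻¹)) * a⁻¹⁻¹)⁻¹) =
            (a⁻¹ * (c⁻¹ * (a * c * a⁻¹)) * a⁻¹⁻¹)⁻¹ := by group
        rw [h3]
        exact Z.inv_mem (hZ a⁻¹ (Subgroup.inv_mem _ ha) _ (ha' c hc)) }
  have hg₀W : g₀ ∈ W := ⟨H802.mem_normalizer_of_aut (P := T) (fun x => hind₀ x x.2), hg₀c⟩
  obtain ⟨j, hind, hcop⟩ := hind₀.exists_coprime hc
  set g := g₀ ^ j with hg
  have hgW : g ∈ W := Subgroup.zpow_mem W hg₀W j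
  obtain ⟨B, hB⟩ := (automized_receptive_of_stronglyClosed D.sat (T := T)
    H759.StronglyClosed.top).1.2
  -- `[g, Q] ≤ T C_S(T)`
  have hQT : ∀ q ∈ Q, g * q * g⁻¹ * q⁻¹ ∈ Q ∧ ∃ t ∈ T, ∃ c ∈ centralizerIn S T,
      g * q * g⁻¹ * q⁻¹ = t * c := by
    intro q hq
    have hu : g * q * g⁻¹ * q⁻¹ ∈ Q := mul_mem (hQn.conj_mem q hq g) (Q.inv_mem hq)
    refine ⟨hu, ?_⟩
    let K : Subgroup (MulAut T) := autInducedBy Q T ⊓ E.autGroup T
    have hKn : ∀ a ∈ E.autGroup T, ∀ k ∈ K, a * k * a⁻¹ ∈ K := by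
      rintro a ha k ⟨hk, hk'⟩
      refine ⟨?_, Subgroup.mul_mem _ (Subgroup.mul_mem _ ha hk') (Subgroup.inv_mem _ ha)⟩
      obtain ⟨x, hx, hxk⟩ := (H802.mem_autInducedBy_iff _ _ _).1 hk
      obtain ⟨h, hh⟩ := D.exists_ind_of_aut le_rfl ha
      have h1 : Ind (h * x * h⁻¹) (a * k * a⁻¹) := (hh.mul (fun y hy => hxk ⟨y, hy⟩)).mul hh.inv
      exact (H802.mem_autInducedBy_iff _ _ _).2 ⟨h * x * h⁻¹, hQn.conj_mem x hx h,
        fun y => h1 y y.2⟩
    have hKp : IsPGroup p K := (H802.isPGroup_autInducedBy D.pgroup T).to_le inf_le_left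
    have hKT := H759.le_autInducedBy_of_normal (automized_receptive_of_stronglyClosed D.sat (T := T)
      H759.StronglyClosed.top).1 K inf_le_right hKn hKp
    -- the automorphism induced by `q`
    have hqN : q ∈ Subgroup.normalizer (T : Set G) := by
      refine H802.mem_normalizer_of_conj_mem (H := ⊤) le_top ?_
      exact fun t ht => D.T_conj (D.QS hq) ht
    obtain ⟨κ, hκ⟩ := H802.exists_conjAut hqN
    have hκ' : Ind q κ := fun x hx => hκ ⟨x, hx⟩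
    have h1 : κ * α⁻¹ * κ⁻¹ ∈ E.autGroup T := D.aut_conj_mem le_rfl (inv_mem hα) hκ'
    have h2 : α * (κ * α⁻¹ * κ⁻¹) ∈ E.autGroup T := mul_mem hα h1
    have h3 : Ind (g * (q * g⁻¹ * q⁻¹)) (α * (κ * α⁻¹ * κ⁻¹)) :=
      hind.mul ((hκ'.mul hind.inv).mul hκ'.inv)
    have h4 : g * (q * g⁻¹ * q⁻¹) = g * q * g⁻¹ * q⁻¹ := by group
    rw [h4] at h3
    have h5 : α * (κ * α⁻¹ * κ⁻¹) ∈ K :=
      ⟨(H802.mem_autInducedBy_iff _ _ _).2 ⟨_, hu, fun y => h3 y y.2⟩, h2⟩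
    obtain ⟨t, ht, hte⟩ := (H802.mem_autInducedBy_iff _ _ _).1 (hKT h5)
    refine ⟨t, ht, t⁻¹ * (g * q * g⁻¹ * q⁻¹), ⟨mul_mem (S.inv_mem (D.le ht)) (D.QS hu), ?_⟩,
      by group⟩
    refine Subgroup.mem_centralizer_iff.2 fun y hy => ?_
    have h6 := hte ⟨y, hy⟩
    have h7 := h3 y hy
    have h8 : (g * q * g⁻¹ * q⁻¹) * y * (g * q * g⁻¹ * q⁻¹)⁻¹ = t * y * t⁻¹ := h7.symm.trans h6
    calc y * (t⁻¹ * (g * q * g⁻¹ * q⁻¹)) = t⁻¹ * (t * y * t⁻¹) * (g * q * g⁻¹ * q⁻¹) := by group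
      _ = t⁻¹ * ((g * q * g⁻¹ * q⁻¹) * y * (g * q * g⁻¹ * q⁻¹)⁻¹) * (g * q * g⁻¹ * q⁻¹) := by
          rw [h8]
      _ = t⁻¹ * (g * q * g⁻¹ * q⁻¹) * y := by group
  -- `[g, Q] ≤ Q ∩ T` by coprime action
  have hInC : InC Q T g := by
    intro q hq
    obtain ⟨huQ, t, ht, c, hcC, huc⟩ := hQT q hq
    set u := g * q * g⁻¹ * q⁻¹ with hu
    have h1 : g * u * g⁻¹ * u⁻¹ ∈ Q ⊓ T := by
      refine ⟨mul_mem (hQn.conj_mem u huQ g) (Q.inv_mem huQ), ?_⟩
      rw [huc]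
      exact ext_comm hgW.1 ht hcC (hgW.2 c hcC)
    let π := QuotientGroup.mk' (Q ⊓ T)
    have hπ1 : π g * π u * (π g)⁻¹ * (π u)⁻¹ = 1 := by
      rw [← map_inv, ← map_inv, ← map_mul, ← map_mul, ← map_mul]
      exact (QuotientGroup.eq_one_iff _).2 h1
    have hπ2 : π g * π u * (π g)⁻¹ = π u := by
      have h2 : π g * π u * (π g)⁻¹ = (π g * π u * (π g)⁻¹ * (π u)⁻¹) * π u := by group
      rw [h2, hπ1, one_mul]
    have hπ3 : π g * π q * (π g)⁻¹ = π u * π q := by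
      rw [← map_inv, ← map_mul, ← map_mul, ← map_mul]
      congr 1
      rw [hu]
      group
    have hπ4 : ∀ n : ℕ, (π g) ^ n * π q * ((π g) ^ n)⁻¹ = (π u) ^ n * π q := by
      intro n
      induction n with
      | zero => simp
      | succ n ih =>
        have h2 : (π g) ^ (n + 1) * π q * ((π g) ^ (n + 1))⁻¹ =
            π g * ((π g) ^ n * π q * ((π g) ^ n)⁻¹) * (π g)⁻¹ := by
          rw [pow_succ']; group
        have h3 : π g * ((π u) ^ n * π q) * (π g)⁻¹ =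
            (π g * π u * (π g)⁻¹) ^ n * (π g * π q * (π g)⁻¹) := by
          rw [conj_pow]; group
        rw [h2, ih, h3, hπ2, hπ3, pow_succ]
        group
    have hπ5 : (π u) ^ orderOf g = 1 := by
      have h2 := hπ4 (orderOf g)
      rw [← map_pow, pow_orderOf_eq_one, map_one, one_mul, inv_one, mul_one] at h2
      have h3 : (π u) ^ orderOf g * π q = 1 * π q := by rw [one_mul]; exact h2.symm
      exact mul_right_cancel h3
    obtain ⟨k, hk⟩ := D.pgroup ⟨u, huQ⟩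
    have hk' : u ^ p ^ k = 1 := congrArg Subtype.val hk
    have hπ6 : (π u) ^ p ^ k = 1 := by rw [← map_pow, hk', map_one]
    have h7 : orderOf (π u) = 1 :=
      Nat.eq_one_of_dvd_coprimes (Nat.Coprime.pow_right k hcop) (orderOf_dvd_of_pow_eq_one hπ5)
        (orderOf_dvd_of_pow_eq_one hπ6)
    rw [orderOf_eq_one_iff] at h7
    exact (QuotientGroup.eq_one_iff _).1 h7
  refine ⟨g, ⟨hInC, ?_⟩, hind⟩
  refine (((mp_iff_autGroup le_rfl α).1 hα).res inf_le_right).congr fun x hx => ?_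
  rw [ex_apply _ hx.2]
  exact (hind x hx.2).symm

end CDat

end Cfsg.Agent.H752
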