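import Cfsg.Agent.H752.ConstrB
import Mathlib.GroupTheory.Focal

/-!
# Normal subsystems of the fusion system of a group with `C_G(O_p(G)) ≤ O_p(G)`: third part (helper752)

`M` induces all of `Aut_E(Q ∩ T)`; the normal subgroup `H = O^p(M) T` with `H ∩ S = T`.
-/

set_option autoImplicit false
set_option linter.unusedSectionVars false

namespace Cfsg.Agent.H752

open Cfsg Cfsg.FusionSystem
open scoped commutatorElement

namespace CDat

variable {G : Type*} [Group G] [Finite G] {p : ℕ} [Fact p.Prime] {S T Q : Subgroup G}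
  {E : FusionSystem T}

theorem Q0_automized_receptive (D : CDat p S T Q E) :
    E.IsFullyAutomized p (Q ⊓ T) ∧ E.IsReceptive (Q ⊓ T) :=
  automized_receptive_of_stronglyClosed D.sat D.Q0_stronglyClosed

/-- An automorphism of `Q ∩ T` in `E` that normalizes `Aut_T(Q ∩ T)` extends to `T`. -/
theorem exists_extension_T (D : CDat p S T Q E) {α : MulAut (Q ⊓ T : Subgroup G)}
    (hα : α ∈ E.autGroup (Q ⊓ T))
    (hn : ∀ b ∈ autInducedBy T (Q ⊓ T), α * b * α⁻¹ ∈ autInducedBy T (Q ⊓ T)) :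
    ∃ β ∈ E.autGroup T, Restr (inf_le_right : Q ⊓ T ≤ T) α β := by
  have hle : Q ⊓ T ≤ T := inf_le_right
  have hαm := (H802.mem_autGroup_iff E hle α).1 hα
  have hr : ((Q ⊓ T).subtype.comp α.toMonoidHom).range = Q ⊓ T :=
    H802.range_eq_of_mapsTo hαm fun x => (α x).2
  obtain ⟨ψ, hψ, hψe⟩ := D.Q0_automized_receptive.2.2 _ _ hαm hr
  have hT : T ≤ extender T (Q ⊓ T) ((Q ⊓ T).subtype.comp α.toMonoidHom) := by
    intro g hg
    have hgN : g ∈ Subgroup.normalizer ((Q ⊓ T : Subgroup G) : Set G) :=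
      H802.mem_normalizer_of_conj_mem (H := ⊤) le_top fun x hx => D.Q0_conj g hx
    rw [H802.mem_extender_iff]
    refine ⟨hg, hgN, ?_⟩
    obtain ⟨κ, hκ⟩ := H802.exists_conjAut hgN
    have hκm : κ ∈ autInducedBy T (Q ⊓ T) := (H802.mem_autInducedBy_iff _ _ _).2 ⟨g, hg, hκ⟩
    obtain ⟨h, hh, hhe⟩ := (H802.mem_autInducedBy_iff _ _ _).1 (hn κ hκm)
    refine ⟨h, hh, fun x hx => ?_⟩
    have h1 := hhe (α x)
    have h2 : (α * κ * α⁻¹) (α x) = α (κ x) := by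
      rw [MulAut.mul_apply, MulAut.mul_apply, MulAut.inv_apply_self]
    rw [h2] at h1
    show ((α ⟨g * x * g⁻¹, hx⟩ : (Q ⊓ T : Subgroup G)) : G) = h * (α x : (Q ⊓ T : Subgroup G)) * h⁻¹
    rw [← h1]
    congr 2
    exact Subtype.ext (hκ x).symm
  have h1 : Mp E T (ex ψ) := (mp_ex hψ).res hT
  obtain ⟨β, hβ, hβe⟩ := h1.exists_aut fun x hx => h1.mem hx
  refine ⟨β, hβ, fun x hx => ?_⟩
  rw [← hβe x (hle hx), ex_apply _ (hT (hle hx))]
  exact hψe x hx (hT (hle hx))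

/-- **`M` induces all automorphisms of `Q ∩ T` in `E`.** -/
theorem exists_M (D : CDat p S T Q E) {α : MulAut (Q ⊓ T : Subgroup G)}
    (hα : α ∈ E.autGroup (Q ⊓ T)) : ∃ m ∈ D.M, Ind m α := by
  have hle : Q ⊓ T ≤ T := inf_le_right
  obtain ⟨B, hB⟩ := D.Q0_automized_receptive.1.2
  let N : Subgroup (E.autGroup (Q ⊓ T)) :=
    { carrier := {β | ∃ m ∈ D.M, Ind m (β : MulAut (Q ⊓ T : Subgroup G))}
      one_mem' := ⟨1, one_mem _, Ind.one⟩
      mul_mem' := by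
        rintro a b ⟨m, hm, h1⟩ ⟨k, hk, h2⟩
        exact ⟨m * k, mul_mem hm hk, h1.mul h2⟩
      inv_mem' := by
        rintro a ⟨m, hm, h1⟩
        exact ⟨m⁻¹, inv_mem hm, h1.inv⟩ }
  have hNn : N.Normal := by
    refine ⟨?_⟩
    rintro a ⟨m, hm, h1⟩ b
    obtain ⟨g, hg⟩ := D.exists_ind_of_aut hle b.2
    exact ⟨g * m * g⁻¹, D.M_normal.conj_mem m hm g, (hg.mul h1).mul hg.inv⟩
  have hBN : (B : Subgroup (E.autGroup (Q ⊓ T))) ≤ N := by
    intro b hb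
    rw [hB, Subgroup.mem_subgroupOf, H802.mem_autInducedBy_iff] at hb
    obtain ⟨t, ht, h1⟩ := hb
    exact ⟨t, D.T_le_M ht, fun x hx => h1 ⟨x, hx⟩⟩
  suffices h : (⟨α, hα⟩ : E.autGroup (Q ⊓ T)) ∈ N from h
  have hfr := Sylow.normalizer_sup_eq_top' B hBN
  have hmem : (⟨α, hα⟩ : E.autGroup (Q ⊓ T)) ∈
      Subgroup.normalizer ((B : Subgroup (E.autGroup (Q ⊓ T))) : Set (E.autGroup (Q ⊓ T))) ⊔ N := by
    have h0 : (⟨α, hα⟩ : E.autGroup (Q ⊓ T)) ∈ (⊤ : Subgroup (E.autGroup (Q ⊓ T))) := trivial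
    rw [← hfr] at h0
    exact h0
  obtain ⟨n, hn, d, hd, hnd⟩ := Subgroup.mem_sup_of_normal_right.1 hmem
  rw [← hnd]
  refine N.mul_mem ?_ hd
  -- the two parts of `n`
  obtain ⟨a, b, hab, ⟨k, hk⟩, hb⟩ := TwoFusion.PResidual.exists_pPart_mul_pPrimePart p n
  rw [hab]
  have hna : n ^ a ∈ Subgroup.normalizer ((B : Subgroup (E.autGroup (Q ⊓ T))) :
      Set (E.autGroup (Q ⊓ T))) := Subgroup.zpow_mem _ hn a
  have hnb : n ^ b ∈ Subgroup.normalizer ((B : Subgroup (E.autGroup (Q ⊓ T))) :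
      Set (E.autGroup (Q ⊓ T))) := Subgroup.zpow_mem _ hn b
  refine N.mul_mem (hBN ?_) ?_
  · have hp1 : IsPGroup p (Subgroup.zpowers (n ^ a)) := by
      apply IsPGroup.of_card (n := k)
      rw [Nat.card_zpowers, hk]
    have h1 := hp1.inf_normalizer_sylow B
    have h2 : n ^ a ∈ Subgroup.zpowers (n ^ a) ⊓ Subgroup.normalizer
      ((B : Subgroup (E.autGroup (Q ⊓ T))) : Set (E.autGroup (Q ⊓ T))) :=
      ⟨Subgroup.mem_zpowers _, hna⟩
    have h3 : n ^ a ∈ Subgroup.zpowers (n ^ a) ⊓ (B : Subgroup (E.autGroup (Q ⊓ T))) := by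
      rw [← h1]
      exact h2
    exact h3.2
  · have hcop : Nat.Coprime (orderOf ((n ^ b : E.autGroup (Q ⊓ T)) :
        MulAut (Q ⊓ T : Subgroup G))) p := by
      rw [Subgroup.orderOf_coe]
      exact hb
    have hnorm : ∀ c ∈ autInducedBy T (Q ⊓ T),
        ((n ^ b : E.autGroup (Q ⊓ T)) : MulAut (Q ⊓ T : Subgroup G)) * c *
        ((n ^ b : E.autGroup (Q ⊓ T)) : MulAut (Q ⊓ T : Subgroup G))⁻¹ ∈
          autInducedBy T (Q ⊓ T) := by
      intro c hc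
      have hcE := H802.autInducedBy_le_autGroup E hle hc
      have h1 : (⟨c, hcE⟩ : E.autGroup (Q ⊓ T)) ∈ (B : Subgroup (E.autGroup (Q ⊓ T))) := by
        rw [hB]
        exact hc
      have h2 := (Subgroup.mem_normalizer_iff.1 hnb _).1 h1
      have h3 : n ^ b * ⟨c, hcE⟩ * (n ^ b)⁻¹ ∈
        (autInducedBy T (Q ⊓ T)).subgroupOf (E.autGroup (Q ⊓ T)) := by
        rw [← hB]
        exact h2
      exact h3
    obtain ⟨β, hβ, hr⟩ := D.exists_extension_T (n ^ b).2 hnorm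
    obtain ⟨j, hr', hcj⟩ := hr.exists_coprime hcop
    obtain ⟨m, hm, hmi⟩ := D.exists_M_of_coprime (Subgroup.zpow_mem _ hβ j) hcj
    refine ⟨m, hm, fun x hx => ?_⟩
    rw [← hr' x hx]
    exact hmi x (hle hx)

theorem mp_Q0_iff (D : CDat p S T Q E) {f : G → G} :
    Mp E (Q ⊓ T) f ↔ ∃ m ∈ D.M, ∀ x ∈ Q ⊓ T, f x = m * x * m⁻¹ := by
  constructor
  · intro h
    obtain ⟨α, hα, h1⟩ := h.exists_aut fun x hx =>
      mp_mem_of_stronglyClosed D.Q0_stronglyClosed h hx hx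
    obtain ⟨m, hm, h2⟩ := D.exists_M hα
    exact ⟨m, hm, fun x hx => by rw [h1 x hx, h2 x hx]⟩
  · rintro ⟨m, hm, h⟩
    exact hm.2.congr h

/-! ### The Sylow subgroup `S ∩ M` -/

theorem sylM (D : CDat p S T Q E) : H802.SylIn p (S ⊓ D.M) D.M :=
  D.syl.inf_normal le_top fun g _ m hm => D.M_normal.conj_mem m hm g

theorem mem_Q_of_M (D : CDat p S T Q E) {x : G} (hx : x ∈ D.M)
    (h : ∀ z ∈ Q ⊓ T, x * z * x⁻¹ = z) : x ∈ Q := D.mem_Q_of_centralizes hx.1 h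

/-- `S ∩ M = T C_M(Q ∩ T)`. -/
theorem exists_decomp (D : CDat p S T Q E) {s : G} (hs : s ∈ S ⊓ D.M) :
    ∃ t ∈ T, (t⁻¹ * s) ∈ D.M ∧ (t⁻¹ * s) ∈ Q ∧ ∀ z ∈ Q ⊓ T, (t⁻¹ * s) * z * (t⁻¹ * s)⁻¹ = z := by
  have hle : Q ⊓ T ≤ T := inf_le_right
  obtain ⟨B, hB⟩ := D.Q0_automized_receptive.1.2
  have hLE : autInducedBy (S ⊓ D.M) (Q ⊓ T) ≤ E.autGroup (Q ⊓ T) := by
    intro α hα
    obtain ⟨g, hg, h1⟩ := (H802.mem_autInducedBy_iff _ _ _).1 hα
    exact hg.2.2.mem_autGroup fun x hx => (h1 ⟨x, hx⟩).symm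
  have hLp : IsPGroup p ((autInducedBy (S ⊓ D.M) (Q ⊓ T)).subgroupOf (E.autGroup (Q ⊓ T))) :=
    (H802.isPGroup_autInducedBy (D.syl.isPGroup.to_le inf_le_left) _).comap_of_injective
      (E.autGroup (Q ⊓ T)).subtype (E.autGroup (Q ⊓ T)).subtype_injective
  have hBL : (B : Subgroup (E.autGroup (Q ⊓ T))) ≤
      (autInducedBy (S ⊓ D.M) (Q ⊓ T)).subgroupOf (E.autGroup (Q ⊓ T)) := by
    rw [hB]
    intro α hα
    rw [Subgroup.mem_subgroupOf, H802.mem_autInducedBy_iff] at hα ⊢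
    obtain ⟨t, ht, h1⟩ := hα
    exact ⟨t, ⟨D.le ht, D.T_le_M ht⟩, h1⟩
  have hLB := B.is_maximal' hLp hBL
  obtain ⟨α, hα, h1⟩ := exists_ind hs.2.2 fun x hx => D.Q0_conj s hx
  have h2 : (⟨α, hα⟩ : E.autGroup (Q ⊓ T)) ∈
      (autInducedBy (S ⊓ D.M) (Q ⊓ T)).subgroupOf (E.autGroup (Q ⊓ T)) := by
    rw [Subgroup.mem_subgroupOf, H802.mem_autInducedBy_iff]
    exact ⟨s, hs, fun x => h1 x x.2⟩
  rw [hLB, hB, Subgroup.mem_subgroupOf, H802.mem_autInducedBy_iff] at h2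
  obtain ⟨t, ht, h3⟩ := h2
  have h4 : ∀ z ∈ Q ⊓ T, (t⁻¹ * s) * z * (t⁻¹ * s)⁻¹ = z := by
    intro z hz
    have h5 : s * z * s⁻¹ = t * z * t⁻¹ := (h1 z hz).symm.trans (h3 ⟨z, hz⟩)
    calc (t⁻¹ * s) * z * (t⁻¹ * s)⁻¹ = t⁻¹ * (s * z * s⁻¹) * t := by group
      _ = t⁻¹ * (t * z * t⁻¹) * t := by rw [h5]
      _ = z := by group
  have h5 : t⁻¹ * s ∈ D.M := D.M.mul_mem (D.M.inv_mem (D.T_le_M ht)) hs.2
  exact ⟨t, ht, h5, D.mem_Q_of_M h5 h4, h4⟩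

/-- Commutators of elements of `S ∩ M` with elements of `M` that stay in `S` lie in `T`. -/
theorem comm_mem_T (D : CDat p S T Q E) {x u : G} (hx : x ∈ S ⊓ D.M) (hu : u ∈ D.M)
    (h : u * x * u⁻¹ ∈ S) : x * (u * x * u⁻¹)⁻¹ ∈ T := by
  have hQn := D.normal
  obtain ⟨t, ht, hzM, hzQ, -⟩ := D.exists_decomp hx
  set z := t⁻¹ * x with hz
  have hx' : x = t * z := by rw [hz]; group
  have huz : u * z * u⁻¹ ∈ Q := hQn.conj_mem z hzQ u
  have h1 : u * t * u⁻¹ ∈ S := by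
    have h2 : u * t * u⁻¹ = (u * x * u⁻¹) * (u * z * u⁻¹)⁻¹ := by rw [hx']; group
    rw [h2]
    exact S.mul_mem h (S.inv_mem (D.QS huz))
  have h2 : u * t * u⁻¹ ∈ T := D.closed u t ht h1
  have h3 := hu.1 z hzQ
  have h4 : x * (u * x * u⁻¹)⁻¹ = t * (u * z * u⁻¹ * z⁻¹)⁻¹ * (u * t * u⁻¹)⁻¹ := by
    rw [hx']; group
  rw [h4]
  exact T.mul_mem (T.mul_mem ht (T.inv_mem h3.2)) (T.inv_mem h2)

/-- `O^p(M)`, as a subgroup of `G`. -/
def R (D : CDat p S T Q E) : Subgroup G := (pResidual p D.M).map D.M.subtype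

theorem R_le_M (D : CDat p S T Q E) : D.R ≤ D.M := Subgroup.map_subtype_le _

theorem R_normal (D : CDat p S T Q E) : D.R.Normal := by
  have h1 := D.M_normal
  have h2 := TwoFusion.PResidual.pResidual_characteristic (G := D.M) p
  exact ConjAct.normal_of_characteristic_of_normal

theorem mem_R_of_coprime (D : CDat p S T Q E) {m : G} (hm : m ∈ D.M)
    (hc : Nat.Coprime (orderOf m) p) : m ∈ D.R := by
  refine ⟨⟨m, hm⟩, TwoFusion.PResidual.mem_pResidual_of_coprime p ?_, rfl⟩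
  rwa [← Subgroup.orderOf_coe]

/-- `M = O^p(M) (S ∩ M)`. -/
theorem exists_R_mul (D : CDat p S T Q E) {m : G} (hm : m ∈ D.M) :
    ∃ r ∈ D.R, ∃ s ∈ S ⊓ D.M, m = r * s := by
  obtain ⟨P, hP⟩ := D.sylM.exists_sylow
  obtain ⟨r, hr, s, hs, hrs⟩ := exists_residual_mul P (⟨m, hm⟩ : D.M)
  rw [hP, Subgroup.mem_subgroupOf] at hs
  exact ⟨r, ⟨r, hr, rfl⟩, s, hs, congrArg Subtype.val hrs⟩

/-- `S ∩ O^p(M) ≤ T`, by the focal subgroup theorem. -/
theorem R_inf_S (D : CDat p S T Q E) {x : G} (hxR : x ∈ D.R) (hxS : x ∈ S) : x ∈ T := by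
  obtain ⟨P, hP⟩ := D.sylM.exists_sylow
  obtain ⟨y, hy, rfl⟩ := hxR
  have hyP : y ∈ (P : Subgroup D.M) := by
    rw [hP, Subgroup.mem_subgroupOf]
    exact ⟨hxS, y.2⟩
  have hker : pResidual p D.M ≤ (P : Subgroup D.M).transferFocal.ker := by
    refine TwoFusion.PResidual.pResidual_le p fun g hg => ?_
    have hQp : IsPGroup p (P ⧸ (P : Subgroup D.M).focalSubgroupOf) :=
      P.isPGroup'.to_quotient (P : Subgroup D.M).focalSubgroupOf
    obtain ⟨k, hk⟩ := hQp ((P : Subgroup D.M).transferFocal g)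
    have h2 := orderOf_dvd_of_pow_eq_one hk
    have h1 : orderOf ((P : Subgroup D.M).transferFocal g) ∣ orderOf g := orderOf_map_dvd _ g
    have h3 := Nat.eq_one_of_dvd_coprimes (Nat.Coprime.pow_right k hg) h1 h2
    exact orderOf_eq_one_iff.1 h3
  have h1 : y ∈ (P : Subgroup D.M).transferFocal.ker ⊓ (P : Subgroup D.M) := ⟨hker hy, hyP⟩
  rw [Subgroup.ker_transferFocal_inf_eq_focalSubgroup P] at h1
  have h2 : (P : Subgroup D.M).focalSubgroup ≤ T.subgroupOf D.M := by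
    rw [Subgroup.focalSubgroup_def, Subgroup.closure_le]
    rintro g ⟨hg, x, hx, u, rfl⟩
    have hx' : (x : G) ∈ S ⊓ D.M := by
      have h3 : x ∈ (P : Subgroup D.M) := hx
      rw [hP, Subgroup.mem_subgroupOf] at h3
      exact h3
    have hg' : (x : G) * u * (x : G)⁻¹ * (u : G)⁻¹ ∈ S := by
      have h3 : ⁅x, u⁆ ∈ (P : Subgroup D.M) := hg
      rw [hP, Subgroup.mem_subgroupOf] at h3
      exact h3.1
    have h3 : (u : G) * x * (u : G)⁻¹ ∈ S := by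
      have h4 : (u : G) * x * (u : G)⁻¹ = ((x : G) * u * (x : G)⁻¹ * (u : G)⁻¹)⁻¹ * x := by group
      rw [h4]
      exact S.mul_mem (S.inv_mem hg') hx'.1
    have h5 := D.comm_mem_T hx' u.2 h3
    show (x : G) * u * (x : G)⁻¹ * (u : G)⁻¹ ∈ T
    have h6 : (x : G) * u * (x : G)⁻¹ * (u : G)⁻¹ = x * (u * x * (u : G)⁻¹)⁻¹ := by group
    rw [h6]
    exact h5
  exact h2 h1

/-- The normal subgroup `H = O^p(M) T`. -/
def H (D : CDat p S T Q E) : Subgroup G := D.R ⊔ T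

theorem T_le_H (D : CDat p S T Q E) : T ≤ D.H := le_sup_right

theorem R_le_H (D : CDat p S T Q E) : D.R ≤ D.H := le_sup_left

theorem H_le_M (D : CDat p S T Q E) : D.H ≤ D.M := sup_le D.R_le_M D.T_le_M

theorem mem_H (D : CDat p S T Q E) {x : G} : x ∈ D.H ↔ ∃ r ∈ D.R, ∃ t ∈ T, r * t = x := by
  have := D.R_normal
  exact Subgroup.mem_sup_of_normal_left

theorem H_inf_S (D : CDat p S T Q E) : S ⊓ D.H = T := by
  apply le_antisymm
  · rintro x ⟨hxS, hxH⟩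
    obtain ⟨r, hr, t, ht, rfl⟩ := D.mem_H.1 hxH
    have h1 : r ∈ S := by
      have h2 : r = r * t * t⁻¹ := by group
      rw [h2]
      exact S.mul_mem hxS (S.inv_mem (D.le ht))
    exact T.mul_mem (D.R_inf_S hr h1) ht
  · exact le_inf D.le D.T_le_H

theorem H_normal (D : CDat p S T Q E) : D.H.Normal := by
  have hRn := D.R_normal
  have hMn := D.M_normal
  have key : ∀ (g t : G), t ∈ T → g * t * g⁻¹ ∈ D.H := by
    intro g t ht
    -- an element `m ∈ M` with `m g` normalizing `S ∩ M`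
    obtain ⟨m, hm, h1⟩ := D.sylM.exists_conj (B := (S ⊓ D.M).map (MulAut.conj g).toMonoidHom)
      (by
        rintro _ ⟨x, hx, rfl⟩
        exact hMn.conj_mem x hx.2 g) ((D.syl.isPGroup.to_le inf_le_left).map _)
    have h2 := h1 (g * t * g⁻¹) ⟨t, ⟨D.le ht, D.T_le_M ht⟩, rfl⟩
    have h3 : m * (g * t * g⁻¹) * m⁻¹ = (m * g) * t * (m * g)⁻¹ := by group
    have h4 : (m * g) * t * (m * g)⁻¹ ∈ T := by
      rw [h3] at h2
      exact D.closed _ t ht h2.1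
    obtain ⟨r, hr, s, hs, hrs⟩ := D.exists_R_mul (D.M.inv_mem hm)
    have h5 : g * t * g⁻¹ = r * (s * ((m * g) * t * (m * g)⁻¹) * s⁻¹) * r⁻¹ := by
      have h6 : r * (s * ((m * g) * t * (m * g)⁻¹) * s⁻¹) * r⁻¹ =
        (r * s) * ((m * g) * t * (m * g)⁻¹) * (r * s)⁻¹ := by group
      rw [h6, ← hrs]
      group
    rw [h5]
    have h6 := D.T_conj hs.1 h4
    exact D.H.mul_mem (D.H.mul_mem (D.R_le_H hr) (D.T_le_H h6)) (D.H.inv_mem (D.R_le_H hr))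
  refine ⟨fun x hx g => ?_⟩
  obtain ⟨r, hr, t, ht, rfl⟩ := D.mem_H.1 hx
  have h1 : g * (r * t) * g⁻¹ = (g * r * g⁻¹) * (g * t * g⁻¹) := by group
  rw [h1]
  exact D.H.mul_mem (D.R_le_H (hRn.conj_mem r hr g)) (key g t ht)

theorem sylH (D : CDat p S T Q E) : H802.SylIn p T D.H := by
  have h1 := D.syl.inf_normal (M := D.H) le_top fun g _ m hm => D.H_normal.conj_mem m hm g
  rwa [D.H_inf_S] at h1

/-- `H` induces on `Q ∩ T` all that `M` induces. -/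
theorem exists_H (D : CDat p S T Q E) {m : G} (hm : m ∈ D.M) :
    ∃ h ∈ D.H, h⁻¹ * m ∈ D.M ∧ h⁻¹ * m ∈ Q ∧ ∀ z ∈ Q ⊓ T, h * z * h⁻¹ = m * z * m⁻¹ := by
  obtain ⟨r, hr, s, hs, rfl⟩ := D.exists_R_mul hm
  obtain ⟨t, ht, h1, h2, h3⟩ := D.exists_decomp hs
  refine ⟨r * t, D.mem_H.2 ⟨r, hr, t, ht, rfl⟩, ?_, ?_, fun z hz => ?_⟩
  · have h4 : (r * t)⁻¹ * (r * s) = t⁻¹ * s := by group
    rw [h4]; exact h1
  · have h4 : (r * t)⁻¹ * (r * s) = t⁻¹ * s := by group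
    rw [h4]; exact h2
  · have h4 := h3 z hz
    calc r * t * z * (r * t)⁻¹ = r * t * ((t⁻¹ * s) * z * (t⁻¹ * s)⁻¹) * (r * t)⁻¹ := by rw [h4]
      _ = r * s * z * (r * s)⁻¹ := by group

theorem H_centralizes (D : CDat p S T Q E) {x : G} (hx : x ∈ D.H)
    (h : ∀ z ∈ Q ⊓ T, x * z * x⁻¹ = z) : x ∈ Q ⊓ T := by
  have h1 := D.mem_Q_of_M (D.H_le_M hx) h
  have h2 : x ∈ S ⊓ D.H := ⟨D.QS h1, hx⟩
  rw [D.H_inf_S] at h2
  exact ⟨h1, h2⟩

end CDat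

end Cfsg.Agent.H752
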