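import Cfsg.Agent.H752.ConstrC

/-!
# Normal subsystems of the fusion system of a group with `C_G(O_p(G)) ≤ O_p(G)`: last part (helper752)

`E = F_T(H)` and the uniqueness of `H`.
-/

set_option autoImplicit false
set_option linter.unusedSectionVars false

namespace Cfsg.Agent.H752

open Cfsg Cfsg.FusionSystem

namespace CDat

variable {G : Type*} [Group G] [Finite G] {p : ℕ} [Fact p.Prime] {S T Q : Subgroup G}
  {E : FusionSystem T}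

/-- An automorphism, in the fusion system of `G`, of `P` with `Q ∩ T ≤ P ≤ T`, centralizing `Q ∩ T`, has `p`-power
order. -/
theorem pow_eq_one_of_centralizes (D : CDat p S T Q E) {P : Subgroup G} (hP : P ≤ T)
    (hQP : Q ⊓ T ≤ P) {χ : MulAut P} (h : ∀ (z : G) (hz : z ∈ Q ⊓ T), ((χ ⟨z, hQP hz⟩ : P) : G) = z) :
    ∃ k : ℕ, χ ^ p ^ k = 1 := by
  obtain ⟨m, hm⟩ := IsPGroup.iff_card.1 D.pgroup
  have hexp : ∀ q ∈ Q, q ^ p ^ m = 1 := by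
    intro q hq
    have h1 : (⟨q, hq⟩ : Q) ^ Nat.card Q = 1 := pow_card_eq_one'
    rw [hm] at h1
    exact congrArg Subtype.val h1
  refine ⟨m, MulEquiv.ext fun x => ?_⟩
  -- `y = x⁻¹ χ(x) ∈ Q ∩ T`
  have hy : (x : G)⁻¹ * ((χ x : P) : G) ∈ Q ⊓ T := by
    refine D.mem_Q0_of_centralizes (T.mul_mem (T.inv_mem (hP x.2)) (hP (χ x).2)) fun z hz => ?_
    have h1 : ((χ x : P) : G) * z * ((χ x : P) : G)⁻¹ ∈ Q ⊓ T := D.Q0_conj _ hz
    have h2 : (x : G) * z * (x : G)⁻¹ ∈ Q ⊓ T := D.Q0_conj _ hz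
    have h3 := h _ h2
    have h4 : (⟨(x : G) * z * (x : G)⁻¹, hQP h2⟩ : P) = x * ⟨z, hQP hz⟩ * x⁻¹ := Subtype.ext rfl
    rw [h4, map_mul, map_mul, map_inv] at h3
    have h5 : ((χ x : P) : G) * z * ((χ x : P) : G)⁻¹ = (x : G) * z * (x : G)⁻¹ := by
      have h6 : (((χ x * χ ⟨z, hQP hz⟩ * (χ x)⁻¹ : P)) : G) =
        ((χ x : P) : G) * ((χ ⟨z, hQP hz⟩ : P) : G) * ((χ x : P) : G)⁻¹ := rfl
      rw [h6, h z hz] at h3
      exact h3
    calc (x : G)⁻¹ * ((χ x : P) : G) * z * ((x : G)⁻¹ * ((χ x : P) : G))⁻¹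
        = (x : G)⁻¹ * (((χ x : P) : G) * z * ((χ x : P) : G)⁻¹) * x := by group
      _ = (x : G)⁻¹ * ((x : G) * z * (x : G)⁻¹) * x := by rw [h5]
      _ = z := by group
  set y : P := x⁻¹ * χ x with hyd
  have hyv : (y : G) = (x : G)⁻¹ * ((χ x : P) : G) := rfl
  rw [← hyv] at hy
  have hχy : χ y = y := Subtype.ext (h _ hy)
  have hχx : χ x = x * y := by rw [hyd]; group
  have hpow : ∀ n : ℕ, (χ ^ n) x = x * y ^ n := by
    intro n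
    induction n with
    | zero => simp
    | succ n ih =>
      rw [pow_succ', MulAut.mul_apply, ih, map_mul, hχx, map_pow, hχy, mul_assoc, pow_succ']
  rw [hpow]
  have h7 : y ^ p ^ m = 1 := Subtype.ext (hexp _ hy.1)
  rw [h7, mul_one]
  rfl

/-- An automorphism in `E` of `P` with `Q ∩ T ≤ P ≤ T` of order prime to `p` is induced by an element of `H`. -/
theorem exists_H_of_coprime (D : CDat p S T Q E) {P : Subgroup G} (hP : P ≤ T)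
    (hQP : Q ⊓ T ≤ P) {α : MulAut P} (hα : α ∈ E.autGroup P) (hc : Nat.Coprime (orderOf α) p) :
    ∃ h ∈ D.H, Ind h α := by
  have hHn := D.H_normal
  have hα' := (mp_iff_autGroup hP α).1 hα
  obtain ⟨m, hm, hmα⟩ := D.mp_Q0_iff.1 (hα'.res hQP)
  obtain ⟨h, hh, -, -, hhm⟩ := D.exists_H hm
  have hhα : ∀ (z : G) (hz : z ∈ Q ⊓ T), h * z * h⁻¹ = ((α ⟨z, hQP hz⟩ : P) : G) := by
    intro z hz
    rw [hhm z hz, ← hmα z hz, ex_apply _ (hQP hz)]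
  -- `h` normalizes `P`
  have hhP : ∀ x ∈ P, h * x * h⁻¹ ∈ P := by
    intro x hx
    have h1 : h * x * h⁻¹ * ((α ⟨x, hx⟩ : P) : G)⁻¹ ∈ Q ⊓ T := by
      refine D.H_centralizes (D.H.mul_mem (hHn.conj_mem x (D.T_le_H (hP hx)) h)
        (D.H.inv_mem (D.T_le_H (hP (α _).2)))) fun z hz => ?_
      -- `z = α(w)`
      have hw : ((α⁻¹ ⟨z, hQP hz⟩ : P) : G) ∈ Q ⊓ T := by
        have h2 := mp_mem_of_stronglyClosed D.Q0_stronglyClosed
          ((mp_iff_autGroup hP α⁻¹).1 (inv_mem hα)) (hQP hz) hz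
        rwa [ex_apply _ (hQP hz)] at h2
      set w := ((α⁻¹ ⟨z, hQP hz⟩ : P) : G) with hwd
      have hαw : ((α ⟨w, hQP hw⟩ : P) : G) = z := by
        show ((α (α⁻¹ ⟨z, hQP hz⟩) : P) : G) = z
        rw [MulAut.apply_inv_self]
      have h3 : h * w * h⁻¹ = z := (hhα w hw).trans hαw
      -- `α(x)⁻¹ z α(x) = α(x⁻¹ w x)`
      have hxw : x⁻¹ * w * x ∈ Q ⊓ T := D.Q0_conj' x hw
      have h4 : ((α ⟨x, hx⟩ : P) : G)⁻¹ * z * ((α ⟨x, hx⟩ : P) : G) = h * (x⁻¹ * w * x) * h⁻¹ := by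
        rw [hhα _ hxw]
        have h5 : (⟨x⁻¹ * w * x, hQP hxw⟩ : P) = (⟨x, hx⟩ : P)⁻¹ * ⟨w, hQP hw⟩ * ⟨x, hx⟩ :=
          Subtype.ext rfl
        rw [h5, map_mul, map_mul, map_inv]
        show _ = ((α ⟨x, hx⟩ : P) : G)⁻¹ * ((α ⟨w, hQP hw⟩ : P) : G) * ((α ⟨x, hx⟩ : P) : G)
        rw [hαw]
      calc h * x * h⁻¹ * ((α ⟨x, hx⟩ : P) : G)⁻¹ * z * (h * x * h⁻¹ * ((α ⟨x, hx⟩ : P) : G)⁻¹)⁻¹
          = h * x * h⁻¹ * (((α ⟨x, hx⟩ : P) : G)⁻¹ * z * ((α ⟨x, hx⟩ : P) : G)) *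
            (h * x * h⁻¹)⁻¹ := by group
        _ = h * x * h⁻¹ * (h * (x⁻¹ * w * x) * h⁻¹) * (h * x * h⁻¹)⁻¹ := by rw [h4]
        _ = h * w * h⁻¹ := by group
        _ = z := h3
    have h2 : h * x * h⁻¹ = (h * x * h⁻¹ * ((α ⟨x, hx⟩ : P) : G)⁻¹) * ((α ⟨x, hx⟩ : P) : G) := by
      group
    rw [h2]
    exact P.mul_mem (hQP h1) (α _).2
  have hhN : h ∈ Subgroup.normalizer (P : Set G) :=
    H802.mem_normalizer_of_conj_mem (H := ⊤) le_top hhP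
  obtain ⟨κ, hκ⟩ := H802.exists_conjAut hhN
  -- `χ = κ⁻¹ α` centralizes `Q ∩ T`
  obtain ⟨k, hk⟩ := D.pow_eq_one_of_centralizes hP hQP (χ := κ⁻¹ * α) fun z hz => by
    have h1 : α ⟨z, hQP hz⟩ = κ ⟨z, hQP hz⟩ := Subtype.ext (by
      rw [hκ, ← hhα z hz])
    rw [MulAut.mul_apply, h1, MulAut.inv_apply_self]
  -- the group of automorphisms induced by `G`
  let A : Subgroup (MulAut P) := autInducedBy ⊤ P
  obtain ⟨g, hg⟩ := D.exists_ind_of_aut hP hα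
  have hαA : α ∈ A := (H802.mem_autInducedBy_iff _ _ _).2 ⟨g, trivial, fun x => hg x x.2⟩
  have hκA : κ ∈ A := (H802.mem_autInducedBy_iff _ _ _).2 ⟨h, trivial, hκ⟩
  let B : Subgroup A := (autInducedBy D.H P).subgroupOf A
  have hBn : B.Normal := by
    refine ⟨?_⟩
    rintro ⟨b, hb⟩ hbB ⟨a, ha⟩
    obtain ⟨x, hx, hxb⟩ := (H802.mem_autInducedBy_iff _ _ _).1 hbB
    obtain ⟨y, -, hya⟩ := (H802.mem_autInducedBy_iff _ _ _).1 ha
    have h1 : Ind (y * x * y⁻¹) (a * b * a⁻¹) := by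
      have ha' : Ind y a := fun z hz => hya ⟨z, hz⟩
      exact (ha'.mul (fun z hz => hxb ⟨z, hz⟩)).mul ha'.inv
    exact (H802.mem_autInducedBy_iff _ _ _).2 ⟨_, hHn.conj_mem x hx y, fun z => h1 z z.2⟩
  have hκB : (⟨κ, hκA⟩ : A) ∈ B := (H802.mem_autInducedBy_iff _ _ _).2 ⟨h, hh, hκ⟩
  -- in `A / B`
  let π := QuotientGroup.mk' B
  have h1 : π (⟨κ, hκA⟩⁻¹ * ⟨α, hαA⟩) = π ⟨α, hαA⟩ := by
    rw [map_mul, map_inv]
    have h2 : π ⟨κ, hκA⟩ = 1 := (QuotientGroup.eq_one_iff _).2 hκB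
    rw [h2, inv_one, one_mul]
  have h2 : (π ⟨α, hαA⟩) ^ p ^ k = 1 := by
    rw [← h1, ← map_pow]
    have h3 : ((⟨κ, hκA⟩ : A)⁻¹ * ⟨α, hαA⟩) ^ p ^ k = 1 := Subtype.ext hk
    rw [h3, map_one]
  have h3 : (π ⟨α, hαA⟩) ^ orderOf α = 1 := by
    rw [← map_pow]
    have h4 : (⟨α, hαA⟩ : A) ^ orderOf α = 1 := Subtype.ext (pow_orderOf_eq_one α)
    rw [h4, map_one]
  have h4 : orderOf (π ⟨α, hαA⟩) = 1 :=
    Nat.eq_one_of_dvd_coprimes (Nat.Coprime.pow_right k hc) (orderOf_dvd_of_pow_eq_one h3)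
      (orderOf_dvd_of_pow_eq_one h2)
  rw [orderOf_eq_one_iff] at h4
  have h5 : (⟨α, hαA⟩ : A) ∈ B := (QuotientGroup.eq_one_iff _).1 h4
  obtain ⟨y, hy, hyα⟩ := (H802.mem_autInducedBy_iff _ _ _).1 h5
  exact ⟨y, hy, fun x hx => hyα ⟨x, hx⟩⟩

/-- Every map of `E` is induced by an element of `H`. -/
theorem exists_H_of_mp (D : CDat p S T Q E) (P : Subgroup G) (f : G → G) (hf : Mp E P f) :
    ∃ h ∈ D.H, ∀ x ∈ P, f x = h * x * h⁻¹ := by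
  revert P f
  refine mp_generation E D.isPGroupT D.sat
    (fun P f => ∃ h ∈ D.H, ∀ x ∈ P, f x = h * x * h⁻¹) ?_ ?_ ?_ ?_ ?_ ?_
  · rintro P f g _ ⟨h, hh, h1⟩ he
    exact ⟨h, hh, fun x hx => (he x hx).trans (h1 x hx)⟩
  · rintro P R f _ ⟨h, hh, h1⟩ hR
    exact ⟨h, hh, fun x hx => h1 x (hR hx)⟩
  · rintro P R f g _ _ ⟨h, hh, h1⟩ ⟨k, hk, h2⟩ hPR
    refine ⟨k * h, D.H.mul_mem hk hh, fun x hx => ?_⟩
    show g (f x) = _
    rw [h2 _ (hPR x hx), h1 x hx]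
    group
  · rintro P R f g _ ⟨h, hh, h1⟩ _ hinv
    refine ⟨h⁻¹, D.H.inv_mem hh, fun y hy => ?_⟩
    obtain ⟨x, hx, hxy, hgy⟩ := hinv y hy
    rw [hgy, ← hxy, h1 x hx]
    group
  · intro P _ s hs
    exact ⟨s, D.T_le_H hs, fun x _ => rfl⟩
  · intro R hRa _ α hα hc f hf
    have hRT : R ≤ T := hRa.1
    -- extend to `R (Q ∩ T)`
    obtain ⟨-, hnorm⟩ := D.Q0_isNormal
    obtain ⟨ψ, hψ, h1, h2⟩ := hnorm R _ ((H802.mem_autGroup_iff E hRT α).1 hα)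
    have hle : R ⊔ (Q ⊓ T) ≤ T := sup_le hRT inf_le_right
    have hψm := mp_ex hψ
    have hψR : ∀ (x : G) (hx : x ∈ R), ex ψ x = ((α ⟨x, hx⟩ : R) : G) := by
      intro x hx
      rw [ex_apply _ ((le_sup_left : R ≤ R ⊔ (Q ⊓ T)) hx)]
      exact h1 ⟨x, hx⟩
    obtain ⟨β, hβ, hβe⟩ := hψm.exists_aut (hψm.mem_sup
      (fun x hx => by rw [hψR x hx]; exact (le_sup_left : R ≤ R ⊔ (Q ⊓ T)) (α _).2)
      (fun x hx => (le_sup_right : Q ⊓ T ≤ R ⊔ (Q ⊓ T))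
        (mp_mem_of_stronglyClosed D.Q0_stronglyClosed hψm
          ((le_sup_right : Q ⊓ T ≤ R ⊔ (Q ⊓ T)) hx) hx)))
    have hr : Restr (le_sup_left : R ≤ R ⊔ (Q ⊓ T)) α β := by
      intro x hx
      rw [← hβe x ((le_sup_left : R ≤ R ⊔ (Q ⊓ T)) hx), hψR x hx]
    obtain ⟨j, hr', hcj⟩ := hr.exists_coprime hc
    obtain ⟨h, hh, hhi⟩ := D.exists_H_of_coprime hle le_sup_right (Subgroup.zpow_mem _ hβ j) hcj
    refine ⟨h, hh, fun x hx => ?_⟩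
    rw [hf x hx, ← hr' x hx]
    exact hhi x ((le_sup_left : R ≤ R ⊔ (Q ⊓ T)) hx)

/-- Conjugations by elements of `H` are maps of `E`. -/
theorem mp_of_H (D : CDat p S T Q E) {P : Subgroup G} (hP : P ≤ T) {h : G} (hh : h ∈ D.H)
    (hm : ∀ x ∈ P, h * x * h⁻¹ ∈ T) : Mp E P (fun x => h * x * h⁻¹) := by
  have hle : Q ⊓ T ≤ T := inf_le_right
  have hM := D.H_le_M hh
  obtain ⟨α, hα, hαi⟩ := exists_ind hM.2 fun x hx => D.Q0_conj h hx
  have hαm := (H802.mem_autGroup_iff E hle α).1 hα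
  have hr : ((Q ⊓ T).subtype.comp α.toMonoidHom).range = Q ⊓ T :=
    H802.range_eq_of_mapsTo hαm fun x => (α x).2
  obtain ⟨ψ, hψ, hψe⟩ := D.Q0_automized_receptive.2.2 _ _ hαm hr
  have hQe : Q ⊓ T ≤ extender T (Q ⊓ T) ((Q ⊓ T).subtype.comp α.toMonoidHom) :=
    H802.le_extender hle (H802.hom_apply_mem hαm)
  have hPe : P ≤ extender T (Q ⊓ T) ((Q ⊓ T).subtype.comp α.toMonoidHom) := by
    intro g hg
    have hgN : g ∈ Subgroup.normalizer ((Q ⊓ T : Subgroup G) : Set G) :=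
      H802.mem_normalizer_of_conj_mem (H := ⊤) le_top fun x hx => D.Q0_conj g hx
    rw [H802.mem_extender_iff]
    refine ⟨hP hg, hgN, h * g * h⁻¹, hm g hg, fun x hx => ?_⟩
    show ((α ⟨g * x * g⁻¹, hx⟩ : (Q ⊓ T : Subgroup G)) : G) =
      h * g * h⁻¹ * (α x : (Q ⊓ T : Subgroup G)) * (h * g * h⁻¹)⁻¹
    rw [hαi _ hx, hαi x x.2]
    group
  have hb : Mp E (P ⊔ (Q ⊓ T)) (ex ψ) := (mp_ex hψ).res (sup_le hPe hQe)
  obtain ⟨k, hk, hke⟩ := D.exists_H_of_mp _ _ hb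
  -- `h⁻¹ k` centralizes `Q ∩ T`
  have hz : h⁻¹ * k ∈ Q ⊓ T := by
    refine D.H_centralizes (D.H.mul_mem (D.H.inv_mem hh) hk) fun z hz => ?_
    have h1 := hke z ((le_sup_right : Q ⊓ T ≤ P ⊔ (Q ⊓ T)) hz)
    rw [ex_apply _ (hQe hz)] at h1
    have h2 : ψ ⟨z, hQe hz⟩ = h * z * h⁻¹ := (hψe z hz (hQe hz)).trans (hαi z hz)
    rw [h2] at h1
    calc h⁻¹ * k * z * (h⁻¹ * k)⁻¹ = h⁻¹ * (k * z * k⁻¹) * h := by group
      _ = h⁻¹ * (h * z * h⁻¹) * h := by rw [h1]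
      _ = z := by group
  have hPQ : P ⊔ (Q ⊓ T) ≤ T := sup_le hP hle
  have hzi : (h⁻¹ * k)⁻¹ ∈ Q ⊓ T := (Q ⊓ T).inv_mem hz
  have h3 := (mp_conj E hP hzi.2).comp hb (fun x hx => by
    refine (P ⊔ (Q ⊓ T)).mul_mem ((P ⊔ (Q ⊓ T)).mul_mem ?_ ?_) ?_
    · exact (le_sup_right : Q ⊓ T ≤ P ⊔ (Q ⊓ T)) hzi
    · exact (le_sup_left : P ≤ P ⊔ (Q ⊓ T)) hx
    · exact (P ⊔ (Q ⊓ T)).inv_mem ((le_sup_right : Q ⊓ T ≤ P ⊔ (Q ⊓ T)) hzi))
  refine h3.congr fun x hx => ?_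
  show h * x * h⁻¹ = ex ψ ((h⁻¹ * k)⁻¹ * x * (h⁻¹ * k)⁻¹⁻¹)
  rw [hke _ ((P ⊔ (Q ⊓ T)).mul_mem ((P ⊔ (Q ⊓ T)).mul_mem
    ((le_sup_right : Q ⊓ T ≤ P ⊔ (Q ⊓ T)) hzi) ((le_sup_left : P ≤ P ⊔ (Q ⊓ T)) hx))
    ((P ⊔ (Q ⊓ T)).inv_mem ((le_sup_right : Q ⊓ T ≤ P ⊔ (Q ⊓ T)) hzi)))]
  group

/-- `E` is the fusion system of `H`. -/
theorem hom_eq (D : CDat p S T Q E) (P : Subgroup G) :
    E.Hom P = (fusionSystemOfSubgroup D.H T D.T_le_H).Hom P := by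
  ext φ
  constructor
  · intro hφ
    obtain ⟨h, hh, h1⟩ := D.exists_H_of_mp P _ (mp_ex hφ)
    exact ⟨(E.le_of_mem hφ).1, (E.le_of_mem hφ).2, h, hh, fun x => by
      rw [← h1 x x.2, ex_coe]⟩
  · rintro ⟨hP, hφ, h, hh, h1⟩
    refine (D.mp_of_H hP hh fun x hx => ?_).mem_hom fun x hx => h1 ⟨x, hx⟩
    rw [← h1 ⟨x, hx⟩]
    exact hφ _

/-- Uniqueness of `H`. -/
theorem eq_H (D : CDat p S T Q E) {H' : Subgroup G} (hT : T ≤ H') (hn : H'.Normal)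
    (hsyl : H802.SylIn p T H')
    (hE : ∀ P : Subgroup G, E.Hom P = (fusionSystemOfSubgroup H' T hT).Hom P) : H' = D.H := by
  have hQn := D.normal
  have hSH : S ⊓ H' = T := by
    exact hsyl.eq_of_le inf_le_right (D.syl.isPGroup.to_le inf_le_left) (le_inf D.le hT)
  have hQH : ∀ x ∈ Q, x ∈ H' → x ∈ Q ⊓ T := by
    intro x hx hx'
    refine ⟨hx, ?_⟩
    rw [← hSH]
    exact ⟨D.QS hx, hx'⟩
  -- `H' ≤ M`
  have hM : H' ≤ D.M := by
    intro h hh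
    refine ⟨fun q hq => ?_, ?_⟩
    · refine hQH _ (mul_mem (hQn.conj_mem q hq h) (Q.inv_mem hq)) ?_
      have h1 : h * q * h⁻¹ * q⁻¹ = h * (q * h⁻¹ * q⁻¹) := by group
      rw [h1]
      exact H'.mul_mem hh (hn.conj_mem _ (H'.inv_mem hh) q)
    · have h1 : conjHom (Q ⊓ T) h ∈ E.Hom (Q ⊓ T) := by
        rw [hE]
        exact ⟨inf_le_right, fun x => (D.Q0_conj h x.2).2, h, hh, fun x => rfl⟩
      exact mp_of_mem h1 fun x hx => rfl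
  have hR : D.R ≤ H' := by
    rw [show D.R = (pResidual p D.M).map D.M.subtype from rfl, Subgroup.map_le_iff_le_comap]
    refine TwoFusion.PResidual.pResidual_le p fun m hc => ?_
    show (m : G) ∈ H'
    obtain ⟨φ, hφ, h1⟩ := m.2.2
    rw [hE] at hφ
    obtain ⟨-, -, h, hh, h2⟩ := hφ
    -- `h⁻¹ m` centralizes `Q ∩ T`
    have h3 : h⁻¹ * (m : G) ∈ Q := by
      refine D.mem_Q_of_M (D.M.mul_mem (D.M.inv_mem (hM hh)) m.2) fun z hz => ?_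
      have h4 : (m : G) * z * (m : G)⁻¹ = h * z * h⁻¹ := (h1 z hz).symm.trans (h2 ⟨z, hz⟩)
      calc h⁻¹ * (m : G) * z * (h⁻¹ * (m : G))⁻¹ = h⁻¹ * ((m : G) * z * (m : G)⁻¹) * h := by group
        _ = h⁻¹ * (h * z * h⁻¹) * h := by rw [h4]
        _ = z := by group
    let π := QuotientGroup.mk' H'
    have h4 : π (h⁻¹ * m) = π m := by
      rw [map_mul, map_inv]
      have h5 : π h = 1 := (QuotientGroup.eq_one_iff _).2 hh
      rw [h5, inv_one, one_mul]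
    obtain ⟨k, hk⟩ := D.pgroup ⟨_, h3⟩
    have hk' : (h⁻¹ * (m : G)) ^ p ^ k = 1 := congrArg Subtype.val hk
    have h5 : (π m) ^ p ^ k = 1 := by rw [← h4, ← map_pow, hk', map_one]
    have h6 : (π m) ^ orderOf m = 1 := by
      rw [← map_pow, ← Subgroup.orderOf_coe, pow_orderOf_eq_one, map_one]
    have h7 : orderOf (π m) = 1 :=
      Nat.eq_one_of_dvd_coprimes (Nat.Coprime.pow_right k hc) (orderOf_dvd_of_pow_eq_one h6)
        (orderOf_dvd_of_pow_eq_one h5)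
    rw [orderOf_eq_one_iff] at h7
    exact (QuotientGroup.eq_one_iff _).1 h7
  have hHH : D.H ≤ H' := sup_le hR hT
  apply le_antisymm ?_ hHH
  intro x hx
  obtain ⟨h, hh, -, h1, -⟩ := D.exists_H (hM hx)
  have h2 : h⁻¹ * x ∈ Q ⊓ T := hQH _ h1 (H'.mul_mem (H'.inv_mem (hHH hh)) hx)
  have h3 : x = h * (h⁻¹ * x) := by group
  rw [h3]
  exact D.H.mul_mem hh (D.T_le_H h2.2)

end CDat

/-- The data of a normal subsystem. -/
theorem cDat_of_isNormalIn {G : Type*} [Group G] [Finite G] {p : ℕ} [Fact p.Prime] (S : Sylow p G)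
    (hG : Subgroup.centralizer ((pCore p G : Subgroup G) : Set G) ≤ pCore p G) {T : Subgroup G}
    (hTS : T ≤ S) {E : FusionSystem T}
    (hE : E.IsNormalIn (groupFusionSystem (S : Subgroup G)) p) :
    CDat p (S : Subgroup G) T (pCore p G) E := by
  obtain ⟨h1, h2, h3, h4⟩ := (isNormalIn_iff hTS).1 hE
  obtain ⟨hsub, hsc, hI, hFr⟩ := isInvariantIn_iff.1 h3
  have hstr := strongInvC_of_invC hI hFr
  have hmpF : ∀ (P : Subgroup G) (f : G → G), Mp (groupFusionSystem (S : Subgroup G)) P f →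
      ∃ g : G, ∀ x ∈ P, f x = g * x * g⁻¹ := by
    rintro P f ⟨φ, ⟨-, -, g, hg⟩, h⟩
    exact ⟨g, fun x hx => by rw [← h x hx, hg]⟩
  have hmpF' : ∀ (P : Subgroup G) (g : G), P ≤ S → (∀ x ∈ P, g * x * g⁻¹ ∈ (S : Subgroup G)) →
      Mp (groupFusionSystem (S : Subgroup G)) P (fun x => g * x * g⁻¹) := by
    intro P g hP hg
    exact ⟨conjHom P g, ⟨hP, fun x => hg x x.2, g, fun x => rfl⟩, fun x hx => rfl⟩
  refine
    { syl := H802.sylIn_top_of_sylow S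
      normal := Lib.Cores.pCore_normal p
      pgroup := Lib.Cores.pCore_isPGroup p
      max := fun N hN hNp => Lib.Cores.le_pCore hN hNp
      cent := hG
      QS := Lib.Cores.pCore_le_sylow S
      le := hTS
      sat := h1
      sub := fun P f hf => hmpF P f (mp_mono hsub hf)
      closed := ?_
      inv := ?_
      ext := ?_ }
  · intro g x hx hgx
    have h5 : Mp (groupFusionSystem (S : Subgroup G)) (Subgroup.zpowers x)
        (fun x => g * x * g⁻¹) := by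
      refine hmpF' _ g ((Subgroup.zpowers_le).2 (hTS hx)) ?_
      rintro _ ⟨n, rfl⟩
      show g * x ^ n * g⁻¹ ∈ (S : Subgroup G)
      rw [← conj_zpow]
      exact Subgroup.zpow_mem _ hgx n
    exact mp_mem_of_stronglyClosed hsc h5 (Subgroup.mem_zpowers x) hx
  · intro P f g hf hfm hg
    have hPT : P ≤ T := hf.le
    have hsurj : ∀ y ∈ P, g⁻¹ * y * g ∈ P := by
      intro y hy
      have h5 := H802.mem_normalizer_of_conj_mem (H := ⊤) le_top hg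
      have h6 := (Subgroup.mem_normalizer_iff.1
        ((Subgroup.normalizer (P : Set G)).inv_mem h5) y).1 hy
      rwa [inv_inv] at h6
    refine hstr P P P f _ _ le_rfl hPT hf hfm (hmpF' P g (hPT.trans hTS)
      (fun x hx => hTS (hPT (hg x hx)))) fun y hy => ⟨g⁻¹ * y * g, hsurj y hy, ?_, rfl⟩
    group
  · intro a ha
    obtain ⟨b, hb, h5, h6⟩ := h4 a ha
    obtain ⟨g, hg⟩ := hmpF _ b hb
    refine ⟨g, fun x hx => ?_, fun c hc => ?_⟩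
    · rw [← h5 x hx, hg x ((le_sup_left : T ≤ T ⊔ centralizerIn S T) hx)]
    · rw [← hg c ((le_sup_right : centralizerIn S T ≤ T ⊔ centralizerIn S T) hc)]
      exact h6 c hc

end Cfsg.Agent.H752
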