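import Cfsg.Agent.H752.Inv
import Cfsg.Agent.TwoFusion.PResidual

/-!
# Generation of a saturated fusion system by automorphisms of order prime to `p` and by `S` (helper752)
-/

set_option autoImplicit false

namespace Cfsg.Agent.H752

open Cfsg Cfsg.FusionSystem

/-- `A = O^p(A) B` for `B` a Sylow `p`-subgroup of the finite group `A`. -/
theorem exists_residual_mul {A : Type*} [Group A] [Finite A] {p : ℕ} [Fact p.Prime]
    (B : Sylow p A) (a : A) : ∃ r ∈ pResidual p A, ∃ b ∈ (B : Subgroup A), a = r * b := by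
  have hn := TwoFusion.PResidual.pResidual_normal (G := A) p
  have hp : p.Prime := Fact.out
  have hq := TwoFusion.PResidual.isPGroup_quotient_pResidual (G := A) p
  obtain ⟨n, hn1⟩ := IsPGroup.iff_card.1 hq
  have h1 : (pResidual p A ⊔ (B : Subgroup A)).index ∣ p ^ n := by
    rw [← hn1]
    exact Subgroup.index_dvd_of_le le_sup_left
  have h2 : (pResidual p A ⊔ (B : Subgroup A)).index ∣ (B : Subgroup A).index :=
    Subgroup.index_dvd_of_le le_sup_right
  have h3 : ¬ p ∣ (B : Subgroup A).index := B.not_dvd_index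
  have h4 : (pResidual p A ⊔ (B : Subgroup A)).index = 1 := by
    obtain ⟨k, -, hk⟩ := (Nat.dvd_prime_pow hp).1 h1
    rcases Nat.eq_zero_or_pos k with h | h
    · rw [hk, h, pow_zero]
    · exfalso
      apply h3
      refine dvd_trans ?_ h2
      rw [hk]
      exact dvd_pow_self p h.ne'
  rw [Subgroup.index_eq_one] at h4
  have ha : a ∈ pResidual p A ⊔ (B : Subgroup A) := by rw [h4]; trivial
  obtain ⟨r, hr, b, hb, hrb⟩ := Subgroup.mem_sup_of_normal_left.1 ha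
  exact ⟨r, hr, b, hb, hrb.symm⟩

variable {Ω : Type*} [Group Ω] {S : Subgroup Ω}

/-! ### Restrictions of automorphisms -/

/-- The automorphism `β` of `Q` restricts to the automorphism `α` of `P`. -/
def Restr {P Q : Subgroup Ω} (hPQ : P ≤ Q) (α : MulAut P) (β : MulAut Q) : Prop :=
  ∀ (x : Ω) (hx : x ∈ P), ((β ⟨x, hPQ hx⟩ : Q) : Ω) = (α ⟨x, hx⟩ : P)

namespace Restr

variable {P Q : Subgroup Ω} {hPQ : P ≤ Q} {α α' : MulAut P} {β β' : MulAut Q}

theorem one : Restr hPQ 1 1 := fun _ _ => rfl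

theorem mul (h : Restr hPQ α β) (h' : Restr hPQ α' β') : Restr hPQ (α * α') (β * β') := by
  intro x hx
  rw [MulAut.mul_apply, MulAut.mul_apply, ← h _ (α' ⟨x, hx⟩).2]
  congr 2
  exact Subtype.ext (h' x hx)

theorem inv (h : Restr hPQ α β) : Restr hPQ α⁻¹ β⁻¹ := by
  intro x hx
  have h1 := h _ (α⁻¹ ⟨x, hx⟩).2
  have h2 : (α ⟨((α⁻¹ ⟨x, hx⟩ : P) : Ω), (α⁻¹ ⟨x, hx⟩).2⟩ : P) = ⟨x, hx⟩ := by
    show α (α⁻¹ ⟨x, hx⟩) = _
    rw [MulAut.apply_inv_self]
  rw [h2] at h1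
  have h3 : (⟨x, hPQ hx⟩ : Q) = β ⟨((α⁻¹ ⟨x, hx⟩ : P) : Ω), hPQ (α⁻¹ ⟨x, hx⟩).2⟩ :=
    Subtype.ext h1.symm
  rw [h3, MulAut.inv_apply_self]

theorem pow (h : Restr hPQ α β) (n : ℕ) : Restr hPQ (α ^ n) (β ^ n) := by
  induction n with
  | zero => rw [pow_zero, pow_zero]; exact one
  | succ n ih => rw [pow_succ, pow_succ]; exact ih.mul h

theorem zpow (h : Restr hPQ α β) (n : ℤ) : Restr hPQ (α ^ n) (β ^ n) := by
  cases n with
  | ofNat n => rw [Int.ofNat_eq_natCast, zpow_natCast, zpow_natCast]; exact h.pow n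
  | negSucc n => rw [zpow_negSucc, zpow_negSucc]; exact (h.pow _).inv

theorem unique (h : Restr hPQ α β) (h' : Restr hPQ α' β) : α = α' := by
  apply MulEquiv.ext
  intro x
  exact Subtype.ext ((h x x.2).symm.trans (h' x x.2))

theorem orderOf_dvd (h : Restr hPQ α β) : orderOf α ∣ orderOf β := by
  apply orderOf_dvd_of_pow_eq_one
  have h1 := h.pow (orderOf β)
  rw [pow_orderOf_eq_one] at h1
  exact h1.unique one

/-- Lifting of an automorphism of order prime to `p`. -/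
theorem exists_coprime [Finite Q] {p : ℕ} [Fact p.Prime] (h : Restr hPQ α β)
    (hα : Nat.Coprime (orderOf α) p) :
    ∃ j : ℤ, Restr hPQ α (β ^ j) ∧ Nat.Coprime (orderOf (β ^ j)) p := by
  obtain ⟨a, b, hab, ⟨k, hk⟩, hb⟩ := TwoFusion.PResidual.exists_pPart_mul_pPrimePart p β
  refine ⟨b, ?_, hb⟩
  have h1 := h.zpow a
  have h2 := h.zpow b
  have h3 : α = α ^ a * α ^ b := by
    have h4 := h1.mul h2
    rw [← hab] at h4
    exact h.unique h4
  have h5 : α ^ a = 1 := by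
    rw [← orderOf_eq_one_iff]
    have h6 : orderOf (α ^ a) ∣ p ^ k := hk ▸ h1.orderOf_dvd
    have h7 : orderOf (α ^ a) ∣ orderOf α := orderOf_dvd_of_mem_zpowers ⟨a, rfl⟩
    exact Nat.eq_one_of_dvd_coprimes (Nat.Coprime.pow_right k hα) h7 h6
  rw [h5, one_mul] at h3
  rw [← h3] at h2
  exact h2

end Restr

variable {F : FusionSystem S}

/-- The restriction of an automorphism in the system to a subgroup that it leaves invariant. -/
theorem exists_restr {P Q : Subgroup Ω} [Finite P] (hPQ : P ≤ Q) (hQS : Q ≤ S) {β : MulAut Q}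
    (hβ : β ∈ F.autGroup Q) (hm : ∀ (x : Ω) (hx : x ∈ P), ((β ⟨x, hPQ hx⟩ : Q) : Ω) ∈ P) :
    ∃ α ∈ F.autGroup P, Restr hPQ α β := by
  have h1 := ((mp_iff_autGroup hQS β).1 hβ).res hPQ
  obtain ⟨α, hα, h2⟩ := h1.exists_aut fun x hx => by
    rw [ex_apply _ (hPQ hx)]
    exact hm x hx
  refine ⟨α, hα, fun x hx => ?_⟩
  rw [← h2 x hx, ex_apply _ (hPQ hx)]

/-- An element of `O^p(Aut_F(P))`, from an element of `Aut_F(P)` of order prime to `p`. -/
theorem mem_residual {P : Subgroup Ω} {p : ℕ} {α : MulAut P} (hα : α ∈ F.autGroup P)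
    (hc : Nat.Coprime (orderOf α) p) : (⟨α, hα⟩ : F.autGroup P) ∈ pResidual p (F.autGroup P) := by
  apply TwoFusion.PResidual.mem_pResidual_of_coprime
  rwa [← Subgroup.orderOf_coe]

theorem mem_hyperfocal {P : Subgroup Ω} {p : ℕ} (hP : P ≤ S) {α : MulAut P} (hα : α ∈ F.autGroup P)
    (hc : Nat.Coprime (orderOf α) p) (x : P) :
    (x : Ω)⁻¹ * ((α x : P) : Ω) ∈ F.hyperfocalSubgroup p :=
  Subgroup.subset_closure ⟨P, ⟨α, hα⟩, x, hP, mem_residual hα hc, rfl⟩

/-- **Generation principle**: a property of maps closed under restriction, composition and inverse that holds for the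
conjugations by elements of `S` and for the automorphisms (in the system) of order prime to `p` of fully automized and
receptive subgroups holds for all maps of a saturated system. -/
theorem mp_generation (F : FusionSystem S) [Finite S] {p : ℕ} [Fact p.Prime] (hS : IsPGroup p S)
    (hF : F.IsSaturated p) (M : Subgroup Ω → (Ω → Ω) → Prop)
    (h_congr : ∀ (P : Subgroup Ω) (f g : Ω → Ω), Mp F P f → M P f → (∀ x ∈ P, g x = f x) → M P g)
    (h_res : ∀ (P R : Subgroup Ω) (f : Ω → Ω), Mp F P f → M P f → R ≤ P → M R f)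
    (h_comp : ∀ (P Q : Subgroup Ω) (f g : Ω → Ω), Mp F P f → Mp F Q g → M P f → M Q g →
      (∀ x ∈ P, f x ∈ Q) → M P (fun x => g (f x)))
    (h_inv : ∀ (P R : Subgroup Ω) (f g : Ω → Ω), Mp F P f → M P f → Mp F R g →
      (∀ y ∈ R, ∃ x ∈ P, f x = y ∧ g y = x) → M R g)
    (h_conj : ∀ P : Subgroup Ω, P ≤ S → ∀ s ∈ S, M P (fun x => s * x * s⁻¹))
    (h_prime : ∀ Q : Subgroup Ω, F.IsFullyAutomized p Q → F.IsReceptive Q →
      ∀ α ∈ F.autGroup Q, Nat.Coprime (orderOf α) p →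
      ∀ f : Ω → Ω, (∀ (x : Ω) (hx : x ∈ Q), f x = (α ⟨x, hx⟩ : Q)) → M Q f) :
    ∀ (P : Subgroup Ω) (f : Ω → Ω), Mp F P f → M P f := by
  refine mp_induction F hS hF M h_congr h_res h_comp h_inv fun Q hQa hQr _ α hα f hf => ?_
  have hQS : Q ≤ S := hQa.1
  have hfQ : Finite Q := H802.finite_of_le hQS
  -- automorphisms in `M` form a subgroup
  have hmp : ∀ β ∈ F.autGroup Q, Mp F Q (ex fun x => ((β x : Q) : Ω)) := fun β hβ =>
    (mp_iff_autGroup hQS β).1 hβ
  have hmul : ∀ β ∈ F.autGroup Q, ∀ γ ∈ F.autGroup Q, M Q (ex fun x => ((β x : Q) : Ω)) →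
      M Q (ex fun x => ((γ x : Q) : Ω)) → M Q (ex fun x => (((β * γ) x : Q) : Ω)) := by
    intro β hβ γ hγ h1 h2
    have h3 : ∀ x ∈ Q, ex (fun x => ((γ x : Q) : Ω)) x ∈ Q := fun x hx => by
      rw [ex_apply _ hx]
      exact (γ _).2
    refine h_congr Q _ _ ((hmp γ hγ).comp (hmp β hβ) h3)
      (h_comp Q Q _ _ (hmp γ hγ) (hmp β hβ) h2 h1 h3) fun x hx => ?_
    rw [ex_apply _ hx, ex_apply (fun x => ((γ x : Q) : Ω)) hx, ex_apply _ (γ ⟨x, hx⟩).2]
    rfl
  have hinv : ∀ β ∈ F.autGroup Q, M Q (ex fun x => ((β x : Q) : Ω)) →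
      M Q (ex fun x => ((β⁻¹ x : Q) : Ω)) := by
    intro β hβ h1
    refine h_inv Q Q _ _ (hmp β hβ) h1 (hmp β⁻¹ (inv_mem hβ)) fun y hy => ?_
    refine ⟨((β⁻¹ ⟨y, hy⟩ : Q) : Ω), (β⁻¹ ⟨y, hy⟩).2, ?_, ex_apply _ hy⟩
    rw [ex_apply _ (β⁻¹ ⟨y, hy⟩).2]
    show ((β (β⁻¹ ⟨y, hy⟩) : Q) : Ω) = y
    rw [MulAut.apply_inv_self]
  have hres : ∀ β : F.autGroup Q, β ∈ pResidual p (F.autGroup Q) →
      M Q (ex fun x => (((β : MulAut Q) x : Q) : Ω)) := by
    intro β hβ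
    refine Subgroup.closure_induction (p := fun (β : F.autGroup Q) _ =>
      M Q (ex fun x => (((β : MulAut Q) x : Q) : Ω))) ?_ ?_ ?_ ?_ hβ
    · intro γ hγ
      have hγ' : Nat.Coprime (orderOf (γ : MulAut Q)) p := by
        rw [Subgroup.orderOf_coe]
        exact hγ
      exact h_prime Q hQa hQr γ γ.2 hγ' _ fun x hx => ex_apply _ hx
    · refine h_congr Q _ _ (mp_conj F hQS (one_mem S)) (h_conj Q hQS 1 (one_mem S)) fun x hx => ?_
      rw [ex_apply _ hx]
      simp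
    · intro β γ _ _ h1 h2
      exact hmul β β.2 γ γ.2 h1 h2
    · intro β _ h1
      exact hinv β β.2 h1
  obtain ⟨B, hB⟩ := hQa.2
  have hfA : Finite (F.autGroup Q) := inferInstance
  obtain ⟨r, hr, b, hb, hrb⟩ := exists_residual_mul B ⟨α, hα⟩
  rw [hB, Subgroup.mem_subgroupOf, H802.mem_autInducedBy_iff] at hb
  obtain ⟨s, hs, hsb⟩ := hb
  have hMb : M Q (ex fun x => (((b : MulAut Q) x : Q) : Ω)) := by
    refine h_congr Q _ _ (mp_conj F hQS hs) (h_conj Q hQS s hs) fun x hx => ?_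
    rw [ex_apply _ hx, hsb]
  have hM := hmul r r.2 b b.2 (hres r hr) hMb
  refine h_congr Q _ _ (hmp _ (mul_mem r.2 b.2)) hM fun x hx => ?_
  rw [ex_apply _ hx, hf x hx]
  have h1 : α = (r : MulAut Q) * b := congrArg Subtype.val hrb
  rw [h1]

end Cfsg.Agent.H752
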