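import Cfsg.Agent.H752.Mp

/-!
# Invariant subsystems (helper752)

The invariance and the Frattini condition in terms of `Mp`, strong invariance, and the equivalence (for a saturated
system) of invariance and strong invariance.
-/

set_option autoImplicit false

namespace Cfsg.Agent.H752

open Cfsg Cfsg.FusionSystem

variable {Ω : Type*} [Group Ω] {S T : Subgroup Ω}

/-- Invariance of `E` under the automorphisms of `T` in `F`. -/
def InvC (E : FusionSystem T) (F : FusionSystem S) : Prop :=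
  ∀ (P R : Subgroup Ω) (f a h : Ω → Ω), Mp E P f → Mp F T a →
    (∀ y ∈ R, ∃ x ∈ P, a x = y ∧ h y = a (f x)) → Mp E R h

/-- `f` on `P` is a map of `E` followed by an automorphism of `T` in `F`. -/
def FratC (E : FusionSystem T) (F : FusionSystem S) (P : Subgroup Ω) (f : Ω → Ω) : Prop :=
  ∃ a, Mp F T a ∧ ∃ f₀, Mp E P f₀ ∧ ∀ x ∈ P, f x = a (f₀ x)

/-- Strong invariance. -/
def StrongInvC (E : FusionSystem T) (F : FusionSystem S) : Prop :=
  ∀ (P Q R : Subgroup Ω) (f g h : Ω → Ω), P ≤ Q → Q ≤ T → Mp E P f → (∀ x ∈ P, f x ∈ Q) →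
    Mp F Q g → (∀ y ∈ R, ∃ x ∈ P, g x = y ∧ h y = g (f x)) → Mp E R h

variable {E : FusionSystem T} {F : FusionSystem S}

theorem FratC.res {P R : Subgroup Ω} {f : Ω → Ω} (h : FratC E F P f) (hR : R ≤ P) :
    FratC E F R f := by
  obtain ⟨a, ha, f₀, hf₀, h1⟩ := h
  exact ⟨a, ha, f₀, hf₀.res hR, fun x hx => h1 x (hR hx)⟩

theorem FratC.congr {P : Subgroup Ω} {f g : Ω → Ω} (h : FratC E F P f) (he : ∀ x ∈ P, g x = f x) :
    FratC E F P g := by
  obtain ⟨a, ha, f₀, hf₀, h1⟩ := h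
  exact ⟨a, ha, f₀, hf₀, fun x hx => (he x hx).trans (h1 x hx)⟩

theorem FratC.of_mp {P : Subgroup Ω} {f : Ω → Ω} (hTS : T ≤ S) (h : Mp E P f) : FratC E F P f :=
  ⟨fun x => x, mp_id F hTS, f, h, fun _ _ => rfl⟩

/-- The inverse of an automorphism of `T`. -/
theorem exists_aut_inv [Finite T] (hT : F.StronglyClosed T) {a : Ω → Ω} (ha : Mp F T a) :
    ∃ b : Ω → Ω, Mp F T b ∧ (∀ x ∈ T, b (a x) = x) ∧ ∀ y ∈ T, b y ∈ T ∧ a (b y) = y := by
  have hm : ∀ x ∈ T, a x ∈ T := fun x hx => mp_mem_of_stronglyClosed hT ha hx hx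
  exact ha.exists_symm le_rfl fun y =>
    ⟨fun hy => ha.surj hm hy, fun ⟨x, hx, h⟩ => h ▸ hm x hx⟩

theorem FratC.comp [Finite T] (hT : F.StronglyClosed T) (hI : InvC E F) {P Q : Subgroup Ω}
    {f g : Ω → Ω} (hf : FratC E F P f) (hg : FratC E F Q g) (hPQ : ∀ x ∈ P, f x ∈ Q) :
    FratC E F P (fun x => g (f x)) := by
  obtain ⟨a, ha, f₀, hf₀, h1⟩ := hf
  obtain ⟨b, hb, g₀, hg₀, h2⟩ := hg
  obtain ⟨a', ha', h3, h4⟩ := exists_aut_inv hT ha
  have hm : ∀ x ∈ T, a x ∈ T := fun x hx => mp_mem_of_stronglyClosed hT ha hx hx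
  obtain ⟨R, hR, hRT, -⟩ := hf₀.exists_image le_rfl
  -- `k = a⁻¹ g₀ a` on `f₀(P)`
  have hk : Mp E R (fun y => a' (g₀ (a y))) := by
    refine hI Q R g₀ a' _ hg₀ ha' fun y hy => ⟨a y, ?_, h3 y (hRT hy), rfl⟩
    obtain ⟨x, hx, rfl⟩ := (hR y).1 hy
    rw [← h1 x hx]
    exact hPQ x hx
  refine ⟨fun x => b (a x), ha.comp hb hm, _, hf₀.comp hk fun x hx => (hR _).2 ⟨x, hx, rfl⟩, ?_⟩
  intro x hx
  have h5 : a (f₀ x) ∈ Q := by
    rw [← h1 x hx]
    exact hPQ x hx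
  show g (f x) = b (a (a' (g₀ (a (f₀ x)))))
  rw [(h4 _ (hg₀.mem h5)).2, h1 x hx, h2 _ h5]

theorem FratC.symm [Finite T] (hT : F.StronglyClosed T) (hI : InvC E F) {P R : Subgroup Ω}
    {f g : Ω → Ω} (hf : FratC E F P f)
    (hg : ∀ y ∈ R, ∃ x ∈ P, f x = y ∧ g y = x) : FratC E F R g := by
  obtain ⟨a, ha, f₀, hf₀, h1⟩ := hf
  obtain ⟨a', ha', h3, h4⟩ := exists_aut_inv hT ha
  obtain ⟨R₀, hR₀, hRT, -⟩ := hf₀.exists_image le_rfl
  obtain ⟨f₁, hf₁, h5, h6⟩ := hf₀.exists_symm le_rfl hR₀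
  have hk : Mp E R (fun y => a (g y)) := by
    refine hI R₀ R f₁ a _ hf₁ ha fun y hy => ?_
    obtain ⟨x, hx, hxy, hgy⟩ := hg y hy
    refine ⟨f₀ x, (hR₀ _).2 ⟨x, hx, rfl⟩, ?_, ?_⟩
    · rw [← h1 x hx, hxy]
    · rw [h5 x hx, hgy]
  refine ⟨a', ha', _, hk, fun y hy => ?_⟩
  obtain ⟨x, hx, hxy, hgy⟩ := hg y hy
  show g y = a' (a (g y))
  rw [hgy, h3 x (hf₀.le hx)]

theorem isInvariantIn_iff [Finite T] : E.IsInvariantIn F ↔
    E.IsSubsystemOf F ∧ F.StronglyClosed T ∧ InvC E F ∧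
      ∀ (P : Subgroup Ω) (f : Ω → Ω), P ≤ T → Mp F P f → FratC E F P f := by
  constructor
  · rintro ⟨h1, hT, h3, h4⟩
    refine ⟨h1, hT, ?_, ?_⟩
    · intro P R f a h hf ha hR
      obtain ⟨φ, hφ, hφf⟩ := hf
      have hPT : P ≤ T := (E.le_of_mem hφ).1
      obtain ⟨α, hα, hαa⟩ := ha.exists_aut fun x hx => mp_mem_of_stronglyClosed hT ha hx hx
      obtain ⟨χ, hχ, hχe⟩ := h3 P hPT φ hφ α hα
      have hRle : R ≤ (P.subgroupOf T).map (T.subtype.comp α.toMonoidHom) := by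
        intro y hy
        obtain ⟨x, hx, hxy, -⟩ := hR y hy
        refine ⟨⟨x, hPT hx⟩, hx, ?_⟩
        rw [← hxy, hαa x (hPT hx)]
        rfl
      refine ((mp_ex hχ).res hRle).congr fun y hy => ?_
      obtain ⟨x, hx, hxy, hhy⟩ := hR y hy
      have h5 : ((α ⟨x, hPT hx⟩ : T) : Ω) = y := by rw [← hxy, hαa x (hPT hx)]
      rw [hhy, ex_apply _ (hRle hy)]
      have hfx : f x ∈ T := by rw [← hφf x hx]; exact (E.le_of_mem hφ).2 _
      have h6 := hχe ⟨x, hx⟩ (by rw [hφf x hx]; exact hfx) (by rw [h5]; exact hRle hy)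
      rw [hαa _ hfx]
      have h7 : (⟨φ ⟨x, hx⟩, by rw [hφf x hx]; exact hfx⟩ : T) = ⟨f x, hfx⟩ :=
        Subtype.ext (hφf x hx)
      rw [h7] at h6
      rw [← h6]
      congr 1
      exact Subtype.ext h5
    · intro P f hPT hf
      obtain ⟨φ, hφ, hφf⟩ := hf
      obtain ⟨α, hα, φ₀, hφ₀, h5⟩ := h4 P hPT φ hφ
      refine ⟨_, (mp_iff_autGroup hT.1 α).1 hα, _, mp_ex hφ₀, fun x hx => ?_⟩
      have h6 : φ₀ ⟨x, hx⟩ ∈ T := (E.le_of_mem hφ₀).2 _
      rw [ex_apply (φ₀ : P → Ω) hx, ex_apply _ h6, ← hφf x hx]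
      exact h5 ⟨x, hx⟩ h6
  · rintro ⟨h1, hT, h3, h4⟩
    refine ⟨h1, hT, ?_, ?_⟩
    · intro P hPT φ hφ α hα
      have hA := (mp_iff_autGroup hT.1 α).1 hα
      have h5 : ∀ (x : P), ex (fun x => ((α x : T) : Ω)) x = (α ⟨x, hPT x.2⟩ : T) :=
        fun x => ex_apply _ (hPT x.2)
      classical
      let A := ex (fun x => ((α x : T) : Ω))
      have hAi : ∀ y ∈ (P.subgroupOf T).map (T.subtype.comp α.toMonoidHom), ∃ x, x ∈ P ∧ A x = y := by
        rintro _ ⟨x, hx, rfl⟩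
        exact ⟨x, hx, ex_apply _ x.2⟩
      choose! B hB1 hB2 using hAi
      have h6 := h3 P ((P.subgroupOf T).map (T.subtype.comp α.toMonoidHom)) (ex φ) A
        (fun y => A (ex φ (B y))) (mp_ex hφ) hA (fun y hy => ⟨B y, hB1 y hy, hB2 y hy, rfl⟩)
      obtain ⟨χ, hχ, hχe⟩ := h6
      refine ⟨χ, hχ, fun x hφx hαx => ?_⟩
      rw [hχe _ hαx]
      have h7 : B ((α ⟨x, hPT x.2⟩ : T) : Ω) = x := by
        refine hA.inj (hPT (hB1 _ hαx)) (hPT x.2) ?_
        rw [show ex (fun x => ((α x : T) : Ω)) (B ((α ⟨x, hPT x.2⟩ : T) : Ω)) =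
          A (B ((α ⟨x, hPT x.2⟩ : T) : Ω)) from rfl, hB2 _ hαx, h5 x]
      show A (ex φ (B ((α ⟨x, hPT x.2⟩ : T) : Ω))) = _
      rw [h7, ex_coe]
      exact ex_apply _ hφx
    · intro P hPT φ hφ
      obtain ⟨a, ha, f₀, hf₀, h5⟩ := h4 P (ex φ) hPT (mp_ex hφ)
      obtain ⟨α, hα, hαa⟩ := ha.exists_aut fun x hx => mp_mem_of_stronglyClosed hT ha hx hx
      obtain ⟨φ₀, hφ₀, h6⟩ := hf₀
      refine ⟨α, hα, φ₀, hφ₀, fun x hx => ?_⟩
      rw [← ex_coe (φ : P → Ω) x, h5 x x.2]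
      have h7 : f₀ x ∈ T := by rw [← h6 x x.2]; exact hx
      rw [hαa _ h7]
      congr 2
      exact Subtype.ext (h6 x x.2).symm

/-- Invariance and the Frattini condition give strong invariance. -/
theorem strongInvC_of_invC (hI : InvC E F)
    (hFr : ∀ (P : Subgroup Ω) (f : Ω → Ω), P ≤ T → Mp F P f → FratC E F P f) :
    StrongInvC E F := by
  intro P Q R f g h hPQ hQT hf hfQ hg hR
  obtain ⟨a, ha, g₀, hg₀, h1⟩ := hFr Q g hQT hg
  obtain ⟨R₀, hR₀, hR₀T, -⟩ := hg₀.exists_image hPQ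
  obtain ⟨g₁, hg₁, h2, h3⟩ := hg₀.exists_symm hPQ hR₀
  have hk : Mp E R₀ (fun z => g₀ (f (g₁ z))) :=
    (hg₁.comp hf fun y hy => (h3 y hy).1).comp hg₀ fun y hy => hfQ _ (h3 y hy).1
  refine hI R₀ R _ a h hk ha fun y hy => ?_
  obtain ⟨x, hx, hxy, hhy⟩ := hR y hy
  refine ⟨g₀ x, (hR₀ _).2 ⟨x, hx, rfl⟩, ?_, ?_⟩
  · rw [← h1 x (hPQ hx), hxy]
  · rw [h2 x hx, hhy, h1 _ (hfQ x hx)]

theorem StrongInvC.invC (h : StrongInvC E F) : InvC E F := by
  intro P R f a k hf ha hR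
  exact h P T R f a k hf.le le_rfl hf (fun x hx => hf.mem hx) ha hR

/-- The source grows when normalizing elements of a strongly closed subgroup are added. -/
theorem card_lt_card_sup [Finite S] {p : ℕ} [Fact p.Prime] (hS : IsPGroup p S)
    (hT : F.StronglyClosed T) {Q : Subgroup Ω} (hQS : Q ≤ S) (hTQ : ¬ T ≤ Q) :
    Nat.card Q < Nat.card (Q ⊔ (T ⊓ Subgroup.normalizer (Q : Set Ω)) : Subgroup Ω) := by
  have h1 : Q < Q ⊔ T := lt_of_le_of_ne le_sup_left (fun h => hTQ (h ▸ le_sup_right))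
  obtain ⟨g, hg, hgQ, hgn⟩ := H759.exists_mem_normalizer_not_mem hS (sup_le hQS hT.1) h1
  obtain ⟨q, hq, t, ht, rfl⟩ := (H759.mem_sup_of_normalizes
    (hQS.trans (H759.StronglyClosed.le_normalizer hT))).1 hg
  have htQ : t ∉ Q := fun h => hgQ (mul_mem hq h)
  have htn : t ∈ Subgroup.normalizer (Q : Set Ω) := by
    have h2 := mul_mem (inv_mem (Subgroup.le_normalizer hq)) hgn
    simpa [← mul_assoc] using h2
  have hlt2 : Q < Q ⊔ (T ⊓ Subgroup.normalizer (Q : Set Ω)) := by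
    refine lt_of_le_of_ne le_sup_left (fun h => htQ ?_)
    rw [h]
    exact (le_sup_right : _ ≤ Q ⊔ (T ⊓ Subgroup.normalizer (Q : Set Ω))) ⟨ht, htn⟩
  have hfN : Finite (Q ⊔ (T ⊓ Subgroup.normalizer (Q : Set Ω)) : Subgroup Ω) :=
    Finite.of_injective _ (Subgroup.inclusion_injective (sup_le hQS (inf_le_left.trans hT.1)))
  refine lt_of_le_of_ne (Subgroup.card_le_of_le hlt2.le) (fun h => ?_)
  exact hlt2.ne (Subgroup.eq_of_le_of_card_ge hlt2.le h.ge)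

/-- Strong invariance gives the Frattini condition, in a saturated system. -/
theorem fratC_of_strongInvC [Finite S] {p : ℕ} [Fact p.Prime] (hS : IsPGroup p S)
    (hF : F.IsSaturated p) (hT : F.StronglyClosed T) (hI : StrongInvC E F) :
    ∀ (P : Subgroup Ω) (f : Ω → Ω), Mp F P f → FratC E F (P ⊓ T) f := by
  have hTf : Finite T := H802.finite_of_le hT.1
  refine mp_induction F hS hF (fun P f => FratC E F (P ⊓ T) f) ?_ ?_ ?_ ?_ ?_
  · intro P f g _ h he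
    exact h.congr fun x hx => he x hx.1
  · intro P R f _ h hR
    exact h.res (inf_le_inf_right T hR)
  · intro P Q f g hf hg h1 h2 hPQ
    exact h1.comp hT hI.invC h2 fun x hx => ⟨hPQ x hx.1, mp_mem_of_stronglyClosed hT hf hx.1 hx.2⟩
  · intro P R f g hf h1 hg hinv
    refine h1.symm hT hI.invC fun y hy => ?_
    obtain ⟨x, hx, hxy, hgy⟩ := hinv y hy.1
    exact ⟨x, ⟨hx, mp_mem_of_stronglyClosed' hT hf hx (by rw [hxy]; exact hy.2)⟩, hxy, hgy⟩
  · intro Q hQa hQr IH α hα f hf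
    have hQS : Q ≤ S := hQa.1
    have hfQ : Finite Q := H802.finite_of_le hQS
    have hfm : Mp F Q f := mp_of_autGroup hQS hα hf
    by_cases hTQ : T ≤ Q
    · exact ⟨f, hfm.res hTQ, fun x => x, mp_id E inf_le_right, fun x _ => rfl⟩
    · -- automorphisms of `Q` whose restriction to `Q ∩ T` lies in `E`
      have hQmem : ∀ κ ∈ F.autGroup Q, ∀ x (hx : x ∈ Q), x ∈ T → ((κ ⟨x, hx⟩ : Q) : Ω) ∈ T := by
        intro κ hκ x hx hxT
        have := mp_mem_of_stronglyClosed hT ((mp_iff_autGroup hQS κ).1 hκ) hx hxT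
        rwa [ex_apply _ hx] at this
      let K : Subgroup (MulAut Q) :=
        { carrier := {κ | κ ∈ F.autGroup Q ∧ Mp E (Q ⊓ T) (ex fun x => ((κ x : Q) : Ω))}
          one_mem' := ⟨one_mem _, (mp_id E inf_le_right).congr fun x hx => by
            rw [ex_apply _ hx.1]; rfl⟩
          mul_mem' := by
            rintro a b ⟨ha, ha'⟩ ⟨hb, hb'⟩
            refine ⟨mul_mem ha hb, (hb'.comp ha' fun x hx => ?_).congr fun x hx => ?_⟩
            · rw [ex_apply _ hx.1]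
              exact ⟨(b _).2, hQmem b hb x hx.1 hx.2⟩
            · rw [ex_apply _ hx.1, ex_apply _ hx.1, ex_apply _ (b ⟨x, hx.1⟩).2]
              rfl
          inv_mem' := by
            rintro a ⟨ha, ha'⟩
            refine ⟨inv_mem ha, ha'.symm fun y hy => ⟨((a⁻¹ ⟨y, hy.1⟩ : Q) : Ω),
              ⟨(a⁻¹ _).2, hQmem a⁻¹ (inv_mem ha) y hy.1 hy.2⟩, ?_, ?_⟩⟩
            · rw [ex_apply _ (a⁻¹ ⟨y, hy.1⟩).2]
              show ((a (a⁻¹ ⟨y, hy.1⟩) : Q) : Ω) = y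
              rw [MulAut.apply_inv_self]
            · rw [ex_apply _ hy.1] }
      have hKA : K ≤ F.autGroup Q := fun k hk => hk.1
      have hKn : ∀ a ∈ F.autGroup Q, ∀ k ∈ K, a * k * a⁻¹ ∈ K := by
        rintro a ha k ⟨hk, hk'⟩
        refine ⟨mul_mem (mul_mem ha hk) (inv_mem ha), ?_⟩
        have ha' := (mp_iff_autGroup hQS a).1 ha
        refine hI (Q ⊓ T) (Q ⊓ T) (Q ⊓ T) _ _ _ le_rfl inf_le_right hk' (fun x hx => ?_)
          (ha'.res inf_le_left) fun y hy => ⟨((a⁻¹ ⟨y, hy.1⟩ : Q) : Ω),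
            ⟨(a⁻¹ _).2, hQmem a⁻¹ (inv_mem ha) y hy.1 hy.2⟩, ?_, ?_⟩
        · rw [ex_apply _ hx.1]
          exact ⟨(k _).2, hQmem k hk x hx.1 hx.2⟩
        · rw [ex_apply _ (a⁻¹ ⟨y, hy.1⟩).2]
          show ((a (a⁻¹ ⟨y, hy.1⟩) : Q) : Ω) = y
          rw [MulAut.apply_inv_self]
        · rw [ex_apply _ hy.1, ex_apply (fun x => ((k x : Q) : Ω)) (a⁻¹ ⟨y, hy.1⟩).2,
            ex_apply _ (k _).2]
          rfl
      have hαm := (H759.mem_autGroup F hQS).1 hα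
      obtain ⟨κ, hκ, ψ, hψ, h⟩ := H759.exists_extension F hS hQa hQr hαm (by
          ext y
          constructor
          · rintro ⟨x, rfl⟩; exact (α x).2
          · intro hy
            exact ⟨α⁻¹ ⟨y, hy⟩, by
              show ((α (α⁻¹ ⟨y, hy⟩) : Q) : Ω) = y
              rw [MulAut.apply_inv_self]⟩) K hKA hKn
        (T ⊓ Subgroup.normalizer (Q : Set Ω)) (inf_le_left.trans hT.1) inf_le_right (by
          intro g hg
          have hcg : H759.conjAut Q g hg.2 ∈ K := by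
            refine ⟨H759.autGroup_map F (H759.conj_mem' F hQS (hT.1 hg.1) (fun x => rfl)), ?_⟩
            refine (mp_conj E (P := Q ⊓ T) inf_le_right hg.1).congr fun x hx => ?_
            rw [ex_apply _ hx.1]
            rfl
          refine ⟨α * H759.conjAut Q g hg.2 * α⁻¹, hKn α hα _ hcg, 1, one_mem _, one_mem _, ?_⟩
          intro x hx hy
          have h1 : (⟨1 * (Q.subtype.comp α.toMonoidHom) x * 1⁻¹, hy⟩ : Q) = α x :=
            Subtype.ext (by simp)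
          rw [h1, MulAut.mul_apply, MulAut.mul_apply, MulAut.inv_apply_self]
          rfl)
      have hlt := card_lt_card_sup hS hT hQS hTQ
      have h1 := IH _ (ex ψ) (mp_ex hψ) hlt
      have hle : Q ⊓ T ≤ (Q ⊔ (T ⊓ Subgroup.normalizer (Q : Set Ω))) ⊓ T :=
        inf_le_inf_right T le_sup_left
      have h2 := h1.res hle
      have hκi := K.inv_mem hκ
      have h3 : FratC E F (Q ⊓ T) (ex fun x => ((κ⁻¹ x : Q) : Ω)) := FratC.of_mp hT.1 hκi.2
      have hval : ∀ x (hx : x ∈ Q), ex ψ x = ((κ (α ⟨x, hx⟩) : Q) : Ω) := by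
        intro x hx
        have hx' : x ∈ Q ⊔ (T ⊓ Subgroup.normalizer (Q : Set Ω)) := (le_sup_left : Q ≤ _) hx
        rw [ex_apply _ hx']
        exact h ⟨x, hx⟩ (α ⟨x, hx⟩).2 hx'
      have h4 := h2.comp hT hI.invC h3 (fun x hx => by
        rw [hval x hx.1]
        have h5 := hQmem κ hκ.1 ((α ⟨x, hx.1⟩ : Q) : Ω) (α ⟨x, hx.1⟩).2 (hQmem α hα x hx.1 hx.2)
        exact ⟨(κ _).2, h5⟩)
      refine h4.congr fun x hx => ?_
      rw [hval x hx.1, ex_apply _ (κ _).2, hf x hx.1]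
      show _ = (((κ⁻¹ * κ) (α ⟨x, hx.1⟩) : Q) : Ω)
      rw [inv_mul_cancel]
      rfl

/-- **Invariance is equivalent to strong invariance** in a saturated system. -/
theorem isInvariantIn_iff_strongInvC [Finite S] {p : ℕ} [Fact p.Prime] (hS : IsPGroup p S)
    (hF : F.IsSaturated p) (hE : E.IsSubsystemOf F) (hT : F.StronglyClosed T) :
    E.IsInvariantIn F ↔ StrongInvC E F := by
  have hTf : Finite T := H802.finite_of_le hT.1
  rw [isInvariantIn_iff]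
  constructor
  · rintro ⟨-, -, h1, h2⟩
    exact strongInvC_of_invC h1 h2
  · intro h
    refine ⟨hE, hT, h.invC, fun P f hPT hf => ?_⟩
    exact (fratC_of_strongInvC hS hF hT h P f hf).res (le_inf le_rfl hPT)

end Cfsg.Agent.H752
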