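import Cfsg.Agent.CpAutCoOneFive.Elem

/-!
# Pairs of elements of order five in the stabilizer of a triangle of type 223 (helper752)

`k` : a permutation of order three which fixes the vectors `l32` and `l48` of `CpAutCoOneFive.MatRel`.
The elements `c, b, a, ab, ab², ab³, ab⁴` represent the subgroups of order five of `P3 = ⟨a, b⟩` up to conjugacy in
`P3`.  For each pair `x, y` of them a word `g` in `a, b, k` is given such that `x (g y g⁻¹)` is a non-trivial element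
whose order is prime to five.  Generated by a script; checked by the kernel.
-/

set_option autoImplicit false
set_option Elab.async false
set_option maxRecDepth 100000

namespace Cfsg.Agent.H752.McLPairs

open Cfsg Cfsg.Agent.SporadicStructure.Co0Base
open Cfsg.Agent.SporadicStructure.Co0Matrix Cfsg.Agent.CoOneType.CoEval
open Cfsg.Agent.SporadicA
open Cfsg.Agent.CpAutCoOneFive.Mat Cfsg.Agent.CpAutCoOneFive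

/-- rows of `k` -/
def rK : List (List ℤ) := [
  [0, 0, 0, 0, 0, 0, 0, 0, 0, 0, 0, 0, 0, 0, 0, 0, 8, 0, 0, 0, 0, 0, 0, 0],
  [0, 0, 0, 0, 0, 0, 0, 0, 0, 0, 0, 0, 8, 0, 0, 0, 0, 0, 0, 0, 0, 0, 0, 0],
  [0, 0, 8, 0, 0, 0, 0, 0, 0, 0, 0, 0, 0, 0, 0, 0, 0, 0, 0, 0, 0, 0, 0, 0],
  [0, 0, 0, 0, 0, 0, 0, 0, 0, 0, 0, 8, 0, 0, 0, 0, 0, 0, 0, 0, 0, 0, 0, 0],
  [0, 0, 0, 8, 0, 0, 0, 0, 0, 0, 0, 0, 0, 0, 0, 0, 0, 0, 0, 0, 0, 0, 0, 0],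
  [0, 0, 0, 0, 0, 0, 0, 0, 0, 0, 0, 0, 0, 0, 0, 0, 0, 0, 0, 0, 0, 0, 8, 0],
  [0, 0, 0, 0, 0, 0, 8, 0, 0, 0, 0, 0, 0, 0, 0, 0, 0, 0, 0, 0, 0, 0, 0, 0],
  [0, 0, 0, 0, 0, 0, 0, 8, 0, 0, 0, 0, 0, 0, 0, 0, 0, 0, 0, 0, 0, 0, 0, 0],
  [0, 0, 0, 0, 0, 0, 0, 0, 0, 0, 0, 0, 0, 0, 0, 0, 0, 0, 0, 0, 0, 0, 0, 8],
  [0, 8, 0, 0, 0, 0, 0, 0, 0, 0, 0, 0, 0, 0, 0, 0, 0, 0, 0, 0, 0, 0, 0, 0],
  [0, 0, 0, 0, 0, 0, 0, 0, 8, 0, 0, 0, 0, 0, 0, 0, 0, 0, 0, 0, 0, 0, 0, 0],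
  [0, 0, 0, 0, 8, 0, 0, 0, 0, 0, 0, 0, 0, 0, 0, 0, 0, 0, 0, 0, 0, 0, 0, 0],
  [0, 0, 0, 0, 0, 0, 0, 0, 0, 8, 0, 0, 0, 0, 0, 0, 0, 0, 0, 0, 0, 0, 0, 0],
  [0, 0, 0, 0, 0, 0, 0, 0, 0, 0, 0, 0, 0, 0, 0, 0, 0, 8, 0, 0, 0, 0, 0, 0],
  [8, 0, 0, 0, 0, 0, 0, 0, 0, 0, 0, 0, 0, 0, 0, 0, 0, 0, 0, 0, 0, 0, 0, 0],
  [0, 0, 0, 0, 0, 0, 0, 0, 0, 0, 0, 0, 0, 8, 0, 0, 0, 0, 0, 0, 0, 0, 0, 0],
  [0, 0, 0, 0, 0, 0, 0, 0, 0, 0, 0, 0, 0, 0, 8, 0, 0, 0, 0, 0, 0, 0, 0, 0],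
  [0, 0, 0, 0, 0, 0, 0, 0, 0, 0, 0, 0, 0, 0, 0, 8, 0, 0, 0, 0, 0, 0, 0, 0],
  [0, 0, 0, 0, 0, 0, 0, 0, 0, 0, 0, 0, 0, 0, 0, 0, 0, 0, 8, 0, 0, 0, 0, 0],
  [0, 0, 0, 0, 0, 8, 0, 0, 0, 0, 0, 0, 0, 0, 0, 0, 0, 0, 0, 0, 0, 0, 0, 0],
  [0, 0, 0, 0, 0, 0, 0, 0, 0, 0, 0, 0, 0, 0, 0, 0, 0, 0, 0, 0, 8, 0, 0, 0],
  [0, 0, 0, 0, 0, 0, 0, 0, 0, 0, 0, 0, 0, 0, 0, 0, 0, 0, 0, 0, 0, 8, 0, 0],
  [0, 0, 0, 0, 0, 0, 0, 0, 0, 0, 0, 0, 0, 0, 0, 0, 0, 0, 0, 8, 0, 0, 0, 0],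
  [0, 0, 0, 0, 0, 0, 0, 0, 0, 0, 8, 0, 0, 0, 0, 0, 0, 0, 0, 0, 0, 0, 0, 0]]

/-- columns of `k` -/
def cK : List (List ℤ) := [
  [0, 0, 0, 0, 0, 0, 0, 0, 0, 0, 0, 0, 0, 0, 8, 0, 0, 0, 0, 0, 0, 0, 0, 0],
  [0, 0, 0, 0, 0, 0, 0, 0, 0, 8, 0, 0, 0, 0, 0, 0, 0, 0, 0, 0, 0, 0, 0, 0],
  [0, 0, 8, 0, 0, 0, 0, 0, 0, 0, 0, 0, 0, 0, 0, 0, 0, 0, 0, 0, 0, 0, 0, 0],
  [0, 0, 0, 0, 8, 0, 0, 0, 0, 0, 0, 0, 0, 0, 0, 0, 0, 0, 0, 0, 0, 0, 0, 0],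
  [0, 0, 0, 0, 0, 0, 0, 0, 0, 0, 0, 8, 0, 0, 0, 0, 0, 0, 0, 0, 0, 0, 0, 0],
  [0, 0, 0, 0, 0, 0, 0, 0, 0, 0, 0, 0, 0, 0, 0, 0, 0, 0, 0, 8, 0, 0, 0, 0],
  [0, 0, 0, 0, 0, 0, 8, 0, 0, 0, 0, 0, 0, 0, 0, 0, 0, 0, 0, 0, 0, 0, 0, 0],
  [0, 0, 0, 0, 0, 0, 0, 8, 0, 0, 0, 0, 0, 0, 0, 0, 0, 0, 0, 0, 0, 0, 0, 0],
  [0, 0, 0, 0, 0, 0, 0, 0, 0, 0, 8, 0, 0, 0, 0, 0, 0, 0, 0, 0, 0, 0, 0, 0],
  [0, 0, 0, 0, 0, 0, 0, 0, 0, 0, 0, 0, 8, 0, 0, 0, 0, 0, 0, 0, 0, 0, 0, 0],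
  [0, 0, 0, 0, 0, 0, 0, 0, 0, 0, 0, 0, 0, 0, 0, 0, 0, 0, 0, 0, 0, 0, 0, 8],
  [0, 0, 0, 8, 0, 0, 0, 0, 0, 0, 0, 0, 0, 0, 0, 0, 0, 0, 0, 0, 0, 0, 0, 0],
  [0, 8, 0, 0, 0, 0, 0, 0, 0, 0, 0, 0, 0, 0, 0, 0, 0, 0, 0, 0, 0, 0, 0, 0],
  [0, 0, 0, 0, 0, 0, 0, 0, 0, 0, 0, 0, 0, 0, 0, 8, 0, 0, 0, 0, 0, 0, 0, 0],
  [0, 0, 0, 0, 0, 0, 0, 0, 0, 0, 0, 0, 0, 0, 0, 0, 8, 0, 0, 0, 0, 0, 0, 0],
  [0, 0, 0, 0, 0, 0, 0, 0, 0, 0, 0, 0, 0, 0, 0, 0, 0, 8, 0, 0, 0, 0, 0, 0],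
  [8, 0, 0, 0, 0, 0, 0, 0, 0, 0, 0, 0, 0, 0, 0, 0, 0, 0, 0, 0, 0, 0, 0, 0],
  [0, 0, 0, 0, 0, 0, 0, 0, 0, 0, 0, 0, 0, 8, 0, 0, 0, 0, 0, 0, 0, 0, 0, 0],
  [0, 0, 0, 0, 0, 0, 0, 0, 0, 0, 0, 0, 0, 0, 0, 0, 0, 0, 8, 0, 0, 0, 0, 0],
  [0, 0, 0, 0, 0, 0, 0, 0, 0, 0, 0, 0, 0, 0, 0, 0, 0, 0, 0, 0, 0, 0, 8, 0],
  [0, 0, 0, 0, 0, 0, 0, 0, 0, 0, 0, 0, 0, 0, 0, 0, 0, 0, 0, 0, 8, 0, 0, 0],
  [0, 0, 0, 0, 0, 0, 0, 0, 0, 0, 0, 0, 0, 0, 0, 0, 0, 0, 0, 0, 0, 8, 0, 0],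
  [0, 0, 0, 0, 0, 8, 0, 0, 0, 0, 0, 0, 0, 0, 0, 0, 0, 0, 0, 0, 0, 0, 0, 0],
  [0, 0, 0, 0, 0, 0, 0, 0, 8, 0, 0, 0, 0, 0, 0, 0, 0, 0, 0, 0, 0, 0, 0, 0]]

theorem okK : Ok rK cK := CoOneType.CoFast.ok_of_okZ (by decide +kernel)

/-- The letters `a b k` and their inverses. -/
def M3 : ℕ → List (List ℤ)
  | 0 => rA
  | 1 => rB
  | 2 => rK
  | 3 => cA
  | 4 => cB
  | _ => cK

/-- The element `k`. -/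
def k : Co0 := mk okK

/-- The elements. -/
def f : ℕ → Co0
  | 0 => Elem.a
  | 1 => Elem.b
  | 2 => k
  | 3 => Elem.a⁻¹
  | 4 => Elem.b⁻¹
  | _ => k⁻¹

theorem rep3 : ∀ i, Rep (f i) (M3 i)
  | 0 => rep_mk okA
  | 1 => rep_mk okB
  | 2 => rep_mk okK
  | 3 => rep_inv okA
  | 4 => rep_inv okB
  | _ + 5 => rep_inv okK

/-- the inverse letter -/
def il : ℕ → ℕ
  | 0 => 3
  | 1 => 4
  | 2 => 5
  | 3 => 0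
  | 4 => 1
  | _ => 2

/-- the inverse word -/
def iw (w : List ℕ) : List ℕ := (w.map il).reverse

/-- the representatives `c, b, a, ab, ab², ab³, ab⁴` -/
def rp : ℕ → List ℕ
  | 0 => [0, 1, 3, 4]
  | 1 => [1]
  | 2 => [0]
  | 3 => [0, 1]
  | 4 => [0, 1, 1]
  | 5 => [0, 1, 1, 1]
  | _ => [0, 4]

/-- the conjugating words and the orders -/
def gt : ℕ → ℕ → List ℕ × ℕ
  | 0, 0 => ([2], 3)
  | 0, 1 => ([5], 7)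
  | 0, 2 => ([2], 7)
  | 0, 3 => ([2], 8)
  | 0, 4 => ([2], 6)
  | 0, 5 => ([2], 4)
  | 0, 6 => ([2, 3], 4)
  | 1, 1 => ([2], 4)
  | 1, 2 => ([5, 4], 3)
  | 1, 3 => ([0, 5], 4)
  | 1, 4 => ([0, 2], 4)
  | 1, 5 => ([2, 1], 6)
  | 1, 6 => ([2], 4)
  | 2, 2 => ([2], 3)
  | 2, 3 => ([1, 5], 4)
  | 2, 4 => ([2], 4)
  | 2, 5 => ([5], 3)
  | 2, 6 => ([5], 4)
  | 3, 3 => ([1, 5], 2)
  | 3, 4 => ([0, 2], 4)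
  | 3, 5 => ([1, 5], 4)
  | 3, 6 => ([1, 5], 4)
  | 4, 4 => ([2, 0], 3)
  | 4, 5 => ([1, 2], 3)
  | 4, 6 => ([2, 0], 3)
  | 5, 5 => ([0, 2], 2)
  | 5, 6 => ([4, 2], 4)
  | 6, 6 => ([2, 0], 3)
  | _, _ => ([], 1)

/-- the word `x g y g⁻¹` -/
def wd (i j : ℕ) : List ℕ := rp i ++ ((gt i j).1 ++ (rp j ++ iw (gt i j).1))

/-- the word has the given order prime to five -/
def good (i j : ℕ) : Bool :=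
  oneB M3 (List.replicate (gt i j).2 (wd i j)).flatten && neB M3 (wd i j) && !(Nat.beq ((gt i j).2 % 5) 0)

theorem good0 : (List.range 7).all (fun j => good 0 (0 + j)) = true := by decide +kernel

theorem good1 : (List.range 6).all (fun j => good 1 (1 + j)) = true := by decide +kernel

theorem good2 : (List.range 5).all (fun j => good 2 (2 + j)) = true := by decide +kernel

theorem good3 : (List.range 4).all (fun j => good 3 (3 + j)) = true := by decide +kernel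

theorem good4 : (List.range 3).all (fun j => good 4 (4 + j)) = true := by decide +kernel

theorem good5 : (List.range 2).all (fun j => good 5 (5 + j)) = true := by decide +kernel

theorem good6 : (List.range 1).all (fun j => good 6 (6 + j)) = true := by decide +kernel

theorem good_all {i j : ℕ} (hij : i ≤ j) (hj : j < 7) : good i j = true := by
  have key : ∀ n m : ℕ, m ≤ n → n < 7 → good m n = true := by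
    intro n m hm hn
    obtain ⟨t, rfl⟩ := Nat.exists_eq_add_of_le hm
    have hm7 : m < 7 := by omega
    clear hm
    interval_cases m
    · exact List.all_eq_true.1 good0 t (List.mem_range.2 (by omega))
    · exact List.all_eq_true.1 good1 t (List.mem_range.2 (by omega))
    · exact List.all_eq_true.1 good2 t (List.mem_range.2 (by omega))
    · exact List.all_eq_true.1 good3 t (List.mem_range.2 (by omega))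
    · exact List.all_eq_true.1 good4 t (List.mem_range.2 (by omega))
    · exact List.all_eq_true.1 good5 t (List.mem_range.2 (by omega))
    · exact List.all_eq_true.1 good6 t (List.mem_range.2 (by omega))
  exact key j i hij hj

/-- `k` fixes the two vectors -/
def fixK (l : List ℤ) : Bool := eqL (fold M3 [2] l) l

theorem fixK32 : fixK l32 = true := by decide +kernel

theorem fixK48 : fixK l48 = true := by decide +kernel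

end Cfsg.Agent.H752.McLPairs
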