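import Cfsg.Agent.H752.Gen
import Cfsg.Agent.H802.FusNorm

/-!
# Subsystems of `p`-power index (helper752)
-/

set_option autoImplicit false

namespace Cfsg.Agent.H752

open Cfsg Cfsg.FusionSystem

variable {Ω : Type*} [Group Ω] {S T : Subgroup Ω} {F : FusionSystem S} {E : FusionSystem T} {p : ℕ}

/-- A subgroup of `S` normal in `S` and containing the hyperfocal subgroup is strongly closed. -/
theorem stronglyClosed_of_hyperfocal_le [Finite S] [Fact p.Prime] (hS : IsPGroup p S)
    (hF : F.IsSaturated p) (hTS : T ≤ S) (hTn : ∀ s ∈ S, ∀ t ∈ T, s * t * s⁻¹ ∈ T)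
    (hT : F.hyperfocalSubgroup p ≤ T) : F.StronglyClosed T := by
  have key : ∀ (P : Subgroup Ω) (f : Ω → Ω), Mp F P f → ∀ x ∈ P, (x ∈ T ↔ f x ∈ T) := by
    refine mp_generation F hS hF (fun P f => ∀ x ∈ P, (x ∈ T ↔ f x ∈ T)) ?_ ?_ ?_ ?_ ?_ ?_
    · intro P f g _ h he x hx
      rw [he x hx]
      exact h x hx
    · intro P R f _ h hR x hx
      exact h x (hR hx)
    · intro P Q f g _ _ h1 h2 hPQ x hx
      exact (h1 x hx).trans (h2 _ (hPQ x hx))
    · intro P R f g _ h _ hinv y hy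
      obtain ⟨x, hx, hxy, hgy⟩ := hinv y hy
      rw [hgy, ← hxy]
      exact (h x hx).symm
    · intro P hP s hs x hx
      refine ⟨fun h => hTn s hs x h, fun h => ?_⟩
      have := hTn s⁻¹ (inv_mem hs) _ h
      simpa [mul_assoc] using this
    · intro Q hQa hQr α hα hc f hf x hx
      have h1 := hT (mem_hyperfocal hQa.1 hα hc ⟨x, hx⟩)
      rw [← hf x hx] at h1
      constructor
      · intro h
        have := mul_mem h h1
        simpa using this
      · intro h
        have := mul_mem h (inv_mem h1)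
        simpa using this
  exact stronglyClosed_of_mp hTS fun P f hf hPT x hx => (key P f hf x hx).1 (hPT hx)

/-- In a saturated system over the finite `p`-group `S`, a strongly closed subgroup is fully automized and receptive. -/
theorem automized_receptive_of_stronglyClosed [Finite S] (hF : F.IsSaturated p)
    (hT : F.StronglyClosed T) : F.IsFullyAutomized p T ∧ F.IsReceptive T := by
  obtain ⟨Q, ⟨φ, hφ, hr⟩, h1, h2⟩ := hF T hT.1
  have hfT : Finite T := H802.finite_of_le hT.1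
  have hQT : Q = T := by
    rw [← hr]
    exact H802.range_eq_of_mapsTo hφ fun x => H759.StronglyClosed.apply_mem hT hφ x.2
  rw [hQT] at h1 h2
  exact ⟨h1, h2⟩

/-- Invariance of a saturated subsystem which contains all automorphisms of order prime to `p`. -/
theorem invC_of_prime [Finite T] [Fact p.Prime] (hTp : IsPGroup p T) (hE : E.IsSaturated p)
    (hT : F.StronglyClosed T) (hEF : E.IsSubsystemOf F)
    (hprime : ∀ P : Subgroup Ω, P ≤ T → ∀ α ∈ F.autGroup P, Nat.Coprime (orderOf α) p →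
      α ∈ E.autGroup P) : InvC E F := by
  have key : ∀ (P : Subgroup Ω) (f : Ω → Ω), Mp E P f → ∀ (R : Subgroup Ω) (a h : Ω → Ω),
      Mp F T a → (∀ y ∈ R, ∃ x ∈ P, a x = y ∧ h y = a (f x)) → Mp E R h := by
    have hm : ∀ a : Ω → Ω, Mp F T a → ∀ x ∈ T, a x ∈ T := fun a ha x hx =>
      mp_mem_of_stronglyClosed hT ha hx hx
    refine mp_generation E hTp hE (fun P f => ∀ (R : Subgroup Ω) (a h : Ω → Ω),
      Mp F T a → (∀ y ∈ R, ∃ x ∈ P, a x = y ∧ h y = a (f x)) → Mp E R h) ?_ ?_ ?_ ?_ ?_ ?_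
    · intro P f g _ hM he R a h ha hR
      refine hM R a h ha fun y hy => ?_
      obtain ⟨x, hx, h1, h2⟩ := hR y hy
      exact ⟨x, hx, h1, by rw [h2, he x hx]⟩
    · intro P R' f _ hM hR' R a h ha hR
      refine hM R a h ha fun y hy => ?_
      obtain ⟨x, hx, h1, h2⟩ := hR y hy
      exact ⟨x, hR' hx, h1, h2⟩
    · intro P Q f g hf hg hMf hMg hPQ R a h ha hR
      obtain ⟨a', ha', h3, h4⟩ := exists_aut_inv hT ha
      have h1 : Mp E R (fun y => a (f (a' y))) := by
        refine hMf R a _ ha fun y hy => ?_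
        obtain ⟨x, hx, hxy, -⟩ := hR y hy
        refine ⟨x, hx, hxy, ?_⟩
        rw [← hxy, h3 x (hf.le hx)]
      obtain ⟨R₁, hR₁, hR₁T, -⟩ := h1.exists_image le_rfl
      have h2 : Mp E R₁ (fun y => a (g (a' y))) := by
        refine hMg R₁ a _ ha fun y hy => ?_
        obtain ⟨z, hz, rfl⟩ := (hR₁ y).1 hy
        obtain ⟨x, hx, hxz, -⟩ := hR z hz
        refine ⟨f x, hPQ x hx, ?_, ?_⟩
        · rw [← hxz, h3 x (hf.le hx)]
        · show a (g (a' (a (f (a' z))))) = a (g (f x))
          rw [← hxz, h3 x (hf.le hx), h3 _ (hf.mem hx)]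
      refine (h1.comp h2 fun y hy => (hR₁ _).2 ⟨y, hy, rfl⟩).congr fun y hy => ?_
      obtain ⟨x, hx, hxy, hhy⟩ := hR y hy
      show h y = a (g (a' (a (f (a' y)))))
      rw [hhy, ← hxy, h3 x (hf.le hx), h3 _ (hf.mem hx)]
    · intro P R' f g hf hMf _ hinv R a h ha hR
      obtain ⟨a', ha', h3, h4⟩ := exists_aut_inv hT ha
      obtain ⟨R₁, hR₁, hR₁T, -⟩ := (ha.res hf.le).exists_image le_rfl
      have h1 : Mp E R₁ (fun y => a (f (a' y))) := by
        refine hMf R₁ a _ ha fun y hy => ?_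
        obtain ⟨x, hx, hxy⟩ := (hR₁ y).1 hy
        refine ⟨x, hx, hxy, ?_⟩
        rw [← hxy, h3 x (hf.le hx)]
      refine h1.symm fun y hy => ?_
      obtain ⟨z, hz, hzy, hhy⟩ := hR y hy
      obtain ⟨x, hx, hxz, hgz⟩ := hinv z hz
      refine ⟨a x, (hR₁ _).2 ⟨x, hx, rfl⟩, ?_, ?_⟩
      · show a (f (a' (a x))) = y
        rw [h3 x (hf.le hx), hxz, hzy]
      · rw [hhy, hgz]
    · intro P hP t ht R a h ha hR
      have hRT : R ≤ T := by
        intro y hy
        obtain ⟨x, hx, hxy, -⟩ := hR y hy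
        rw [← hxy]
        exact hm a ha x (hP hx)
      refine (mp_conj E hRT (hm a ha t ht)).congr fun y hy => ?_
      obtain ⟨x, hx, hxy, hhy⟩ := hR y hy
      have hxT : x ∈ T := hP hx
      rw [hhy, ← hxy, ha.mul (mul_mem ht hxT) (inv_mem ht), ha.mul ht hxT, ha.inv ht]
    · intro Q hQa hQr α hα hc f hf R a h ha hR
      have hQT : Q ≤ T := hQa.1
      have hfQ : Finite Q := H802.finite_of_le hQT
      have hαF : α ∈ F.autGroup Q := by
        rw [mp_iff_autGroup (hQT.trans hT.1)]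
        exact mp_mono hEF ((mp_iff_autGroup hQT α).1 hα)
      obtain ⟨φ, hφ, hφa⟩ := ha.res hQT
      have hi := F.injective_of_mem hφ
      have hQ'T : φ.range ≤ T := by
        rintro _ ⟨x, rfl⟩
        rw [hφa x x.2]
        exact hm a ha x (hQT x.2)
      have h1 : MulAut.congr (H802.isoOf φ hi rfl) α ∈ F.autGroup φ.range :=
        H802.congr_mem_autGroup hφ rfl hαF
      have h2 : Nat.Coprime (orderOf (MulAut.congr (H802.isoOf φ hi rfl) α)) p := by
        have h5 : orderOf (MulAut.congr (H802.isoOf φ hi rfl) α) = orderOf α :=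
          orderOf_injective (MulAut.congr (H802.isoOf φ hi rfl)).toMonoidHom
            (MulAut.congr (H802.isoOf φ hi rfl)).injective α
        rw [h5]
        exact hc
      have h3 := (mp_iff_autGroup hQ'T _).1 (hprime φ.range hQ'T _ h1 h2)
      have hRle : R ≤ φ.range := by
        intro y hy
        obtain ⟨x, hx, hxy, -⟩ := hR y hy
        exact ⟨⟨x, hx⟩, by rw [hφa, hxy]⟩
      refine (h3.res hRle).congr fun y hy => ?_
      obtain ⟨x, hx, hxy, hhy⟩ := hR y hy
      rw [hhy, ex_apply _ (hRle hy), hf x hx]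
      have h4 : (⟨y, hRle hy⟩ : φ.range) = H802.isoOf φ hi rfl ⟨x, hx⟩ := Subtype.ext
        (hxy.symm.trans (hφa x hx).symm)
      rw [h4]
      show a ((α ⟨x, hx⟩ : Q) : Ω) = ((H802.isoOf φ hi rfl (α ((H802.isoOf φ hi rfl).symm
        (H802.isoOf φ hi rfl ⟨x, hx⟩))) : φ.range) : Ω)
      rw [MulEquiv.symm_apply_apply]
      exact (hφa _ (α ⟨x, hx⟩).2).symm
  intro P R f a h hf ha hR
  exact key P f hf R a h ha hR

/-- The Frattini condition for a subsystem which contains all automorphisms of order prime to `p`. -/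
theorem fratC_of_prime [Finite S] [Fact p.Prime] (hS : IsPGroup p S) (hF : F.IsSaturated p)
    (hT : F.StronglyClosed T) (hI : InvC E F)
    (hprime : ∀ P : Subgroup Ω, P ≤ T → ∀ α ∈ F.autGroup P, Nat.Coprime (orderOf α) p →
      α ∈ E.autGroup P) :
    ∀ (P : Subgroup Ω) (f : Ω → Ω), Mp F P f → FratC E F (P ⊓ T) f := by
  have hTf : Finite T := H802.finite_of_le hT.1
  refine mp_generation F hS hF (fun P f => FratC E F (P ⊓ T) f) ?_ ?_ ?_ ?_ ?_ ?_
  · intro P f g _ h he
    exact h.congr fun x hx => he x hx.1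
  · intro P R f _ h hR
    exact h.res (inf_le_inf_right T hR)
  · intro P Q f g hf hg h1 h2 hPQ
    exact h1.comp hT hI h2 fun x hx => ⟨hPQ x hx.1, mp_mem_of_stronglyClosed hT hf hx.1 hx.2⟩
  · intro P R f g hf h1 hg hinv
    refine h1.symm hT hI fun y hy => ?_
    obtain ⟨x, hx, hxy, hgy⟩ := hinv y hy.1
    exact ⟨x, ⟨hx, mp_mem_of_stronglyClosed' hT hf hx (by rw [hxy]; exact hy.2)⟩, hxy, hgy⟩
  · intro P hP s hs
    exact ⟨_, mp_conj F hT.1 hs, fun x => x, mp_id E inf_le_right, fun x _ => rfl⟩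
  · intro Q hQa hQr α hα hc f hf
    have hQS : Q ≤ S := hQa.1
    have hfm : Mp F Q f := mp_of_autGroup hQS hα hf
    have hfQT : Finite (Q ⊓ T : Subgroup Ω) := H802.finite_of_le (inf_le_left.trans hQS)
    obtain ⟨α', hα', hr⟩ := exists_restr (P := Q ⊓ T) inf_le_left hQS hα (fun x hx => by
      refine ⟨(α _).2, ?_⟩
      have := mp_mem_of_stronglyClosed hT hfm hx.1 hx.2
      rwa [hf x hx.1] at this)
    have hc' : Nat.Coprime (orderOf α') p := Nat.Coprime.coprime_dvd_left hr.orderOf_dvd hc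
    have h1 := hprime _ inf_le_right α' hα' hc'
    refine FratC.of_mp hT.1 (mp_of_autGroup inf_le_right h1 fun x hx => ?_)
    rw [hf x hx.1]
    exact hr x hx

end Cfsg.Agent.H752
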